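import Mathlib
import Cfsg.Prelude.Def_LieTypeChar
import Cfsg.Agent.H966.PSpField
import Cfsg.Agent.ClassicalGeometry.SympAutTwo
import Cfsg.Agent.ClassicalGeometry.SympAutExists
import Cfsg.Agent.ClassicalGeometry.SympAutCentral
import Cfsg.Agent.H183.OutSp4
import Cfsg.Agent.H523.FpfBad

/-!
# Automorphisms of odd prime order of projective symplectic groups (helper521)

* `oddFix_psp` : an automorphism of odd prime order of `PSp m F` (`m ≥ 3` or `|F|` odd) is inner or fixes an element of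
  order `r = char F`;
* `noBad_psp` : `NoBad` for all simple projective symplectic groups.
-/

set_option autoImplicit false
set_option linter.unusedSectionVars false

namespace Cfsg.Agent.H521.OddFixSymp

open Cfsg Cfsg.Agent.H523
open scoped Matrix
open Cfsg.Agent.CpAut.Descent (Semi hilbert90 span_fixed exists_scale)
open Cfsg.Agent.ClassicalGeometry.SympBasic Cfsg.Agent.ClassicalGeometry.SympAutSemi
  Cfsg.Agent.ClassicalGeometry.SympGamma Cfsg.Agent.H966.PSpField

variable {F : Type*} [Field F] {m : ℕ}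

/-- `Psi` of `rho`. -/
theorem Psi_rho (A : Matrix.symplecticGroup (Fin m) F) (h : rho m F A ∈ semiSim m F) :
    Psi m F ⟨rho m F A, h⟩ = MulAut.conj (QuotientGroup.mk A) := by
  ext x
  induction x using QuotientGroup.induction_on with
  | H s =>
    rw [Psi_mk, MulAut.conj_apply]
    have : conjHom m F ⟨rho m F A, h⟩ s = A * s * A⁻¹ := by
      apply rho_injective
      rw [rho_conjHom, map_mul, map_mul, map_inv]
    rw [this]
    rfl

/-- The square of an automorphism induced by a similitude is inner. -/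
theorem psi_sq_inner {h : semiSim m F} {e : F} (he : e ≠ 0) (hh : IsSemi h.1 (RingEquiv.refl F) e) :
    ∃ g : PSp m F, Psi m F h ^ 2 = MulAut.conj g := by
  have h2 := hh.mul hh
  have h3 := (isSemi_scal (m := m) (Units.mk0 e he)⁻¹).mul h2
  obtain ⟨A, hA⟩ := exists_rho_eq (scal m F (Units.mk0 e he)⁻¹ * (h.1 * h.1)) h3.1 h3.2.1 (by
    intro u v
    rw [h3.2.2]
    have : ((((Units.mk0 e he)⁻¹ : Fˣ) : F) * ((Units.mk0 e he)⁻¹ : Fˣ) *
        (RingEquiv.refl F) (e * (RingEquiv.refl F) e)) = 1 := by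
      change (((Units.mk0 e he)⁻¹ : Fˣ) : F) * ((Units.mk0 e he)⁻¹ : Fˣ) * (e * e) = 1
      rw [Units.val_inv_eq_inv_val, Units.val_mk0]
      field_simp
    rw [this, one_mul]
    rfl)
  have hs : scal m F (Units.mk0 e he) ∈ semiSim m F :=
    ⟨RingEquiv.refl F, _, mul_ne_zero (Units.ne_zero _) (Units.ne_zero _), isSemi_scal _⟩
  have hr : rho m F A ∈ semiSim m F := ⟨RingEquiv.refl F, 1, one_ne_zero, isSemi_rho A⟩
  refine ⟨QuotientGroup.mk A, ?_⟩
  rw [← Psi_rho A hr]
  have h4 : h * h = ⟨scal m F (Units.mk0 e he), hs⟩ * ⟨rho m F A, hr⟩ := by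
    apply Subtype.ext
    change h.1 * h.1 = scal m F (Units.mk0 e he) * rho m F A
    rw [hA, ← mul_assoc]
    ext1 v
    rw [Equiv.Perm.mul_apply, Equiv.Perm.mul_apply, Equiv.Perm.mul_apply, scal_apply, scal_apply, smul_smul,
      ← Units.val_mul, mul_inv_cancel, Units.val_one, one_smul, Equiv.Perm.mul_apply]
  rw [pow_two, ← map_mul, h4, map_mul, Psi_scal, one_mul]

/-- Powers of a transvection. -/
theorem transv_pow (v : Fin m ⊕ Fin m → F) (c : F) (n : ℕ) : transv v c ^ n = transv v (n * c) := by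
  induction n with
  | zero =>
    rw [pow_zero, Nat.cast_zero, zero_mul]
    exact Subtype.ext (sympTransvection_zero v).symm
  | succ n ih =>
    rw [pow_succ, ih]
    apply Subtype.ext
    change sympTransvection m v (n * c) * sympTransvection m v c = _
    rw [sympTransvection_mul]
    change _ = sympTransvection m v (((n + 1 : ℕ) : F) * c)
    congr 1
    push_cast
    ring

/-- A nontrivial transvection is not central. -/
theorem transv_not_central {v : Fin m ⊕ Fin m → F} (hv : v ≠ 0) {c : F} (hc : c ≠ 0) :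
    transv v c ∉ Subgroup.center (Matrix.symplecticGroup (Fin m) F) := by
  intro h
  obtain ⟨b, -, hb⟩ := Cfsg.Agent.ClassicalGeometry.SympAutCentral.center_scalar h
  have hb' : ∀ x : Fin m ⊕ Fin m → F,
      x + (c * sympForm m F x v) • v = b • x := by
    intro x
    have h1 : sympTransvection m v c *ᵥ x = b • x := hb x
    rwa [sympTransvection_mulVec] at h1
  have hb1 : b = 1 := by
    have h1 := hb' v
    rw [sympForm_self, mul_zero, zero_smul, add_zero] at h1
    have h2 : ((1 : F) - b) • v = 0 := by rw [sub_smul, one_smul, ← h1, sub_self]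
    exact (sub_eq_zero.1 ((smul_eq_zero.1 h2).resolve_right hv)).symm
  apply hv
  apply eq_zero_of_forall_sympForm_left
  intro x
  have h1 := hb' x
  rw [hb1, one_smul, add_eq_left] at h1
  exact (mul_eq_zero.1 ((smul_eq_zero.1 h1).resolve_right hv)).resolve_left hc

/-- **An automorphism of prime order induced by a semisimilitude with nontrivial field automorphism fixes an element of
order `r`.** -/
theorem exists_fixed [Finite F] (hm : 1 ≤ m) {r : ℕ} [CharP F r] {g : semiSim m F} {σ : F ≃+* F} {l : F}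
    (hl : l ≠ 0) (hg : IsSemi g.1 σ l) (hσ : σ ≠ 1) {p : ℕ} (hp : p.Prime) (h : Psi m F g ^ p = 1) :
    ∃ s : PSp m F, s ≠ 1 ∧ s ^ r = 1 ∧ Psi m F g s = s := by
  rw [← map_pow] at h
  obtain ⟨a, ha⟩ := exists_scal_of_Psi_eq_one hm _ h
  have ha' : g.1 ^ p = Cfsg.Agent.ClassicalGeometry.SympGamma.scal m F a := ha
  have hσr : σ ^ p = 1 := by
    have h1 := isSemi_pow hg p
    rw [ha'] at h1
    exact (IsSemi.unique hm h1 (isSemi_scal a)).1
  have hord : orderOf σ = p := by
    rcases (Nat.dvd_prime hp).1 (orderOf_dvd_of_pow_eq_one hσr) with h1 | h1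
    · exact absurd (orderOf_eq_one_iff.1 h1) hσ
    · exact h1
  have hne : ∃ v : Fin m ⊕ Fin m → F, v ≠ 0 := ⟨Pi.single (Sum.inl ⟨0, by omega⟩) 1, by
      intro h0
      have := congrFun h0 (Sum.inl ⟨0, by omega⟩)
      simp at this⟩
  obtain ⟨c, hc⟩ := exists_scale (semi_of_isSemi hg) hord hp.pos (l := a) a.ne_zero
    (fun v => by rw [ha']; rfl) hne
  have hg' := (isSemi_scal (m := m) c).mul hg
  have hσ2 : σ.trans (RingEquiv.refl F) = σ := by ext; rfl
  rw [hσ2] at hg'
  set l' : F := (c : F) * c * (RingEquiv.refl F) l with hl'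
  have hl0 : l' ≠ 0 := mul_ne_zero (mul_ne_zero c.ne_zero c.ne_zero) hl
  have hsm : Cfsg.Agent.ClassicalGeometry.SympGamma.scal m F c ∈ semiSim m F :=
    ⟨RingEquiv.refl F, _, mul_ne_zero c.ne_zero c.ne_zero, isSemi_scal c⟩
  let N : semiSim m F := ⟨Cfsg.Agent.ClassicalGeometry.SympGamma.scal m F c, hsm⟩ * g
  have hN : IsSemi N.1 σ l' := hg'
  have hNl : N.1 ^ p = 1 := hc
  have hpsi : Psi m F N = Psi m F g := by
    change Psi m F (⟨Cfsg.Agent.ClassicalGeometry.SympGamma.scal m F c, hsm⟩ * g) = _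
    rw [map_mul, Psi_scal, one_mul]
  rw [← hpsi]
  obtain ⟨e, he0, he⟩ := hilbert90 hord hp.pos (norm_eq_one hm hN hNl)
  obtain ⟨v, hv, hv0⟩ : ∃ v, N.1 v = v ∧ v ≠ 0 := by
    by_contra hcon
    push Not at hcon
    have hspan := span_fixed (semi_of_isSemi hN) hord hp.pos hNl
    have hle : Submodule.span F {v : Fin m ⊕ Fin m → F | N.1 v = v} ≤ ⊥ := by
      rw [Submodule.span_le]
      intro u hu
      exact hcon u hu
    rw [hspan] at hle
    obtain ⟨v, hv⟩ := hne
    exact hv ((Submodule.mem_bot F).1 (hle trivial))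
  refine ⟨QuotientGroup.mk (transv v e⁻¹), ?_, ?_, ?_⟩
  · intro h1
    exact transv_not_central hv0 (inv_ne_zero he0) ((QuotientGroup.eq_one_iff _).1 h1)
  · rw [← QuotientGroup.mk_pow, transv_pow, CharP.cast_eq_zero, zero_mul]
    have h1 : transv v (0 : F) = 1 := Subtype.ext (sympTransvection_zero v)
    rw [h1]
    rfl
  · rw [Psi_mk, conjHom_transv N hl0 hN, hv, map_inv₀]
    have h1 : l' * σ e = e := he
    have h2 : (σ e)⁻¹ * l'⁻¹ = e⁻¹ := by rw [← mul_inv, mul_comm, h1]
    rw [h2]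

/-- **`OddFix` for `PSp`.** -/
theorem oddFix_psp [Finite F] (hm : 2 ≤ m) (h : 3 ≤ m ∨ (2 : F) ≠ 0) {r : ℕ} [CharP F r] : OddFix r (PSp m F) := by
  intro p hp hp2 _ z hz hfix
  obtain ⟨g, rfl⟩ : ∃ g, Psi m F g = z := by
    obtain ⟨g, hg⟩ := ClassicalGeometry.SympAutExists.exists_semi hm z
      (ClassicalGeometry.SympAutOddA.recog hm h z)
    exact ⟨g, hg⟩
  obtain ⟨σ, l, hl, hg⟩ := g.2
  by_cases hσ : σ = 1
  · subst hσ
    obtain ⟨x, hx⟩ := psi_sq_inner hl hg
    have hco : Nat.Coprime 2 p := (Nat.coprime_primes Nat.prime_two hp).2 (Ne.symm hp2)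
    obtain ⟨k, hk⟩ := Nat.exists_mul_mod_eq_one_of_coprime hco hp.one_lt
    refine ⟨x ^ k, ?_⟩
    rw [map_pow, ← hx, ← pow_mul]
    have h1 : Psi m F g ^ (2 * k) = Psi m F g ^ (2 * k % p) := by rw [← hz, pow_mod_orderOf]
    rw [h1, hk.2, pow_one]
  · exfalso
    obtain ⟨s, hs1, hsr, hs⟩ := exists_fixed (by omega) (r := r) hl hg hσ hp (by rw [← hz, pow_orderOf_eq_one])
    exact hs1 (hfix s hs hsr)

/-- A group of automorphisms meeting `Inn S` trivially is cyclic if `Out S` is cyclic. -/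
theorem isCyclic_of_out {S : Type*} [Group S] {A : Subgroup (MulAut S)} (hA : ∀ a ∈ A, (∃ g : S, a = MulAut.conj g) → a = 1)
    (h : IsCyclic (Cfsg.Out S)) : IsCyclic A := by
  let f : A →* Cfsg.Out S := (QuotientGroup.mk' _).comp A.subtype
  have hf : Function.Injective f := by
    rw [injective_iff_map_eq_one]
    intro a ha
    have h1 : (a : MulAut S) ∈ Cfsg.Inn S := (QuotientGroup.eq_one_iff _).1 ha
    obtain ⟨g, hg⟩ := h1
    exact Subtype.ext (hA a a.2 ⟨g, hg.symm⟩)
  exact isCyclic_of_injective f hf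

/-- **No bad groups of automorphisms of the simple projective symplectic groups.** -/
theorem noBad_psp {r : ℕ} {S : Type*} [Group S] [Finite S] (hr : r.Prime) (h2 : 2 ∣ Nat.card S) (hrS : r ∣ Nat.card S)
    (h : Cfsg.IsPSpChar r S) : NoBad r S := by
  obtain ⟨F, _, _, _, m, hm, -, ⟨e⟩⟩ := h
  by_cases h3 : 3 ≤ m ∨ (2 : F) ≠ 0
  · exact noBad_of_oddFix hr h2 hrS ((oddFix_psp hm h3).congr e.symm)
  · push Not at h3
    have hm2 : m = 2 := by omega
    subst hm2
    refine noBad_of_cyclic hr hrS fun A hA => ?_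
    have hc2 : CharP F 2 := CharTwo.of_one_ne_zero_of_two_eq_zero one_ne_zero h3.2
    obtain ⟨f, -, hf⟩ := FiniteField.card F 2
    have hout := (Cfsg.Agent.H183.OutSp4.out_psp4 f.pos hf).1
    -- transport
    let φ : MulAut S ≃* MulAut (PSp 2 F) := MulAut.congr e
    have h4 : IsCyclic (A.map φ.toMonoidHom) := by
      refine isCyclic_of_out ?_ hout
      rintro _ ⟨a, ha, rfl⟩ ⟨g, hg⟩
      have h5 : a = MulAut.conj (e.symm g) := by
        ext x
        have h6 := DFunLike.congr_fun hg (e x)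
        change e (a (e.symm (e x))) = g * e x * g⁻¹ at h6
        rw [MulEquiv.symm_apply_apply] at h6
        apply e.injective
        rw [h6, MulAut.conj_apply, map_mul, map_mul, map_inv, MulEquiv.apply_symm_apply]
      rw [hA.inn a ha ⟨_, h5⟩, map_one]
    exact isCyclic_of_injective (A.equivMapOfInjective φ.toMonoidHom φ.injective).toMonoidHom
      (A.equivMapOfInjective φ.toMonoidHom φ.injective).injective

end Cfsg.Agent.H521.OddFixSymp
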