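import Cfsg.Agent.H521.CoxThree
import Cfsg.Agent.H521.OddFixOrth
import Cfsg.Agent.Mrg.Omega.ML.Ex.Typ.List
import Cfsg.Agent.H864.TrThree

/-!
# Automorphisms of order three of `E₆(q)`, `²E₆(q)`, `PΩ⁺₈(q)` fix an element of order `r` (helper521)

* `exists_fixed_of_splitT` : `K` with a split (B,N)-pair of characteristic `r` and type `D₄`, `E₆` or `F₄`;
* `exists_fixed_E6`, `exists_fixed_twE6`, `exists_fixed_D4`;
* `oddFix_plus_four'`, `oddFix_plus'` : `OddFix r (PΩ⁺_{2m}(q))`, all `m ≥ 4`.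
-/

set_option autoImplicit false

namespace Cfsg.Agent.H521.FpfThree

open CoxeterSystem Cfsg Cfsg.Agent.Omega.ML.Ex.Typ Cfsg.Agent.H521.CoxThree Cfsg.Agent.FixBN Cfsg.Agent.H523

universe u v

/-- The hypothesis on the Coxeter matrix. -/
def GoodM {l : ℕ} (M : CoxeterMatrix (Fin l)) : Prop :=
  ∀ σ : Equiv.Perm (Fin l), σ ^ 3 = 1 → Sym M σ → ∃ ω, Good.{u} M σ ω

theorem goodM_D4 : GoodM.{u} Cfsg.Lie.coxeterD4 := fun _ h3 hσ => exists_good_D4 h3 hσ
theorem goodM_E6 : GoodM.{u} CoxeterMatrix.E₆ := fun _ h3 hσ => exists_good_E6 h3 hσ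
theorem goodM_F4 : GoodM.{u} CoxeterMatrix.F₄ := fun _ h3 hσ => exists_good_F4 h3 hσ

theorem false_of_splitT {K : Type u} [Group K] [Finite K] {r : ℕ} (hr : r.Prime) {l : ℕ}
    {M : CoxeterMatrix (Fin l)} (hM : GoodM.{u} M) (h : HasSplitT r M K) {z : MulAut K} (hz : z ^ 3 = 1)
    (hfix : ∀ s : K, z s = s → s ^ r = 1 → s = 1) : False := by
  have : Fact r.Prime := ⟨hr⟩
  obtain ⟨P, U, e, hS, hN, cs, hcs⟩ := h
  refine H864.TrThree.false_of_three hS e cs hcs (fun σ h1 h2 => ?_) z hz hfix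
  let s : Equiv.Perm (Fin l) :=
    { toFun := σ
      invFun := fun i => σ (σ i)
      left_inv := h2
      right_inv := h2 }
  have hs3 : s ^ 3 = 1 := by
    ext i
    rw [pow_succ, pow_two]
    change ((σ (σ (σ i)) : Fin l) : ℕ) = i
    rw [h2]
  obtain ⟨ω, hω⟩ := hM s hs3 h1
  refine ⟨ω, ?_, fun X hX hi i => ?_, hω.red cs, hω.len cs⟩
  · rintro rfl
    exact hω.ne cs cs.wordProd_nil
  · have h3 := hω.supp X hi hX
    rw [h3]
    trivial

theorem exists_fixed_of_splitT {K : Type u} [Group K] [Finite K] {r : ℕ} (hr : r.Prime) {l : ℕ}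
    {M : CoxeterMatrix (Fin l)} (hM : GoodM.{u} M) (h : HasSplitT r M K) {z : MulAut K} (hz : z ^ 3 = 1) :
    ∃ s : K, s ≠ 1 ∧ s ^ r = 1 ∧ z s = s := by
  by_contra hcon
  push Not at hcon
  exact false_of_splitT hr hM h hz fun s h1 h2 => by
    by_contra h3
    exact hcon s h3 h2 h1

/-- **`E₆(q)`.** -/
theorem exists_fixed_E6 {F : Type v} [Field F] [Fintype F] {r : ℕ} [CharP F r] {K : Type u} [Group K] [Finite K]
    [IsSimpleGroup K] (e : K ≃* ↥(Lie.chevE6.group F)) {z : MulAut K} (hz : z ^ 3 = 1) :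
    ∃ s : K, s ≠ 1 ∧ s ^ r = 1 ∧ z s = s := by
  have hr : r.Prime := CharP.char_is_prime F r
  have h1 : HasRGDT r CoxeterMatrix.E₆ ↥(Lie.chevE6.group F) :=
    typ_group (by simp [Nodes.RGDChev.IsType, Nodes.RGDChev.typeList]) F r
  exact exists_fixed_of_splitT hr goodM_E6 ((h1.of_equiv e.symm).hasSplitT hr (by norm_num)) hz

/-- **`²E₆(q)`.** -/
theorem exists_fixed_twE6 {F : Type v} [Field F] [Fintype F] {r : ℕ} [CharP F r] {q : ℕ} (hq : IsPrimePow q)
    (hF : Fintype.card F = q ^ 2) {K : Type u} [Group K] [Finite K]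
    [IsSimpleGroup K] (e : K ≃* ↥(Lie.twistedE6 F q)) {z : MulAut K} (hz : z ^ 3 = 1) :
    ∃ s : K, s ≠ 1 ∧ s ^ r = 1 ∧ z s = s := by
  have hr : r.Prime := CharP.char_is_prime F r
  exact exists_fixed_of_splitT hr goodM_F4 (((typ_twE6 hq hF r).of_equiv e.symm).hasSplitT hr (by norm_num)) hz

/-- **`PΩ⁺₈(q)`.** -/
theorem exists_fixed_D4 {F : Type v} [Field F] [Fintype F] {r : ℕ} [CharP F r] {K : Type u} [Group K] [Finite K]
    [IsSimpleGroup K] (e : K ≃* Cfsg.POmega F (Cfsg.quadFormPlus 4 F)) {z : MulAut K} (hz : z ^ 3 = 1) :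
    ∃ s : K, s ≠ 1 ∧ s ^ r = 1 ∧ z s = s := by
  have hr : r.Prime := CharP.char_is_prime F r
  have : Fact r.Prime := ⟨hr⟩
  have h1 : HasRGDT r Cfsg.Lie.coxeterD4 (Cfsg.POmega F (Cfsg.quadFormPlus 4 F)) := by
    rw [← M_two]
    exact typ_PO_plus 1
  exact exists_fixed_of_splitT hr goodM_D4 ((h1.of_equiv e.symm).hasSplitT hr (by norm_num)) hz

/-- **`PΩ⁺_{2m}(q)`, `m ≥ 4`.** -/
theorem oddFix_plus' {r : ℕ} {S : Type u} [Group S] [Finite S] [IsSimpleGroup S] (h : IsPOmegaPlusChar r S) :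
    OddFix r S := by
  obtain ⟨F, _, _, _, m, hm, ⟨e⟩⟩ := h
  rcases Nat.eq_or_lt_of_le hm with rfl | hm
  · refine (OddFixOrth.oddFix_plus_four fun _ z hz _ => ?_).congr e.symm
    have hG := AutOrth.Main.good_plus (F := F) (by norm_num : 3 ≤ 4)
    have e1 := (AutOrth.Main.pe hG).symm
    rw [Cfsg.Agent.LieClassical.QuadForms.coe_plusForm] at e1
    have h1 : IsSimpleGroup (ClassicalGeometry.OrthAut1.P (LieClassical.QuadForms.plusForm 4 F)) :=
      (MulEquiv.isSimpleGroup_congr (e1.trans e.symm)).2 inferInstance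
    have h2 : Finite (ClassicalGeometry.OrthAut1.P (LieClassical.QuadForms.plusForm 4 F)) :=
      Finite.of_equiv _ (e1.trans e.symm).symm.toEquiv
    exact exists_fixed_D4 e1 (by rw [← hz]; exact pow_orderOf_eq_one z)
  · exact (OddFixOrth.oddFix_plus hm).congr e.symm

end Cfsg.Agent.H521.FpfThree
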