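import Cfsg.Agent.H504.TwoRows
import Cfsg.Agent.H442.ZerosTwisted
import Cfsg.Agent.H723.SzRow
import Cfsg.Agent.H620.RowTwF
import Cfsg.Agent.H129.CycRow
import Cfsg.Agent.H504.ZerosExc
import Cfsg.Agent.H659.TwF4Ord
import Cfsg.Agent.H70.SzOut
import Cfsg.Agent.S1162
import Cfsg.Agent.S1072
import Cfsg.Agent.S1073
import Cfsg.Agent.S1074

/-!
# S4897: the rows `Sz(q)`, `²G₂(q)`, `²F₄(q)` and the Tits group (helper521)
-/

set_option autoImplicit false

namespace Cfsg.Agent.H521.TwoTw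

open Cfsg Cfsg.Agent.H504.Zeros Cfsg.Agent.H504.ZeroTI Cfsg.Agent.H504.TwoZ

/-! ### generalities -/

section gen

variable {S : Type} [Group S] [Finite S]

/-- characters of `p`-defect zero and `r`-defect zero of different degrees -/
theorem rowT_of_dz2 {p r : ℕ} [Fact p.Prime] [Fact r.Prime] {θ₁ θ₂ : IrrCharacter S}
    (h1 : (charDegree (θ₁ : S → ℂ)).factorization p = (Nat.card S).factorization p)
    (h2 : (charDegree (θ₂ : S → ℂ)).factorization r = (Nat.card S).factorization r)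
    (hne : charDegree (θ₁ : S → ℂ) ≠ charDegree (θ₂ : S → ℂ)) (s t : Finset ℕ)
    (hs : ∀ n ∈ s, p ∣ n ∧ ∃ g : S, orderOf g = n) (ht : ∀ n ∈ t, r ∣ n ∧ ∃ g : S, orderOf g = n)
    (hs3 : 3 ≤ s.card) (ht3 : 3 ≤ t.card) : RowT S := by
  obtain ⟨a, ha, hac, hao⟩ := autNC_of_orders s fun n hn => (hs n hn).2
  obtain ⟨b, hb, hbc, hbo⟩ := autNC_of_orders t fun n hn => (ht n hn).2
  refine ⟨Or.inl ?_, ?_⟩
  · refine two_of_zeros (χ := θ₁) (ψ := θ₂) (fun h => hne (by rw [h])) a b ha.nonConj hb.nonConj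
      (fun g hg => dz_zero h1 (hs _ (hao g hg)).1 1) (fun g hg => dz_zero h2 (ht _ (hbo g hg)).1 1)
      (by omega) (by omega)
  · rintro G _ _ N _ ⟨e⟩ - - -
    exact Or.inl (two_of_dz2 N e h1 h2 hne a b ha hb (fun x hx => (hs _ (hao x hx)).1)
      (fun x hx => (ht _ (hbo x hx)).1) (by omega) (by omega))

/-- a `CC`-subgroup and `e + 2` classes outside -/
theorem two_of_ti_out {G : Type*} [Group G] [Finite G] {A : Subgroup G} (hA : CC A) {e m : ℕ} (he : eIdx A = e)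
    (hm : 3 ≤ m) (hem : Nat.card A = e * m + 1) (t : Finset G) (ht : NonConj t)
    (hout : ∀ g ∈ t, ∀ a ∈ A, a ≠ 1 → ¬ IsConj g a) (h : e + 2 ≤ t.card) : Two G := by
  classical
  obtain ⟨s, hs, hsc, hsA⟩ := exists_reps hA (he ▸ hem)
  have hd : ∀ g ∈ t, ∀ a ∈ s, ¬ IsConj g a := fun g hg a ha => hout g hg a (hsA a ha).1 (hsA a ha).2
  have hns : NonConj (t ∪ s) := by
    intro g hg k hk hc
    rcases Finset.mem_union.1 hg with hg | hg <;> rcases Finset.mem_union.1 hk with hk | hk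
    · exact ht g hg k hk hc
    · exact absurd hc (hd g hg k hk)
    · exact absurd hc.symm (hd k hk g hg)
    · exact hs g hg k hk hc
  have hdis : Disjoint t s := Finset.disjoint_left.2 fun g hg hg' => hd g hg g hg' (IsConj.refl g)
  have hk : t.card + m ≤ Nat.card (ConjClasses G) := by
    have h1 : (t ∪ s).card = t.card + m := by rw [Finset.card_union_of_disjoint hdis, hsc]
    rw [← h1]
    have h2 : Function.Injective fun g : (t ∪ s : Finset G) => ConjClasses.mk (g : G) := by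
      intro a b hab
      exact Subtype.ext (hns a a.2 b b.2 (ConjClasses.mk_eq_mk_iff_isConj.1 hab))
    have h3 := Nat.card_le_card_of_injective _ h2
    rwa [Nat.card_eq_fintype_card, Fintype.card_coe] at h3
  exact two_of_ti hA he hm hem hk (by omega)

theorem not_comm_of_four {G : Type*} [Group G] [IsSimpleGroup G] {x : G} (hx : orderOf x = 4) :
    ¬ IsMulCommutative G := by
  intro h
  have hx2 : orderOf (x * x) = 2 := by rw [← pow_two, orderOf_pow' x two_ne_zero, hx]; norm_num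
  have hn : (Subgroup.zpowers (x * x)).Normal := ⟨fun a ha g => by
    rw [h.is_comm.comm g a, mul_inv_cancel_right]; exact ha⟩
  rcases hn.eq_bot_or_eq_top with h1 | h1
  · rw [Subgroup.zpowers_eq_bot] at h1
    rw [h1, orderOf_one] at hx2
    omega
  · have h2 : x ∈ Subgroup.zpowers (x * x) := h1 ▸ Subgroup.mem_top x
    have h3 := orderOf_dvd_of_mem_zpowers h2
    rw [hx, hx2] at h3
    omega

end gen

/-! ### the Tits group -/

theorem rowT_tits_model : RowT Lie.TitsGroup := by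
  have h2f : Fact (Nat.Prime 2) := ⟨Nat.prime_two⟩
  have h3f : Fact (Nat.Prime 3) := ⟨Nat.prime_three⟩
  have hcard := H442.ZerosTwisted.card_tits
  have hfin : Finite Lie.TitsGroup := Nat.finite_of_card_ne_zero (by rw [hcard]; norm_num)
  have f11 : (Nat.card Lie.TitsGroup).factorization 2 = 11 := by
    rw [hcard, Nat.factorization_mul (by norm_num) (by norm_num), Nat.prime_two.factorization_pow,
      Finsupp.add_apply, Finsupp.single_eq_same, Nat.factorization_eq_zero_of_not_dvd (by norm_num)]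
  have f3 : 3 ∣ Nat.card Lie.TitsGroup := by rw [hcard]; norm_num
  obtain ⟨χ, hχ⟩ := H442.ZerosTwisted.exists_deg
  obtain ⟨ψ, hψ⟩ := H690.Spor.Tits.hasDZ H442.ZerosTwisted.isoTits_self (p := 3) Nat.prime_three (by norm_num)
    (by norm_num)
  have hχ2 : (charDegree (χ : Lie.TitsGroup → ℂ)).factorization 2 =
      (Nat.card Lie.TitsGroup).factorization 2 := by
    rw [hχ, f11, Nat.prime_two.factorization_pow, Finsupp.single_eq_same]
  have hne : charDegree (χ : Lie.TitsGroup → ℂ) ≠ charDegree (ψ : Lie.TitsGroup → ℂ) := by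
    intro h
    rw [← h, hχ, Nat.prime_two.factorization_pow, Finsupp.single_apply, if_neg (by norm_num)] at hψ
    have := (Nat.prime_three.dvd_iff_one_le_factorization (n := Nat.card Lie.TitsGroup)
      (by rw [hcard]; norm_num)).1 f3
    omega
  have h16 := H92.ExcTits.hasOrd_tits (by decide) (by decide) H92.ExcTits.t16
  have h12 := H92.ExcTits.hasOrd_tits (by decide) (by decide) H92.ExcTits.t12
  refine rowT_of_dz2 hχ2 hψ hne {4, 8, 16} {3, 6, 12} ?_ ?_ (by decide) (by decide)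
  · intro n hn
    simp only [Finset.mem_insert, Finset.mem_singleton] at hn
    rcases hn with rfl | rfl | rfl
    · exact ⟨by norm_num, h16.of_dvd (by norm_num) (by norm_num)⟩
    · exact ⟨by norm_num, h16.of_dvd (by norm_num) (by norm_num)⟩
    · exact ⟨by norm_num, h16⟩
  · intro n hn
    simp only [Finset.mem_insert, Finset.mem_singleton] at hn
    rcases hn with rfl | rfl | rfl
    · exact ⟨by norm_num, h12.of_dvd (by norm_num) (by norm_num)⟩
    · exact ⟨by norm_num, h12.of_dvd (by norm_num) (by norm_num)⟩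
    · exact ⟨by norm_num, h12⟩

theorem rowT_of_nonempty {G : Type} [Group G] {T : Subgroup G} (hT0 : Finite T) {X : Type} [Group X]
    (h : Nonempty (X ≃* T)) (hT : RowT T) : RowT X := by
  obtain ⟨e⟩ := h
  have : Finite X := Finite.of_equiv _ e.symm.toEquiv
  exact RowT.of_equiv e hT

theorem finite_tits : Finite Lie.TitsGroup :=
  Nat.finite_of_card_ne_zero (by rw [H442.ZerosTwisted.card_tits]; norm_num)

/-- **the Tits group** -/
theorem rowT_tits {S : Type} [Group S] (h : Lie.IsoTits S) : RowT S :=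
  rowT_of_nonempty finite_tits h rowT_tits_model

/-! ### the Suzuki groups -/

section suzuki

variable {K : Type} [Field K] [Fintype K] {m : ℕ}

theorem two_sz_model (hm : 1 ≤ m) (hK : Fintype.card K = 2 ^ (2 * m + 1)) : Two (Cfsg.Sz K m) := by
  classical
  have hfin : Finite (Cfsg.Sz K m) := inferInstance
  obtain ⟨hcyc, hT⟩ := H101.SzGeo.T_cyclic hm hK
  have hA : CC (H101.SzGeo.T hK) := by
    refine ⟨fun a ha b hb => ?_, fun a ha ha1 => H101.SzGeo.T_cent hm hK ha ha1⟩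
    have := (IsCyclic.commGroup (α := H101.SzGeo.T hK)).mul_comm ⟨a, ha⟩ ⟨b, hb⟩
    exact congrArg Subtype.val this
  have hk : 2 ^ (2 * m + 1) + 3 ≤ Nat.card (ConjClasses (Cfsg.Sz K m)) := by
    have e : Cfsg.Sz K m ≃* ↥(Cfsg.Lie.Sz K (2 ^ (m + 1))) :=
      MulEquiv.ofBijective (H147.Sz.lift hm hK) ⟨H147.Sz.lift_injective hm hK, H147.Sz.lift_surjective hm hK⟩
    rw [H92.KTools.card_classes_congr e]
    exact H870.KSz.q_add_le hm hK
  have hcard := LieExceptional.SuzukiSylow.card_Sz (F := K) hm hK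
  obtain ⟨t, ht⟩ : ∃ t, 2 ^ (2 * m + 1) = 8 + 2 * t := by
    have h1 : 2 ^ 3 ≤ 2 ^ (2 * m + 1) := Nat.pow_le_pow_right (by norm_num) (by omega)
    have h2 : 2 ∣ 2 ^ (2 * m + 1) := dvd_pow_self 2 (by omega)
    exact ⟨(2 ^ (2 * m + 1) - 8) / 2, by omega⟩
  rw [ht] at hk hcard hT
  have hT' : Nat.card (H101.SzGeo.T hK) = 7 + 2 * t := by rw [hT]; omega
  have he : eIdx (H101.SzGeo.T hK) = 2 := by
    have h1 := eIdx_eq_mod hA (by omega) (n := ((8 + 2 * t) ^ 2 + 1) * (8 + 2 * t) ^ 2) (by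
      rw [hcard, hT', show 8 + 2 * t - 1 = 7 + 2 * t from by omega]
      ring)
    rw [h1, hT']
    have h1 : ((8 + 2 * t) ^ 2 + 1) * (8 + 2 * t) ^ 2 =
        2 + (7 + 2 * t) * ((8 + 2 * t) ^ 3 + (8 + 2 * t) ^ 2 + 2 * (8 + 2 * t) + 2) := by ring
    rw [h1, Nat.add_mul_mod_self_left, Nat.mod_eq_of_lt (by omega)]
  exact two_of_ti hA he (m := 3 + t) (k := 8 + 2 * t + 3) (by omega) (by omega) hk (by omega)

theorem pow_inner_sz (hm : 1 ≤ m) (hK : Fintype.card K = 2 ^ (2 * m + 1))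
    (x : MulAut ↥(Cfsg.Lie.Sz K (2 ^ (m + 1)))) :
    ∃ g : ↥(Cfsg.Lie.Sz K (2 ^ (m + 1))), x ^ (2 * m + 1) = MulAut.conj g := by
  have h := H70.SzOut.card_out hm hK
  have h1 : (QuotientGroup.mk x : Cfsg.Out ↥(Cfsg.Lie.Sz K (2 ^ (m + 1)))) ^ (2 * m + 1) = 1 := by
    rw [← h]; exact pow_card_eq_one'
  rw [← QuotientGroup.mk_pow, QuotientGroup.eq_one_iff] at h1
  obtain ⟨g, hg⟩ := h1
  exact ⟨g, hg.symm⟩

theorem not_inv {G : Type*} [Group G] {n : ℕ} (hin : ∀ φ : MulAut G, ∃ g : G, φ ^ (2 * n + 1) = MulAut.conj g)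
    {x : G} (hx : ¬ IsConj x x⁻¹) (φ : MulAut G) : φ x ≠ x⁻¹ := by
  intro h
  obtain ⟨g, hg⟩ := hin φ
  have h1 : (φ ^ 2) x = x := by rw [pow_two, MulAut.mul_apply, h, map_inv, h, inv_inv]
  have h2 : ∀ k : ℕ, ((φ ^ 2) ^ k) x = x := by
    intro k
    induction k with
    | zero => rfl
    | succ k ih => rw [pow_succ, MulAut.mul_apply, h1, ih]
  have h3 : (φ ^ (2 * n + 1)) x = x⁻¹ := by
    rw [pow_succ', pow_mul, MulAut.mul_apply, h2, h]
  rw [hg] at h3
  exact hx (isConj_iff.2 ⟨g, h3⟩)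

/-- **the Suzuki groups** -/
theorem rowT_sz (hm : 1 ≤ m) (hK : Fintype.card K = 2 ^ (2 * m + 1)) :
    RowT (Cfsg.Lie.Sz K (2 ^ (m + 1))) := by
  classical
  have hs : IsSimpleGroup ↥(Cfsg.Lie.Sz K (2 ^ (m + 1))) := Cfsg.Agent.S1162.result hm hK
  let R : Cfsg.Agent.ThreePrime.SzRel.Rel ↥(Cfsg.Lie.Sz K (2 ^ (m + 1))) K :=
    Cfsg.Agent.ThreePrime.SzRel.ofGood (Cfsg.Agent.LieRecognition.SzMatrix.good hK)
  have hnr := H723.SzRow.not_real R
  have hx4 := H723.SzRow.orderOf_x R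
  set x := R.u 1 0 with hx
  have hx2 : orderOf (x * x) = 2 := by
    rw [← pow_two, orderOf_pow, hx4]; norm_num
  have hxi : orderOf x⁻¹ = 4 := by rw [orderOf_inv, hx4]
  have hna : ¬ IsMulCommutative ↥(Cfsg.Lie.Sz K (2 ^ (m + 1))) := not_comm_of_four hx4
  have hL : IsLieTypeChar 2 ↥(Cfsg.Lie.Sz K (2 ^ (m + 1))) := by
    have h1 : Lie.IsoSuzuki ↥(Cfsg.Lie.Sz K (2 ^ (m + 1))) := ⟨K, inferInstance, inferInstance, m, hm, hK, ⟨MulEquiv.refl _⟩⟩
    unfold IsLieTypeChar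
    tauto
  have hni := not_inv (pow_inner_sz hm hK) hnr
  have hxx : x ≠ x⁻¹ := fun h => hni 1 h
  refine ⟨Or.inl ?_, row2_of_lie Nat.prime_two hna hL {x * x, x, x⁻¹} ?_ ?_ ?_⟩
  · have e : ↥(Cfsg.Lie.Sz K (2 ^ (m + 1))) ≃* Cfsg.Sz K m :=
      (MulEquiv.ofBijective (H147.Sz.lift hm hK) ⟨H147.Sz.lift_injective hm hK, H147.Sz.lift_surjective hm hK⟩).symm
    exact Two.of_equiv e (two_sz_model hm hK)
  · intro g hg h hh φ hφ
    have ho : orderOf g = orderOf h := by rw [← hφ, MulEquiv.orderOf_eq]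
    simp only [Finset.mem_insert, Finset.mem_singleton] at hg hh
    rcases hg with rfl | rfl | rfl <;> rcases hh with rfl | rfl | rfl
    · rfl
    · rw [hx2, hx4] at ho; omega
    · rw [hx2, hxi] at ho; omega
    · rw [hx2, hx4] at ho; omega
    · rfl
    · exact absurd hφ (hni φ)
    · rw [hx2, hxi] at ho; omega
    · rw [map_inv, inv_eq_iff_eq_inv] at hφ
      exact absurd hφ (hni φ)
    · rfl
  · intro g hg
    simp only [Finset.mem_insert, Finset.mem_singleton] at hg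
    rcases hg with rfl | rfl | rfl
    · rw [hx2]
    · rw [hx4]; norm_num
    · rw [hxi]; norm_num
  · rw [Finset.card_insert_of_notMem, Finset.card_pair hxx]
    simp only [Finset.mem_insert, Finset.mem_singleton, not_or]
    refine ⟨fun h => ?_, fun h => ?_⟩
    · have := congrArg orderOf h
      rw [hx2, hx4] at this
      omega
    · have := congrArg orderOf h
      rw [hx2, hxi] at this
      omega

end suzuki

/-! ### the groups `²F₄(q)` -/

/-- powers of an element of prime order in a `CC`-subgroup of an overgroup -/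
theorem exists_three {H G : Type*} [Group H] [Finite H] [Group G] [Finite G] (ι : G →* H) {T : Subgroup H}
    (hT : CC T) {e l : ℕ} (he : eIdx T = e) (hle : 2 * e < l - 1) {x : G} (hx : orderOf x = l)
    (g : H) (hg : g * ι x * g⁻¹ ∈ T) (hi : Function.Injective ι) (hlp : l.Prime) :
    ∃ s : Finset G, NonConj s ∧ 3 ≤ s.card ∧ ∀ y ∈ s, orderOf y = l := by
  classical
  have hφi : Function.Injective ((MulAut.conj g).toMonoidHom.comp ι) := (MulAut.conj g).injective.comp hi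
  have hφT : ∀ i : ℕ, (MulAut.conj g).toMonoidHom.comp ι (x ^ i) ∈ T := by
    intro i
    rw [map_pow]
    exact T.pow_mem hg i
  set φ := (MulAut.conj g).toMonoidHom.comp ι with hφ
  have hφc : ∀ {a b : G}, IsConj a b → IsConj (φ a) (φ b) := by
    intro a b h
    obtain ⟨c, hc⟩ := isConj_iff.1 h
    exact isConj_iff.2 ⟨φ c, by rw [← map_mul, ← map_inv, ← map_mul, hc]⟩
  have hne : ∀ i ∈ Finset.Ico 1 l, x ^ i ≠ 1 := by
    intro i hi h
    rw [Finset.mem_Ico] at hi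
    have := Nat.le_of_dvd hi.1 (orderOf_dvd_of_pow_eq_one h)
    omega
  have hinj : ∀ i ∈ Finset.Ico 1 l, ∀ j ∈ Finset.Ico 1 l, x ^ i = x ^ j → i = j := by
    intro i hi j hj h
    rw [Finset.mem_Ico] at hi hj
    exact pow_injOn_Iio_orderOf (by rw [Set.mem_Iio, hx]; exact hi.2) (by rw [Set.mem_Iio, hx]; exact hj.2) h
  let f : ℕ → ConjClasses G := fun i => ConjClasses.mk (x ^ i)
  have h1 : (Finset.Ico 1 l).card ≤ e * ((Finset.Ico 1 l).image f).card := by
    refine Finset.card_le_mul_card_image _ _ fun c hc => ?_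
    obtain ⟨i, hi, rfl⟩ := Finset.mem_image.1 hc
    let a : T := ⟨φ (x ^ i), hφT i⟩
    have ha : a ≠ 1 := by
      intro h
      have h2 : φ (x ^ i) = 1 := congrArg Subtype.val h
      rw [← map_one φ] at h2
      exact hne i hi (hφi h2)
    have h2 := hT.card_conj ha
    rw [he] at h2
    rw [← h2]
    have : Fintype {b : T // IsConj (a : H) (b : H)} := Fintype.ofFinite _
    rw [Nat.card_eq_fintype_card, ← Fintype.card_coe]
    refine Fintype.card_le_of_injective (fun j : {j // j ∈ (Finset.Ico 1 l).filter fun j => f j = f i} =>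
      (⟨⟨φ (x ^ (j : ℕ)), hφT _⟩, ?_⟩ : {b : T // IsConj (a : H) (b : H)})) ?_
    · have h3 := (Finset.mem_filter.1 j.2).2
      exact (hφc (ConjClasses.mk_eq_mk_iff_isConj.1 h3)).symm
    · intro j k hjk
      have h4 : φ (x ^ (j : ℕ)) = φ (x ^ (k : ℕ)) :=
        congrArg (fun b : {b : T // IsConj (a : H) (b : H)} => ((b : T) : H)) hjk
      exact Subtype.ext (hinj _ (Finset.mem_filter.1 j.2).1 _ (Finset.mem_filter.1 k.2).1 (hφi h4))
  rw [Nat.card_Ico] at h1
  have h2 : 3 ≤ ((Finset.Ico 1 l).image f).card := by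
    by_contra hcon
    have h3 : ((Finset.Ico 1 l).image f).card ≤ 2 := by omega
    have h4 := Nat.mul_le_mul_left e h3
    omega
  -- representatives
  have hrep : ∀ c ∈ (Finset.Ico 1 l).image f, ∃ i ∈ Finset.Ico 1 l, f i = c := fun c hc => Finset.mem_image.1 hc
  choose! r hr1 hr2 using hrep
  refine ⟨((Finset.Ico 1 l).image f).image fun c => x ^ r c, ?_, ?_, ?_⟩
  · intro a ha b hb hab
    obtain ⟨c, hc, rfl⟩ := Finset.mem_image.1 ha
    obtain ⟨d, hd, rfl⟩ := Finset.mem_image.1 hb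
    have h5 : f (r c) = f (r d) := ConjClasses.mk_eq_mk_iff_isConj.2 hab
    rw [hr2 c hc, hr2 d hd] at h5
    rw [h5]
  · rw [Finset.card_image_of_injOn]
    · exact h2
    · intro c hc d hd hcd
      have hcd' : x ^ r c = x ^ r d := hcd
      have h5 : f (r c) = f (r d) := by show ConjClasses.mk _ = ConjClasses.mk _; rw [hcd']
      rwa [hr2 c hc, hr2 d hd] at h5
  · intro y hy
    obtain ⟨c, hc, rfl⟩ := Finset.mem_image.1 hy
    have h5 := hr1 c hc
    refine orderOf_eq_prime (hp := ⟨hlp⟩) ?_ (hne _ h5)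
    rw [← pow_mul, mul_comm, pow_mul, ← hx, pow_orderOf_eq_one, one_pow]

section tf4

open Cfsg.Lie Cfsg.Agent.H620 Cfsg.Agent.H713 Cfsg.Agent.H620.RowTwF Cfsg.Agent.KFacts.TwF4

theorem hasDZ_twF {F : Type} [Field F] [Fintype F] {m : ℕ} (hm : 1 ≤ m) (hK : Fintype.card F = 2 ^ (2 * m + 1))
    {l : ℕ} (hl : l.Prime) (hl2 : l ≠ 2)
    (hd : l ∣ (2 ^ (2 * m + 1)) ^ 4 - (2 ^ (2 * m + 1)) ^ 2 + 1) :
    Cfsg.Agent.H665.NoPQ.HasDZ l ↥(twistedF4 F (2 ^ m)) ∧ l ∣ Nat.card ↥(twistedF4 F (2 ^ m)) := by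
  have : Fact l.Prime := ⟨hl⟩
  obtain ⟨φ, hφ⟩ := Cfsg.Agent.ChevalleyStructure.TwF4.TwistedFix.exists_rln hK
  have := Cfsg.Agent.ChevalleyStructure.TwF4.Twisted.charP_two hK
  have hfin : Finite ↥(twistedF4 F (2 ^ m)) := inferInstance
  have hF : ∃ c : Fˣ, c ≠ 1 := by
    have h1 : 1 < Nat.card Fˣ := by
      rw [Nat.card_units, Nat.card_eq_fintype_card, hK]
      have : 2 ^ 3 ≤ 2 ^ (2 * m + 1) := Nat.pow_le_pow_right (by norm_num) (by omega)
      omega
    have h2 : Nontrivial Fˣ := Finite.one_lt_card_iff_nontrivial.1 h1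
    exact exists_ne 1
  obtain ⟨S, hS⟩ : ∃ S : Full φ ↥(twistedF4 F (2 ^ m)), S.R.p = 2 :=
    ⟨Cfsg.Agent.KFacts.TwF4.Inst.full hK hφ, rfl⟩
  have hcF : Nat.card F = 2 ^ (2 * m + 1) := by rw [Nat.card_eq_fintype_card, hK]
  have h2q : 2 ∣ 2 ^ (2 * m + 1) := dvd_pow_self 2 (by omega)
  have hq3 : (2 ^ (2 * m + 1)) % 3 = 2 := by
    have : (2 : ℕ) ^ (2 * m + 1) = 4 ^ m * 2 := by rw [pow_succ, pow_mul]; norm_num
    rw [this, Nat.mul_mod, Nat.pow_mod]
    norm_num
  have hcard := Cfsg.Agent.S1068.result hK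
  have hkey : ∀ q : ℕ, q = 2 ^ (2 * m + 1) → ¬ l ∣ q - 1 ∧ ¬ l ∣ 1 + q ∧ ¬ l ∣ 1 + q * q ∧
      l ∣ q ^ 6 + 1 := by
    intro q hqq
    rw [← hqq] at hd hq3
    have hq1 : 1 ≤ q := by
      rw [hqq]
      exact Nat.one_le_two_pow
    have hle2 : q ^ 2 ≤ q ^ 4 := Nat.pow_le_pow_right hq1 (by norm_num)
    have hz : ((l : ℕ) : ℤ) ∣ (q : ℤ) ^ 4 - q ^ 2 + 1 := by
      have := Int.natCast_dvd_natCast.2 hd
      push_cast [hle2] at this
      exact this
    have hone : ¬ ((l : ℕ) : ℤ) ∣ 1 := by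
      intro h
      have := Int.natCast_dvd_natCast.1 (by simpa using h : ((l : ℕ) : ℤ) ∣ ((1 : ℕ) : ℤ))
      exact hl.one_lt.ne' (Nat.dvd_one.1 this)
    refine ⟨fun h => hone ?_, fun h => hone ?_, fun h => ?_, ?_⟩
    · have h1 : ((l : ℕ) : ℤ) ∣ (q : ℤ) - 1 := by
        have := Int.natCast_dvd_natCast.2 h
        push_cast [hq1] at this
        exact this
      have e : (1 : ℤ) = ((q : ℤ) ^ 4 - q ^ 2 + 1) - (q - 1) * (q ^ 2 * (q + 1)) := by ring
      rw [e]
      exact dvd_sub hz (h1.mul_right _)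
    · have h1 : ((l : ℕ) : ℤ) ∣ 1 + (q : ℤ) := by
        have := Int.natCast_dvd_natCast.2 h
        push_cast at this
        exact this
      have e : (1 : ℤ) = ((q : ℤ) ^ 4 - q ^ 2 + 1) - (1 + q) * (q ^ 2 * (q - 1)) := by ring
      rw [e]
      exact dvd_sub hz (h1.mul_right _)
    · have h1 : ((l : ℕ) : ℤ) ∣ 1 + (q : ℤ) * q := by
        have := Int.natCast_dvd_natCast.2 h
        push_cast at this
        exact this
      have h3 : ((l : ℕ) : ℤ) ∣ ((3 : ℕ) : ℤ) := by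
        have e : ((3 : ℕ) : ℤ) = ((q : ℤ) ^ 4 - q ^ 2 + 1) - (1 + q * q) * (q ^ 2 - 2) := by push_cast; ring
        rw [e]
        exact dvd_sub hz (h1.mul_right _)
      have h4 := Int.natCast_dvd_natCast.1 h3
      have h5 : l = 3 := (Nat.prime_dvd_prime_iff_eq hl Nat.prime_three).1 h4
      subst h5
      have h6 : (1 + q * q) % 3 = 2 := by rw [Nat.add_mod, Nat.mul_mod, hq3]
      omega
    · have e : q ^ 6 + 1 = (q ^ 4 - q ^ 2 + 1) * (q ^ 2 + 1) := by
        zify [hle2]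
        ring
      rw [e]
      exact hd.mul_right _
  refine ⟨hasDZ_full S hS hF (by rw [hcF]; exact h2q) hl2 ?_ ?_ ?_, ?_⟩
  · exact (hkey _ hcF).1
  · exact (hkey _ hcF).2.1
  · exact (hkey _ hcF).2.2.1
  · have h := (hkey _ rfl).2.2.2
    rw [hcard]
    simp only [hl.dvd_mul]
    tauto


theorem exists_prime_tf4 {m : ℕ} (hm : 1 ≤ m) :
    ∃ l : ℕ, l.Prime ∧ l ≠ 2 ∧ l ∣ (2 ^ (2 * m + 1)) ^ 4 - (2 ^ (2 * m + 1)) ^ 2 + 1 ∧ 24 < l - 1 := by
  obtain ⟨l, k, hl, hk, hlk, hl2, hk2, hld, hkd⟩ := exists_two_primes hm rfl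
  have key : ∀ r : ℕ, r.Prime → r ≠ 2 → r ∣ (2 ^ (2 * m + 1)) ^ 4 - (2 ^ (2 * m + 1)) ^ 2 + 1 → r ≠ 13 →
      24 < r - 1 := by
    intro r hr hr2 hrd hr13
    have := Fact.mk hr
    have hq3 : (2 ^ (2 * m + 1)) % 3 = 2 := by
      have : (2 : ℕ) ^ (2 * m + 1) = 4 ^ m * 2 := by rw [pow_succ, pow_mul]; norm_num
      rw [this, Nat.mul_mod, Nat.pow_mod]
      norm_num
    have hq1 : 1 ≤ 2 ^ (2 * m + 1) := Nat.one_le_two_pow
    generalize 2 ^ (2 * m + 1) = q at *
    have hle2 : q ^ 2 ≤ q ^ 4 := Nat.pow_le_pow_right hq1 (by norm_num)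
    have hz : ((r : ℕ) : ℤ) ∣ (q : ℤ) ^ 4 - q ^ 2 + 1 := by
      have := Int.natCast_dvd_natCast.2 hrd
      push_cast [hle2] at this
      exact this
    have hr3 : r ≠ 3 := by
      rintro rfl
      have h6 : (q ^ 4) % 3 = 1 := by rw [Nat.pow_mod, hq3]
      have h7 : (q ^ 2) % 3 = 1 := by rw [Nat.pow_mod, hq3]
      omega
    have h12 := H659.TwF4Ord.od_twelve hr hr2 hr3 hz
    have hq0 : (q : ZMod r) ≠ 0 := by
      intro h
      have h8 : ((((q : ℤ) ^ 4 - (q : ℤ) ^ 2 + 1 : ℤ)) : ZMod r) = 0 :=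
        (ZMod.intCast_zmod_eq_zero_iff_dvd _ _).2 (by exact_mod_cast hz)
      push_cast at h8
      rw [h] at h8
      simp at h8
    have h9 : 12 ∣ r - 1 := by
      have h10 : orderOf (q : ZMod r) ∣ r - 1 := ZMod.orderOf_dvd_card_sub_one hq0
      have h11 : orderOf (q : ZMod r) = 12 := h12
      rwa [h11] at h10
    obtain ⟨j, hj⟩ := h9
    have hrp := hr.two_le
    by_contra hcon
    have h13 : j = 0 ∨ j = 1 ∨ j = 2 := by omega
    rcases h13 with h | h | h
    · omega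
    · omega
    · have : r = 25 := by omega
      rw [this] at hr
      exact absurd hr (by norm_num)
  by_cases h : l = 13
  · exact ⟨k, hk, hk2, hkd, key k hk hk2 hkd fun h' => hlk (h.trans h'.symm)⟩
  · exact ⟨l, hl, hl2, hld, key l hl hl2 hld h⟩

variable {K : Type} [Field K] [Fintype K] {m : ℕ}

theorem exists_classes_tf4 (hK : Fintype.card K = 2 ^ (2 * m + 1)) {l : ℕ} (hl : l.Prime)
    (hld : l ∣ (2 ^ (2 * m + 1)) ^ 4 - (2 ^ (2 * m + 1)) ^ 2 + 1) (h24 : 24 < l - 1)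
    (hlG : l ∣ Nat.card ↥(twistedF4 K (2 ^ m))) :
    ∃ s : Finset ↥(twistedF4 K (2 ^ m)), NonConj s ∧ 3 ≤ s.card ∧ ∀ y ∈ s, orderOf y = l := by
  have := Fact.mk hl
  obtain ⟨x, hx⟩ := exists_prime_orderOf_dvd_card' l hlG
  set q := Fintype.card K with hq
  rw [← hK] at hld
  have hq2 : 2 ≤ q := by
    rw [hK]
    calc 2 = 2 ^ 1 := rfl
      _ ≤ 2 ^ (2 * m + 1) := Nat.pow_le_pow_right (by norm_num) (by omega)
  have hcard := Cfsg.Agent.S1062.result (F := K) hq.symm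
  have hc : (Nat.card ↥(chevF4.group K) : ℤ) = (q : ℤ) ^ 24 * ((q : ℤ) ^ 2 - 1) *
      ((q : ℤ) ^ 6 - 1) * ((q : ℤ) ^ 8 - 1) * ((q : ℤ) ^ 12 - 1) := by
    rw [hcard]
    push_cast [H504.ZerosExc.cast_sub (d := 2) (show 1 ≤ q by omega),
      H504.ZerosExc.cast_sub (d := 6) (show 1 ≤ q by omega),
      H504.ZerosExc.cast_sub (d := 8) (show 1 ≤ q by omega), H504.ZerosExc.cast_sub (d := 12) (show 1 ≤ q by omega)]
    ring
  obtain ⟨a, ha⟩ : ∃ a, a = q ^ 4 - q ^ 2 + 1 := ⟨_, rfl⟩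
  have h4 : q ^ 4 = q ^ 2 * q ^ 2 := by ring
  have h9 : 4 ≤ q ^ 2 := by nlinarith
  have hle : q ^ 2 ≤ q ^ 4 := by nlinarith
  have haz : (a : ℤ) = 1 - (q : ℤ) ^ 2 + (q : ℤ) ^ 4 := by
    rw [ha]
    push_cast [Nat.cast_sub hle]
    ring
  have ha' : a + q ^ 2 = q ^ 4 + 1 := by omega
  obtain ⟨T, hT, hcT, hz⟩ := H129.CycT.exact_F4_12 hq.symm haz
  have hA := cc_of_cyclic hT hz
  have he : eIdx T = 12 := by
    refine eIdx_of_int hA hcT (by nlinarith) (by nlinarith)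
      (N := (q : ℤ) ^ 24 * ((q : ℤ) ^ 2 - 1) * ((q : ℤ) ^ 6 - 1) * ((q : ℤ) ^ 8 - 1) *
        (-1 - (q : ℤ) ^ 2 + (q : ℤ) ^ 6 + (q : ℤ) ^ 8)) ?_ ?_
    · rw [hc, haz]
      ring
    · have h5 := H504.ZerosExc.zmod_zero haz
      push_cast at h5 ⊢
      exact H504.ZerosMod.mod_F4_12 h5
  rw [← ha] at hld
  obtain ⟨g, hg, -⟩ := H129.CycT.centralizer_conj hT hl (hcT ▸ hld) (fun y hy hyr => (hz y hy (by
      rintro rfl
      rw [orderOf_one] at hyr
      exact hl.one_lt.ne hyr)).le) (x := H659.TwF4Ord.inc K (2 ^ m) x)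
    (by rw [orderOf_injective _ (H659.TwF4Ord.inc_injective _), hx])
  exact exists_three (H659.TwF4Ord.inc K (2 ^ m)) hA he (by omega) hx g hg (H659.TwF4Ord.inc_injective _) hl

/-- **the groups `²F₄(q)`** -/
theorem rowT_tf4 (hm : 1 ≤ m) (hK : Fintype.card K = 2 ^ (2 * m + 1)) : RowT ↥(twistedF4 K (2 ^ m)) := by
  have : CharP K 2 := H442.ZerosTwisted.charP_two hK
  have : Fact (Nat.Prime 2) := ⟨Nat.prime_two⟩
  obtain ⟨hs, hna⟩ := Cfsg.Agent.S1072.result hm hK
  have he : (2 : ℕ) ^ m ≠ 0 := by positivity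
  have hfin : Finite ↥(Cfsg.Lie.twistedF4 K (2 ^ m)) := inferInstance
  have h16 := H92.ExcTwF4.hasOrd (H92.ExcTwF4.el_mem (K := K) he [0, 3] (by decide)) H92.ExcTwF4.o16
  have hL : IsLieTypeChar 2 ↥(twistedF4 K (2 ^ m)) := by
    have h1 : Lie.Iso2F4 ↥(twistedF4 K (2 ^ m)) := ⟨K, inferInstance, inferInstance, m, hm, hK, ⟨MulEquiv.refl _⟩⟩
    unfold IsLieTypeChar
    tauto
  have ho : ∀ n ∈ ({4, 8, 16} : Finset ℕ), 2 ∣ n ∧ ∃ g : ↥(twistedF4 K (2 ^ m)), orderOf g = n := by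
    intro n hn
    simp only [Finset.mem_insert, Finset.mem_singleton] at hn
    rcases hn with rfl | rfl | rfl
    · exact ⟨by norm_num, h16.of_dvd (by norm_num) (by norm_num)⟩
    · exact ⟨by norm_num, h16.of_dvd (by norm_num) (by norm_num)⟩
    · exact ⟨by norm_num, h16⟩
  refine ⟨Or.inl ?_, row2_of_lie_orders Nat.prime_two hna hL {4, 8, 16} ho (by decide)⟩
  obtain ⟨l, hl, hl2, hld, h24⟩ := exists_prime_tf4 hm
  have hlf := Fact.mk hl
  obtain ⟨⟨ψ, hψ⟩, hlG⟩ := hasDZ_twF hm hK hl hl2 hld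
  obtain ⟨s, hs, hs3, hso⟩ := exists_classes_tf4 hK hl hld h24 hlG
  obtain ⟨θ, h1, -⟩ := Cfsg.Agent.H761.LieExt.lie_ext hna hL
  obtain ⟨a, ha, hac, hao⟩ := autNC_of_orders {4, 8, 16} fun n hn => (ho n hn).2
  refine two_of_zeros (χ := θ) (ψ := ψ) ?_ a s ha.nonConj hs (fun g hg => ?_) (fun g hg => ?_) (by rw [hac]; decide) hs3
  · rintro rfl
    rw [h1, Nat.prime_two.factorization_pow, Finsupp.single_apply, if_neg hl2.symm] at hψ
    have := (hl.dvd_iff_one_le_factorization Nat.card_pos.ne').1 hlG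
    omega
  · refine Cfsg.Agent.H713.irr_zero_of_singular (p := 2) ?_ (ho _ (hao g hg)).1
    rw [h1, Nat.factorization_pow, Finsupp.smul_apply, Nat.prime_two.factorization_self, smul_eq_mul, mul_one]
  · exact Cfsg.Agent.H713.irr_zero_of_singular hψ (by rw [hso g hg])

end tf4

/-! ### the small Ree groups -/

section ree

open Subgroup

theorem two_ree {K : Type} [Field K] [Fintype K] {m : ℕ} (hm : 1 ≤ m)
    (hK : Fintype.card K = 3 ^ (2 * m + 1)) : Two (Cfsg.Lie.twistedG2 K (3 ^ m)) := by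
  classical
  have hfin : Finite ↥(Cfsg.Lie.twistedG2 K (3 ^ m)) := inferInstance
  have ho := fun d => Cfsg.Agent.S1159.result hm hK d
  obtain ⟨A, hA, hcA, hcN, hN⟩ := Cfsg.Agent.S1158.result hm hK
    (3 ^ (2 * m + 1) + 3 ^ (m + 1) + 1, 6 * (3 ^ (2 * m + 1) + 3 ^ (m + 1) + 1)) (by simp)
  simp only at hcA hcN
  have hq : 27 ≤ 3 ^ (2 * m + 1) := by
    have := Nat.pow_le_pow_right (n := 3) (by norm_num) (show 3 ≤ 2 * m + 1 by omega)
    norm_num at this
    exact this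
  have hr : 9 ≤ 3 ^ (m + 1) := by
    have := Nat.pow_le_pow_right (n := 3) (by norm_num) (show 2 ≤ m + 1 by omega)
    norm_num at this
    exact this
  have hrq : 3 ^ (m + 1) ≤ 3 ^ (2 * m + 1) := Nat.pow_le_pow_right (by norm_num) (by omega)
  have hqr : 3 * 3 ^ (2 * m + 1) = 3 ^ (m + 1) * 3 ^ (m + 1) := by
    rw [← pow_add, ← pow_succ']
    congr 1
    ring
  have hodd : 3 ^ (2 * m + 1) % 2 = 1 := by
    rw [Nat.pow_mod]; simp
  have hoddr : 3 ^ (m + 1) % 2 = 1 := by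
    rw [Nat.pow_mod]; simp
  have hq3 : 3 ∣ 3 ^ (2 * m + 1) := dvd_pow_self 3 (by omega)
  have hr3 : 3 ∣ 3 ^ (m + 1) := dvd_pow_self 3 (by omega)
  generalize hG : Cfsg.Lie.twistedG2 K (3 ^ m) = G at *
  generalize 3 ^ (2 * m + 1) = q at *
  generalize 3 ^ (m + 1) = r at *
  have ar := fun {ℓ : ℕ} (hℓ : ℓ.Prime) (h : ℓ ∣ q + r + 1) =>
    H442.ZerosTwisted.arith hℓ hqr hrq (by omega) hodd hoddr hq3 hr3 h
  have hcomm : ∀ a ∈ A, ∀ b ∈ A, a * b = b * a := fun a ha b hb => by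
    have := (IsCyclic.commGroup (α := A)).mul_comm ⟨a, ha⟩ ⟨b, hb⟩
    exact congrArg Subtype.val this
  have hdvdA : ∀ x ∈ A, orderOf x ∣ q + r + 1 := by
    intro x hx
    have := orderOf_dvd_natCard (⟨x, hx⟩ : A)
    rwa [← Subgroup.orderOf_coe, hcA] at this
  have hCC : CC A := by
    refine ⟨hcomm, fun x hx hx1 => ?_⟩
    have hle : A ≤ centralizer ({x} : Set G) := fun y hy =>
      mem_centralizer_singleton_iff.2 (hcomm y hy x hx)
    symm
    apply Subgroup.eq_of_le_of_card_ge hle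
    have h1 : centralizer ({x} : Set G) ≤ normalizer (A : Set G) := by
      rw [← hN (zpowers x) (by rw [zpowers_le]; exact hx) (by rwa [Ne, zpowers_eq_bot])]
      have h2 := Subgroup.centralizer_le_normalizer ((zpowers x : Subgroup G) : Set G)
      refine le_trans (fun y hy => ?_) h2
      rw [mem_centralizer_iff]
      rintro z ⟨n, rfl⟩
      exact ((show Commute y x from mem_centralizer_singleton_iff.1 hy).zpow_right n).symm.eq
    have h2 : Nat.card (centralizer ({x} : Set G)) ∣ 6 * (q + r + 1) := by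
      rw [← hcN]
      exact Subgroup.card_dvd_of_le h1
    -- the order of the centralizer is prime to 6
    have h3 : ∀ p : ℕ, p.Prime → (p = 2 ∨ p = 3) → ¬ p ∣ Nat.card (centralizer ({x} : Set G)) := by
      intro p hp hp23 hd
      have : Fact p.Prime := ⟨hp⟩
      obtain ⟨⟨y, hy⟩, hyo⟩ := exists_prime_orderOf_dvd_card' p hd
      rw [Subgroup.orderOf_mk] at hyo
      have hyx : Commute y x := mem_centralizer_singleton_iff.1 hy
      have hx1' : orderOf x ≠ 1 := fun h => hx1 (orderOf_eq_one_iff.1 h)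
      set ℓ := (orderOf x).minFac with hℓdef
      have hℓ : ℓ.Prime := Nat.minFac_prime hx1'
      have hℓx : ℓ ∣ orderOf x := Nat.minFac_dvd _
      have hℓa : ℓ ∣ q + r + 1 := hℓx.trans (hdvdA x hx)
      obtain ⟨n2, n3, nm, np, nmm⟩ := ar hℓ hℓa
      have hxo : orderOf (x ^ (orderOf x / ℓ)) = ℓ := by
        rw [orderOf_pow_of_dvd (Nat.div_pos (Nat.le_of_dvd (orderOf_pos x) hℓx) hℓ.pos).ne'
          (Nat.div_dvd_of_dvd hℓx), Nat.div_div_self hℓx (orderOf_pos x).ne']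
      have hcop : p.Coprime ℓ := by
        rw [Nat.coprime_primes hp hℓ]
        rintro rfl
        rcases hp23 with h | h
        · exact n2 (by rw [← h])
        · exact n3 (by rw [← h])
      have hprod : orderOf (y * x ^ (orderOf x / ℓ)) = p * ℓ := by
        rw [(hyx.pow_right _).orderOf_mul_eq_mul_orderOf_of_coprime (by rw [hyo, hxo]; exact hcop),
          hyo, hxo]
      have hdiv := (ho (p * ℓ)).1 ⟨_, hprod⟩
      have hl : ℓ ∣ p * ℓ := Dvd.intro_left p rfl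
      rcases hdiv with h | h | h | h | h | h
      · have h5 : ℓ ∣ 2 * 3 := hl.trans h
        rcases hℓ.dvd_mul.1 h5 with h6 | h6
        · exact n2 h6
        · exact n3 h6
      · have h5 : ℓ ∣ 3 * 3 := hl.trans h
        rcases hℓ.dvd_mul.1 h5 with h6 | h6
        · exact n3 h6
        · exact n3 h6
      · exact nm (hl.trans h)
      · exact np ((hl.trans h).trans (Nat.div_dvd_of_dvd (by omega)))
      · exact nmm (hl.trans h)
      · have h5 : p ∣ q + r + 1 := (Dvd.intro ℓ rfl).trans h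
        obtain ⟨m2, m3, -⟩ := ar hp h5
        rcases hp23 with h | h
        · exact m2 (by rw [← h])
        · exact m3 (by rw [← h])
    have h4 : Nat.Coprime (Nat.card (centralizer ({x} : Set G))) 6 := by
      rw [show (6 : ℕ) = 2 * 3 from rfl]
      exact Nat.Coprime.mul_right
        ((Nat.prime_two.coprime_iff_not_dvd.2 (h3 2 Nat.prime_two (Or.inl rfl))).symm)
        ((Nat.prime_three.coprime_iff_not_dvd.2 (h3 3 Nat.prime_three (Or.inr rfl))).symm)
    rw [hcA]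
    exact Nat.le_of_dvd (by omega) (h4.dvd_of_dvd_mul_left h2)
  have he : eIdx A = 6 := by
    have h1 := eIdx_mul A
    rw [hcA, hcN, mul_comm] at h1
    exact Nat.eq_of_mul_eq_mul_right (by omega) h1
  obtain ⟨t, ht, htc, hto⟩ := exists_of_orders (G := ↥G)
    {1, 2, 3, 6, 9, (q - 1) / 2, q - 1, (q + 1) / 2} (by
      intro n hn
      refine (ho n).2 ?_
      simp only [Finset.mem_insert, Finset.mem_singleton] at hn
      rcases hn with rfl | rfl | rfl | rfl | rfl | rfl | rfl | rfl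
      · exact Or.inl (by norm_num)
      · exact Or.inl (by norm_num)
      · exact Or.inl (by norm_num)
      · exact Or.inl (by norm_num)
      · exact Or.inr (Or.inl (by norm_num))
      · right; right; left
        exact Nat.div_dvd_of_dvd (by omega)
      · right; right; left
        exact dvd_rfl
      · right; right; right; left
        exact dvd_rfl)
  have hcs : ({1, 2, 3, 6, 9, (q - 1) / 2, q - 1, (q + 1) / 2} : Finset ℕ).card = 8 := by
    rw [Finset.card_insert_of_notMem, Finset.card_insert_of_notMem,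
      Finset.card_insert_of_notMem, Finset.card_insert_of_notMem,
      Finset.card_insert_of_notMem, Finset.card_insert_of_notMem, Finset.card_insert_of_notMem,
      Finset.card_singleton] <;>
    · simp only [Finset.mem_insert, Finset.mem_singleton, not_or]
      omega
  rw [hcs] at htc
  obtain ⟨k, hk⟩ : ∃ k, q + r + 1 = 6 * (6 + k) + 1 := ⟨(q + r) / 6 - 6, by omega⟩
  refine two_of_ti_out hCC he (m := 6 + k) (by omega) (by rw [hcA, hk]) t ht ?_ (by
    rw [htc])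
  intro g hg b hb hb1 hcj
  have h1 : orderOf g = orderOf b := by
    obtain ⟨c, rfl⟩ := isConj_iff.1 hcj
    exact ((MulAut.conj c).orderOf_eq g).symm
  have hb1' : orderOf b ≠ 1 := fun h => hb1 (orderOf_eq_one_iff.1 h)
  have hℓ : (orderOf b).minFac.Prime := Nat.minFac_prime hb1'
  have hℓx : (orderOf b).minFac ∣ orderOf b := Nat.minFac_dvd _
  obtain ⟨n2, n3, nm, np, -⟩ := ar hℓ (hℓx.trans (hdvdA b hb))
  have h2 := hto g hg
  rw [h1] at h2
  simp only [Finset.mem_insert, Finset.mem_singleton] at h2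
  rcases h2 with h | h | h | h | h | h | h | h
  · exact hb1' h
  · exact n2 (by rw [h] at hℓx ⊢; exact hℓx)
  · exact n3 (by rw [h] at hℓx ⊢; exact hℓx)
  · have h5 : (orderOf b).minFac ∣ 2 * 3 := by rw [h] at hℓx ⊢; exact hℓx
    rcases hℓ.dvd_mul.1 h5 with h6 | h6
    · exact n2 h6
    · exact n3 h6
  · have h5 : (orderOf b).minFac ∣ 3 * 3 := by rw [h] at hℓx ⊢; exact hℓx
    rcases hℓ.dvd_mul.1 h5 with h6 | h6
    · exact n3 h6
    · exact n3 h6
  · exact nm (hℓx.trans (h ▸ Nat.div_dvd_of_dvd (by omega)))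
  · exact nm (hℓx.trans (h ▸ dvd_rfl))
  · exact np (hℓx.trans (h ▸ Nat.div_dvd_of_dvd (by omega)))


/-- **the small Ree groups** -/
theorem rowT_ree {K : Type} [Field K] [Fintype K] {m : ℕ} (hm : 1 ≤ m)
    (hK : Fintype.card K = 3 ^ (2 * m + 1)) : RowT (Cfsg.Lie.twistedG2 K (3 ^ m)) := by
  obtain ⟨hs, hna⟩ := Cfsg.Agent.S1073.result hm hK
  have hfin : Finite ↥(Cfsg.Lie.twistedG2 K (3 ^ m)) := inferInstance
  have ho := fun d => Cfsg.Agent.S1159.result hm hK d
  have hL : IsLieTypeChar 3 ↥(Cfsg.Lie.twistedG2 K (3 ^ m)) := by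
    have h1 : Lie.IsoRee ↥(Cfsg.Lie.twistedG2 K (3 ^ m)) := ⟨K, inferInstance, inferInstance, m, hm, hK, ⟨MulEquiv.refl _⟩⟩
    unfold IsLieTypeChar
    tauto
  refine ⟨Or.inl (two_ree hm hK), row2_of_lie_orders Nat.prime_three hna hL {3, 6, 9} ?_ (by decide)⟩
  intro n hn
  simp only [Finset.mem_insert, Finset.mem_singleton] at hn
  rcases hn with rfl | rfl | rfl
  · exact ⟨by norm_num, (ho _).2 (Or.inl (by norm_num))⟩
  · exact ⟨by norm_num, (ho _).2 (Or.inl (by norm_num))⟩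
  · exact ⟨by norm_num, (ho _).2 (Or.inr (Or.inl (by norm_num)))⟩

end ree

end Cfsg.Agent.H521.TwoTw
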