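import Cfsg.Agent.H521.AAFld
import Cfsg.Agent.UGT.U2.ReeAut
import Cfsg.Agent.H71.FldAut
import Cfsg.Agent.CpAutRee.Ree
import Cfsg.Agent.S1156
import Cfsg.Agent.S1073
import Cfsg.Agent.StdL2.FGal
import Cfsg.Agent.BpLin.Descent
import Cfsg.Agent.H654.AAField

/-!
# Project AA: the small Ree groups (helper521, S3833)

`core_ree` : `Core` for `²G₂(q)`.
-/

set_option autoImplicit false

namespace Cfsg.Agent.H521.AARee

open MulAction Subgroup Cfsg Cfsg.Agent.H459.Rad Cfsg.Agent.H460.AA Cfsg.Agent.H521.AAAvg Cfsg.Agent.H521.AAOne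
open Cfsg.Agent.LieRecognition.ReeAbs Cfsg.Agent.LieRecognition.ReeSylowThree Cfsg.Agent.LieRecognition.ReeSplit
open scoped Pointwise

universe u

/-! ### Additive Hilbert 90 for order three -/

section Field

variable {F : Type*} [Field F]

theorem exists_sub {σ : F ≃+* F} (h3 : (3 : F) = 0) (hσ : σ ^ 3 = 1) (h1 : σ ≠ 1) {x : F}
    (hx : x + σ x + σ (σ x) = 0) : ∃ y : F, y - σ y = x := by
  have hσ' : ∀ a, σ (σ (σ a)) = a := by
    intro a
    have h := congrArg (fun f : F ≃+* F => f a) hσ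
    simpa [pow_succ] using h
  -- an element of trace one
  obtain ⟨θ, hθ⟩ : ∃ θ : F, θ + σ θ + σ (σ θ) ≠ 0 := by
    by_contra hcon
    push Not at hcon
    apply h1
    ext a
    have e1 := hcon a
    have e2 := hcon (a * a)
    rw [map_mul, map_mul] at e2
    have e3 : σ (σ a) = -a - σ a := by linear_combination e1
    rw [e3] at e2
    have e4 : (a - σ a) * (a - σ a) = 0 := by linear_combination (-1 : F) * e2 + (a * a + σ a * σ a) * h3
    have e5 := mul_self_eq_zero.1 e4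
    rw [RingAut.one_apply]
    exact (sub_eq_zero.1 e5).symm
  obtain ⟨T, hT⟩ : ∃ T, T = θ + σ θ + σ (σ θ) := ⟨_, rfl⟩
  have hT0 : T ≠ 0 := by rw [hT]; exact hθ
  have hTσ : σ T = T := by rw [hT, map_add, map_add, hσ']; ring
  refine ⟨T⁻¹ * (x * σ θ + (x + σ x) * σ (σ θ)), ?_⟩
  rw [map_mul, map_inv₀, hTσ, map_add, map_mul, map_mul, map_add, hσ', ← mul_sub]
  have e : x * σ θ + (x + σ x) * σ (σ θ) - (σ x * σ (σ θ) + (σ x + σ (σ x)) * θ) = T * x := by
    rw [hT]
    linear_combination (-θ) * hx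
  rw [e, inv_mul_cancel_left₀ hT0]

end Field

section Data

variable {K : Type*} [Field K] {G : Type u} [Group G] {m : ℕ} {U : K → K → K → G} {h : Kˣ → G} {n : G}

theorem mem_N_iff (D : Data m U h n) {g : G} : g ∈ normalizer (uSub D : Set G) ↔ g ∈ bSub D := by
  constructor
  · intro hg
    refine mem_bSub_of_inv_conj_mem D (x := U 1 0 0) ⟨_, _, _, rfl⟩ ?_ ?_
    · rw [← D.U_zero]
      intro h1
      exact one_ne_zero (U_injective D h1).1
    · have h1 := (mem_normalizer_iff.1 (inv_mem hg) (U 1 0 0)).1 ⟨_, _, _, rfl⟩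
      rwa [inv_inv] at h1
  · intro hg
    rw [mem_normalizer_iff]
    intro x
    refine ⟨fun hx => conj_mem_uSub D hg hx, fun hx => ?_⟩
    have h1 := inv_conj_mem_uSub D hg hx
    have e : g⁻¹ * (g * x * g⁻¹) * g = x := by group
    rwa [e] at h1

theorem n_inv' (D : Data m U h n) : n⁻¹ = n := inv_eq_of_mul_eq_one_right D.n_n

/-- the rank one structure -/
def ofData [Finite G] (D : Data m U h n) (S : Sylow 3 G) (hS : (S : Subgroup G) = uSub D) : RO G 3 where
  S := S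
  w := n
  br := by
    have : Fact (Nat.Prime 3) := ⟨Nat.prime_three⟩
    intro P
    obtain ⟨g, rfl⟩ := MulAction.exists_smul_eq G S P
    rcases D.bruhat g with ⟨t, u, v, a, rfl⟩ | ⟨t, u, v, a, t', u', v', rfl⟩
    · left
      exact (smul_eq_self_iff _ _).2 (by rw [hS, mem_N_iff]; exact ⟨t, u, v, a, rfl⟩)
    · right
      refine ⟨U t u v, by rw [hS]; exact ⟨t, u, v, rfl⟩, ?_⟩
      have e : U t u v * h a * n * U t' u' v' = (U t u v * n) * (h a⁻¹ * U t' u' v') := by
        have h1 : h a * n = n * h a⁻¹ := by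
          have := D.n_h a⁻¹
          rw [inv_inv] at this
          exact this.symm
        rw [mul_assoc (U t u v), h1]; group
      rw [e, mul_smul]
      congr 1
      refine (smul_eq_self_iff _ _).2 ?_
      rw [hS, mem_N_iff]
      exact mul_mem (h_mem_bSub D _) (uSub_le_bSub D ⟨_, _, _, rfl⟩)
  ne := by
    intro h1
    have h2 := (smul_eq_self_iff _ _).1 h1
    rw [hS, mem_N_iff] at h2
    obtain ⟨t, u, v, a, h3⟩ := h2
    refine D.ne t u v a 0 0 0 1 0 0 0 ?_
    rw [← h3, D.U_zero, D.h_one, one_mul, one_mul, mul_one]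
  inj := by
    intro u hu h1
    rw [hS] at hu
    have h2 : (n * u * n) • S = S := by
      rw [mul_assoc, mul_smul, h1, ← mul_smul, D.n_n, one_smul]
    have h3 := (smul_eq_self_iff _ _).1 h2
    rw [hS, mem_N_iff] at h3
    obtain ⟨t, x, v, a, h4⟩ := h3
    exact FixBN.ReeSplit.eq_one_of_conj D hu ⟨U t x v, ⟨_, _, _, rfl⟩, a, h4⟩

variable [Fintype K]

theorem card_N (D : Data m U h n) :
    Nat.card (normalizer (uSub D : Set G)) = Nat.card K ^ 3 * (Nat.card K - 1) := by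
  have e : normalizer (uSub D : Set G) = bSub D := by
    ext g; exact mem_N_iff D
  rw [e, card_bSub, Nat.card_eq_fintype_card]

/-- an element fixing three points has order at most two -/
theorem sq_eq_one_of_three [Finite G] (hK : Fintype.card K = 3 ^ (2 * m + 1)) (D : Data m U h n) (S : Sylow 3 G)
    (hS : (S : Subgroup G) = uSub D) {c : G} {P₁ P₂ P₃ : Sylow 3 G}
    (h12 : P₁ ≠ P₂) (h13 : P₁ ≠ P₃) (h23 : P₂ ≠ P₃) (h1 : c • P₁ = P₁) (h2 : c • P₂ = P₂) (h3 : c • P₃ = P₃) :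
    c * c = 1 := by
  have : Fact (Nat.Prime 3) := ⟨Nat.prime_three⟩
  have htr : ∀ P Q : Sylow 3 G, ∃ g : G, g • P = Q := fun P Q => MulAction.exists_smul_eq G P Q
  obtain ⟨g, hg1, hg2⟩ := (ofData D S hS).exists_std P₁ P₂ h12 htr
  obtain ⟨c', hc'⟩ : ∃ c', c' = g * c * g⁻¹ := ⟨_, rfl⟩
  have hfix : ∀ P : Sylow 3 G, c • P = P → c' • (g • P) = g • P := by
    intro P hP
    rw [hc', mul_smul, mul_smul, inv_smul_smul, hP]
  have e1 := hfix _ h1
  have e2 := hfix _ h2
  have e3 := hfix _ h3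
  rw [hg1] at e1
  rw [hg2] at e2
  have e1' := (smul_eq_self_iff _ _).1 e1
  change c' ∈ normalizer ((S : Subgroup G) : Set G) at e1'
  rw [hS, mem_N_iff] at e1'
  have e2' : (n * c' * n) • S = S := by
    have e4 : c' • (n • S) = n • S := e2
    rw [mul_smul, mul_smul, e4, ← mul_smul, D.n_n, one_smul]
  have e2'' := (smul_eq_self_iff _ _).1 e2'
  rw [hS, mem_N_iff] at e2''
  obtain ⟨a, ha⟩ : ∃ a, c' = h a := by
    have h5 : c' ∈ H71.ReeOut.hSub D := H71.ReeOut.mem_hSub_of D e1' e2''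
    exact h5
  rcases (ofData D S hS).br (g • P₃) with h5 | ⟨u, hu, h5⟩
  · exact absurd (smul_left_cancel g (hg1.trans h5.symm)) h13
  · rw [h5] at e3
    have hu' : u ∈ uSub D := by rw [← hS]; exact hu
    have hcu : c' * u * c'⁻¹ ∈ uSub D := by rw [ha]; exact h_conj_mem D a hu'
    have e6 : ((c' * u * c'⁻¹) * (ofData D S hS).w) • (ofData D S hS).S = (u * (ofData D S hS).w) • (ofData D S hS).S := by
      rw [← e3]
      simp only [mul_smul]
      congr 2
      rw [inv_smul_eq_iff]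
      exact e2.symm
    have e7 := (ofData D S hS).inj' (by show _ ∈ (S : Subgroup G); rw [hS]; exact hcu) hu e6
    obtain ⟨t, x, v, rfl⟩ := hu'
    have hne : ¬ (t = 0 ∧ x = 0 ∧ v = 0) := by
      rintro ⟨rfl, rfl, rfl⟩
      apply h23
      apply smul_left_cancel g
      rw [hg2, h5, D.U_zero, one_mul]
    rw [ha, D.h_U, mul_inv_cancel_right] at e7
    obtain ⟨h6, h7, h8⟩ := U_injective D e7
    have ha2 : a ^ 2 = 1 := by
      by_cases ht : t = 0
      · by_cases hx : x = 0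
        · have hv : v ≠ 0 := fun hv => hne ⟨ht, hx, hv⟩
          rw [eq_one_of_mul_eq' hK h8 hv, one_pow]
        · exact sq_eq_one_of_mul_eq hK h7 hx
      · rw [eq_one_of_mul_eq hK h6 ht, one_pow]
    have h9 : c' * c' = 1 := by rw [ha, ← D.h_mul, ← sq, ha2, D.h_one]
    have h10 : c * c = g⁻¹ * (c' * c') * g := by rw [hc']; group
    rw [h10, h9]; group

omit [Fintype K] in
theorem center_psl_bot : Subgroup.center (Matrix.ProjectiveSpecialLinearGroup (Fin 2) K) = ⊥ :=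
  H654.AAField.center_psl

theorem rad_psl (h4 : 3 < Fintype.card K) :
    Cfsg.solvableRadical (Matrix.ProjectiveSpecialLinearGroup (Fin 2) K) = ⊥ := by
  have hs := TwoFusion.SLTwoFacts.isSimpleGroup_psl h4
  refine rad_eq_bot_of_simple ?_
  intro hsol
  have h1 := IsSimpleGroup.comm_iff_isSolvable.2 hsol
  have h2 : Subgroup.center (Matrix.ProjectiveSpecialLinearGroup (Fin 2) K) = ⊤ := by
    rw [eq_top_iff]
    intro z _
    rw [mem_center_iff]
    intro g
    exact h1 g z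
  rw [center_psl_bot] at h2
  exact bot_ne_top h2

theorem neg_one_ne (hK : Fintype.card K = 3 ^ (2 * m + 1)) : (-1 : Kˣ) ≠ 1 := by
  intro h1
  have h2 : (-1 : K) = 1 := by
    have := congrArg Units.val h1
    simpa using this
  have h3 : (3 : K) = 0 := LieRecognition.ReeSplit.three_eq_zero hK
  have h4 : (1 : K) = 0 := by linear_combination h3 + h2
  exact one_ne_zero h4

/-- **`RC` automorphisms of odd prime order do not fix involutions** -/
theorem false_of_inv [Finite G] [IsSimpleGroup G] (hna : ∃ a b : G, a * b ≠ b * a) (hm : 1 ≤ m)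
    (hK : Fintype.card K = 3 ^ (2 * m + 1)) (D : Data m U h n)
    (hS8 : ∀ S : Sylow 2 G, Nat.card (S : Subgroup G) = 8 ∧ ∀ x ∈ (S : Subgroup G), x * x = 1)
    (hcent : Nonempty (↥(centralizer ({h (-1)} : Set G)) ≃* Multiplicative (ZMod 2) × Matrix.ProjectiveSpecialLinearGroup (Fin 2) K))
    {x : MulAut G} {p : ℕ} (hp : p.Prime) (hp2 : p ≠ 2) (hx : orderOf x = p) (hR : RC x) {t : G} (ht : t ≠ 1)
    (ht2 : t * t = 1) (hxt : x t = t) : False := by
  classical
  have h4 : 3 < Fintype.card K := by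
    rw [hK]
    calc 3 < 3 ^ 3 := by norm_num
      _ ≤ 3 ^ (2 * m + 1) := Nat.pow_le_pow_right (by norm_num) (by omega)
  obtain ⟨z, hz⟩ : ∃ z : G, z = h (-1) := ⟨_, rfl⟩
  have hz1 : z ≠ 1 := by
    rw [hz, ← D.h_one]
    intro h1
    exact neg_one_ne hK (FixBN.ReeSplit.h_inj D h1)
  have hzz : z * z = 1 := by rw [hz, ← D.h_mul, neg_mul_neg, one_mul, D.h_one]
  have ho : ∀ {y : G}, y ≠ 1 → y * y = 1 → orderOf y = 2 := fun h1 h2 => orderOf_eq_prime (by rw [sq, h2]) h1
  obtain ⟨g, hg⟩ := CpAutRee.Ree.exists_conj hna hS8 (ho ht ht2) (ho hz1 hzz)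
  obtain ⟨y, hy⟩ : ∃ y, y = tr (MulAut.conj g) x := ⟨_, rfl⟩
  have hyz : y z = z := by
    rw [hy, tr_apply, ← hg]
    simp [hxt]
    group
  have hyR : RC y := by rw [hy]; exact hR.tr _
  have hyo : orderOf y = p := by rw [hy, orderOf_tr, hx]
  obtain ⟨M, hM⟩ : ∃ M : Subgroup G, M = centralizer ({z} : Set G) := ⟨_, rfl⟩
  have hzM : z ∈ M := by rw [hM, mem_centralizer_singleton_iff]
  have hMmem : ∀ k, k ∈ M ↔ k * z = z * k := fun k => by rw [hM, mem_centralizer_singleton_iff]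
  have hMt : M ≠ ⊤ := by
    intro h1
    have h2 : z ∈ Subgroup.center G := by
      rw [mem_center_iff]
      intro k
      exact (hMmem k).1 (by rw [h1]; exact mem_top k)
    have h3 : Subgroup.center G = ⊥ ∨ Subgroup.center G = ⊤ := (inferInstance : (Subgroup.center G).Normal).eq_bot_or_eq_top
    rcases h3 with h3 | h3
    · rw [h3, mem_bot] at h2; exact hz1 h2
    · obtain ⟨a, b, hab⟩ := hna
      exact hab ((mem_center_iff.1 (by rw [h3]; exact mem_top b : b ∈ Subgroup.center G) a))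
  have hMy : ∀ k ∈ M, y k ∈ M := by
    intro k hk
    rw [hMmem] at hk ⊢
    have := congrArg y hk
    rwa [map_mul, map_mul, hyz] at this
  have key := hyR M hMt hMy
  obtain ⟨e⟩ : Nonempty (↥M ≃* Multiplicative (ZMod 2) × Matrix.ProjectiveSpecialLinearGroup (Fin 2) K) := by
    rw [hM, hz]; exact hcent
  -- the second component
  obtain ⟨f, hf⟩ : ∃ f : ↥M →* Matrix.ProjectiveSpecialLinearGroup (Fin 2) K, ∀ k, f k = (e k).2 :=
    ⟨(MonoidHom.snd _ _).comp e.toMonoidHom, fun _ => rfl⟩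
  have hfs : Function.Surjective f := by
    intro q
    refine ⟨e.symm (1, q), ?_⟩
    rw [hf, e.apply_symm_apply]
  have hker : ∀ c : ↥M, f c = 1 → (e c).1 = 1 → c = 1 := by
    intro c h1 h2
    apply e.injective
    rw [map_one]
    exact Prod.ext h2 (by rw [← hf, h1]; rfl)
  have hfz : f ⟨z, hzM⟩ = 1 := by
    have h1 : f ⟨z, hzM⟩ ∈ Subgroup.center (Matrix.ProjectiveSpecialLinearGroup (Fin 2) K) := by
      rw [mem_center_iff]
      intro q
      obtain ⟨k, rfl⟩ := hfs q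
      rw [← map_mul, ← map_mul]
      congr 1
      exact Subtype.ext ((hMmem k).1 k.2)
    rw [center_psl_bot, mem_bot] at h1
    exact h1
  have hez : (e ⟨z, hzM⟩).1 ≠ 1 := by
    intro h1
    exact hz1 (congrArg Subtype.val (hker _ hfz h1))
  have hZ2 : ∀ a b : Multiplicative (ZMod 2), a ≠ 1 → b ≠ 1 → a = b := by decide
  have hrad : ∀ c ∈ radIn M, c = 1 ∨ c = z := by
    intro c hc
    have hcM : c ∈ M := radIn_le M hc
    have h1 : (⟨c, hcM⟩ : ↥M) ∈ Cfsg.solvableRadical ↥M := (mem_radIn_coe (x := ⟨c, hcM⟩)).1 hc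
    have h2 := map_rad_le hfs h1
    rw [rad_psl h4, mem_bot] at h2
    by_cases h3 : (e ⟨c, hcM⟩).1 = 1
    · left
      exact congrArg Subtype.val (hker _ h2 h3)
    · right
      have h5 := hZ2 _ _ h3 hez
      have h6 : (⟨c, hcM⟩ : ↥M) = ⟨z, hzM⟩ := by
        apply e.injective
        exact Prod.ext h5 (by rw [← hf, ← hf, h2, hfz])
      exact congrArg Subtype.val h6
  -- `y` is trivial on `M`
  have hodd : Odd (orderOf y) := by rw [hyo]; exact hp.odd_of_ne_two hp2
  have htriv : ∀ k ∈ M, y k = k := by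
    intro k hk
    obtain ⟨c, hc⟩ : ∃ c, c = k⁻¹ * y k := ⟨_, rfl⟩
    have hyk : y k = k * c := by rw [hc]; group
    rcases hrad c (by rw [hc]; exact key k hk) with h1 | h1
    · rw [hyk, h1, mul_one]
    · exfalso
      rw [h1] at hyk
      have h2 : ∀ j : ℕ, (y ^ j) k = k * z ^ j := by
        intro j
        induction j with
        | zero => simp
        | succ j ih =>
          rw [pow_succ', MulAut.mul_apply, ih, map_mul, map_pow, hyz, hyk, mul_assoc, ← pow_succ']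
      have h3 := h2 (orderOf y)
      rw [pow_orderOf_eq_one, MulAut.one_apply] at h3
      have h5 : z ^ orderOf y = 1 := (mul_eq_left.1 h3.symm)
      obtain ⟨j, hj⟩ := hodd
      rw [hj, pow_succ, pow_mul, sq, hzz, one_pow, one_mul] at h5
      exact hz1 h5
  have h1 : y = 1 := UGT.U2.ReeAut.aut_trivial hm hK D y hodd fun k hk => htriv k ((hMmem k).2 (by rw [hz]; exact hk))
  rw [h1, orderOf_one] at hyo
  exact hp.one_lt.ne hyo

/-! ### Fixed involutions -/

omit [Fintype K] in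
theorem exists_fixed_inv [Finite G] {x : MulAut G} {p : ℕ} [hp : Fact p.Prime] (hx : x ^ p = 1)
    (hpI : ¬ p ∣ Nat.card {t : G // t ≠ 1 ∧ t * t = 1}) : ∃ t : G, t ≠ 1 ∧ t * t = 1 ∧ x t = t := by
  classical
  have := Fintype.ofFinite {t : G // t ≠ 1 ∧ t * t = 1}
  let f : (MulAut G) →* Equiv.Perm {t : G // t ≠ 1 ∧ t * t = 1} :=
    { toFun := fun y => Equiv.subtypeEquiv y.toEquiv fun t => by
        show _ ↔ y t ≠ 1 ∧ y t * y t = 1
        rw [← map_mul, ne_eq, ne_eq, EmbeddingLike.map_eq_one_iff, EmbeddingLike.map_eq_one_iff]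
      map_one' := by ext t; rfl
      map_mul' := fun y y' => by ext t; rfl }
  have h1 : (f x) ^ p ^ 1 = 1 := by rw [pow_one, ← map_pow, hx, map_one]
  rw [Nat.card_eq_fintype_card] at hpI
  obtain ⟨t, ht⟩ := Equiv.Perm.exists_fixed_point_of_prime hpI h1
  exact ⟨t, t.2.1, t.2.2, congrArg Subtype.val ht⟩

theorem card_inv [Finite G] [IsSimpleGroup G] (hna : ∃ a b : G, a * b ≠ b * a)
    (hK : Fintype.card K = 3 ^ (2 * m + 1)) (D : Data m U h n)
    (hS8 : ∀ S : Sylow 2 G, Nat.card (S : Subgroup G) = 8 ∧ ∀ x ∈ (S : Subgroup G), x * x = 1) :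
    Nat.card {t : G // t ≠ 1 ∧ t * t = 1} * (Nat.card K * (Nat.card K ^ 2 - 1)) =
      Nat.card K ^ 3 * (Nat.card K - 1) * (Nat.card K ^ 3 + 1) := by
  obtain ⟨z, hz⟩ : ∃ z : G, z = h (-1) := ⟨_, rfl⟩
  have hz1 : z ≠ 1 := by
    rw [hz, ← D.h_one]
    intro h1
    exact neg_one_ne hK (FixBN.ReeSplit.h_inj D h1)
  have hzz : z * z = 1 := by rw [hz, ← D.h_mul, neg_mul_neg, one_mul, D.h_one]
  have ho : ∀ {y : G}, y ≠ 1 → y * y = 1 → orderOf y = 2 := fun h1 h2 => orderOf_eq_prime (by rw [sq, h2]) h1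
  have h1 := LieRecognition.ReeInv.card_orbit_conj (⊤ : Subgroup G) z
  have h2 : Nat.card {y : G // ∃ n ∈ (⊤ : Subgroup G), n * z * n⁻¹ = y} = Nat.card {t : G // t ≠ 1 ∧ t * t = 1} := by
    refine Nat.card_congr (Equiv.subtypeEquivRight fun t => ?_)
    constructor
    · rintro ⟨k, -, rfl⟩
      refine ⟨fun h3 => hz1 (conj_eq_one_iff.1 h3), ?_⟩
      calc k * z * k⁻¹ * (k * z * k⁻¹) = k * (z * z) * k⁻¹ := by group
        _ = 1 := by rw [hzz]; group
    · rintro ⟨h3, h4⟩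
      obtain ⟨k, hk⟩ := CpAutRee.Ree.exists_conj hna hS8 (ho hz1 hzz) (ho h3 h4)
      exact ⟨k, mem_top _, hk⟩
  obtain ⟨e⟩ := D.centralizer_iso hK
  have hodd : Odd (Fintype.card K) := by rw [hK]; exact Odd.pow (by decide)
  have h3 : Nat.card ↥(⊤ ⊓ centralizer ({z} : Set G) : Subgroup G) = Nat.card K * (Nat.card K ^ 2 - 1) := by
    rw [top_inf_eq, hz, Nat.card_congr e.toEquiv, Nat.card_prod, Nat.card_eq_fintype_card (α := K),
      ← ClassicalGeometry.PSL2Basic.card_PSL2_odd K hodd, Nat.card_eq_fintype_card (α := Multiplicative (ZMod 2))]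
    rw [mul_comm]
    rfl
  rw [Subgroup.card_top, h2, h3] at h1
  rw [← h1, LieRecognition.ReeSylowThree.card_eq D, Nat.card_eq_fintype_card (α := K)]

/-! ### Field automorphisms -/

section Fld

open Cfsg.Agent.H71.ReeOut (Fld)

variable {Φ : (K ≃+* K) → MulAut G}

theorem fld_one (D : Data m U h n) (Fl : Fld D Φ) {τ : K ≃+* K} {g : G} (hg : Φ τ = MulAut.conj g)
    (hK : Fintype.card K = 3 ^ (2 * m + 1)) : τ = 1 := by
  have h1 : MulAut.conj g ∈ H71.ReeOut.Fr D := by rw [← hg]; exact Fl.mem τ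
  obtain ⟨a, rfl⟩ := (H71.ReeOut.conj_mem_iff D g).1 h1
  have h2 := Fl.onU τ 1 0 0
  rw [hg, MulAut.conj_apply, D.h_U, mul_inv_cancel_right] at h2
  obtain ⟨h3, -, -⟩ := U_injective D h2
  rw [map_one, mul_one] at h3
  have ha : a = 1 := eq_one_of_mul_eq hK (t := (1 : K)) (by rw [mul_one]; exact h3) one_ne_zero
  rw [ha, D.h_one, map_one] at hg
  ext t
  have h4 := Fl.onU τ t 0 0
  rw [hg, MulAut.one_apply] at h4
  exact (U_injective D h4).1.symm

/-- `x` with field part `τ` has an involutory fixed point -/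
def FI (Φ : (K ≃+* K) → MulAut G) (τ : K ≃+* K) (g : G) : Prop :=
  ∃ t : G, t ≠ 1 ∧ t * t = 1 ∧ (MulAut.conj g * Φ τ) t = t

def Nm (Φ : (K ≃+* K) → MulAut G) (τ : K ≃+* K) (g : G) : Prop := g * Φ τ g * Φ τ (Φ τ g) = 1

omit [Fintype K] in
theorem FI.of_conj {τ : K ≃+* K} {g : G} (k : G) (h1 : FI Φ τ (k * g * (Φ τ k)⁻¹)) : FI Φ τ g := by
  obtain ⟨t, h2, h3, h4⟩ := h1
  refine ⟨k⁻¹ * t * k, fun h5 => h2 ?_, ?_, ?_⟩
  · have e : t = k * (k⁻¹ * t * k) * k⁻¹ := by group
    rw [e, h5]; group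
  · calc k⁻¹ * t * k * (k⁻¹ * t * k) = k⁻¹ * (t * t) * k := by group
      _ = 1 := by rw [h3]; group
  · rw [MulAut.mul_apply, MulAut.conj_apply] at h4 ⊢
    rw [map_mul, map_mul, map_inv]
    calc g * ((Φ τ k)⁻¹ * Φ τ t * Φ τ k) * g⁻¹ = k⁻¹ * (k * g * (Φ τ k)⁻¹ * Φ τ t * (k * g * (Φ τ k)⁻¹)⁻¹) * k := by group
      _ = k⁻¹ * t * k := by rw [h4]

omit [Fintype K] in
theorem Nm.conj {τ : K ≃+* K} {g : G} (hΦ : ∀ y, Φ τ (Φ τ (Φ τ y)) = y) (hg : Nm Φ τ g) (k : G) :
    Nm Φ τ (k * g * (Φ τ k)⁻¹) := by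
  unfold Nm at hg ⊢
  simp only [map_mul, map_inv, hΦ]
  calc k * g * (Φ τ k)⁻¹ * (Φ τ k * Φ τ g * (Φ τ (Φ τ k))⁻¹) * (Φ τ (Φ τ k) * Φ τ (Φ τ g) * k⁻¹) =
      k * (g * Φ τ g * Φ τ (Φ τ g)) * k⁻¹ := by group
    _ = 1 := by rw [hg]; group

/-- **automorphisms of order three with a fixed Sylow `3`-subgroup and nontrivial field part fix an involution** -/
theorem fi_of_three (hK : Fintype.card K = 3 ^ (2 * m + 1)) (D : Data m U h n) (Fl : Fld D Φ) {τ : K ≃+* K}
    (hτ : τ ^ 3 = 1) (hτ1 : τ ≠ 1) (hΦ : ∀ y, Φ τ (Φ τ (Φ τ y)) = y) {g : G} (hg : g ∈ bSub D)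
    (hN : Nm Φ τ g) : FI Φ τ g := by
  have h3 : (3 : K) = 0 := LieRecognition.ReeSplit.three_eq_zero hK
  obtain ⟨t, u, v, a, rfl⟩ := hg
  -- the torus part
  have hUU : ∀ t u v t' u' v' : K, ∃ t'' u'' v'', U t u v * U t' u' v' = U t'' u'' v'' := by
    intro t u v t' u' v'
    exact ⟨_, _, _, D.U_mul _ _ _ _ _ _⟩
  have hprod : ∀ (t u v : K) (a : Kˣ) (t' u' v' : K) (a' : Kˣ), ∃ t'' u'' v'',
      U t u v * h a * (U t' u' v' * h a') = U t'' u'' v'' * h (a * a') := by
    intro t u v a t' u' v' a'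
    rw [mul_assoc (U t u v), U_h_eq D, ← mul_assoc, D.U_mul]
    exact ⟨_, _, _, rfl⟩
  have hΦB : ∀ (t u v : K) (a : Kˣ), Φ τ (U t u v * h a) = U (τ t) (τ u) (τ v) * h (Units.mapEquiv τ.toMulEquiv a) := by
    intro t u v a
    rw [map_mul, Fl.onU, Fl.onH]
  obtain ⟨c, hc⟩ : ∃ c : Kˣ, c * a = Units.mapEquiv τ.toMulEquiv c := by
    have h4 : a * Units.mapEquiv τ.toMulEquiv a * Units.mapEquiv τ.toMulEquiv (Units.mapEquiv τ.toMulEquiv a) = 1 := by
      have h5 := hN
      unfold Nm at h5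
      rw [hΦB, hΦB] at h5
      obtain ⟨t₁, u₁, v₁, e1⟩ := hprod t u v a (τ t) (τ u) (τ v) (Units.mapEquiv τ.toMulEquiv a)
      rw [e1] at h5
      obtain ⟨t₂, u₂, v₂, e2⟩ := hprod t₁ u₁ v₁ (a * Units.mapEquiv τ.toMulEquiv a) (τ (τ t)) (τ (τ u)) (τ (τ v))
        (Units.mapEquiv τ.toMulEquiv (Units.mapEquiv τ.toMulEquiv a))
      rw [e2] at h5
      have h6 : U t₂ u₂ v₂ * h (a * Units.mapEquiv τ.toMulEquiv a *
          Units.mapEquiv τ.toMulEquiv (Units.mapEquiv τ.toMulEquiv a)) = U 0 0 0 * h 1 := by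
        rw [h5, D.U_zero, D.h_one, one_mul]
      exact (D.inj₁ _ _ _ _ _ _ _ _ h6).2.2.2
    have h5 : BpLin.nrm τ 3 (a : K) = 1 := by
      have h6 := congrArg Units.val h4
      rw [BpLin.nrm, Finset.prod_range_succ, Finset.prod_range_succ, Finset.prod_range_succ, Finset.prod_range_zero]
      rw [one_mul]
      exact h6
    obtain ⟨y, hy0, hy⟩ := BpLin.exists_units Nat.prime_three hτ hτ1 h5
    refine ⟨(Units.mk0 y hy0)⁻¹, Units.ext ?_⟩
    show y⁻¹ * (a : K) = τ y⁻¹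
    have hy1 : τ y ≠ 0 := by
      intro h6
      exact hy0 ((map_eq_zero τ).1 h6)
    rw [map_inv₀, inv_mul_eq_iff_eq_mul₀ hy0, eq_mul_inv_iff_mul_eq₀ hy1]
    exact hy
  refine FI.of_conj (h c) ?_
  have hN1 := hN.conj hΦ (h c)
  obtain ⟨t₁, u₁, v₁, e1⟩ : ∃ t₁ u₁ v₁, h c * (U t u v * h a) * (Φ τ (h c))⁻¹ = U t₁ u₁ v₁ := by
    rw [U_h_eq D, Fl.onH, hc, mul_inv_cancel_right]
    exact ⟨_, _, _, rfl⟩
  rw [e1] at hN1 ⊢
  -- the first coordinate
  obtain ⟨s, hs⟩ : ∃ s, s - τ s = -t₁ := by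
    refine exists_sub h3 hτ hτ1 ?_
    have h5 := hN1
    unfold Nm at h5
    rw [Fl.onU, Fl.onU, D.U_mul, D.U_mul, ← D.U_zero] at h5
    obtain ⟨h6, -, -⟩ := U_injective D h5
    rw [map_neg, map_neg]
    linear_combination -h6
  refine FI.of_conj (U s 0 0) ?_
  have hN2 := hN1.conj hΦ (U s 0 0)
  obtain ⟨u₂, v₂, e2⟩ : ∃ u₂ v₂, U s 0 0 * U t₁ u₁ v₁ * (Φ τ (U s 0 0))⁻¹ = U 0 u₂ v₂ := by
    obtain ⟨t', u', v', h5⟩ := U_inv D (τ s) (τ 0) (τ 0)
    rw [Fl.onU, h5, D.U_mul, D.U_mul]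
    have h6 : U (τ s) (τ 0) (τ 0) * U t' u' v' = 1 := by rw [← h5, mul_inv_cancel]
    rw [D.U_mul, ← D.U_zero] at h6
    obtain ⟨h7, -, -⟩ := U_injective D h6
    have h8 : s + t₁ + t' = 0 := by linear_combination hs + h7
    rw [h8]
    exact ⟨_, _, rfl⟩
  rw [e2] at hN2 ⊢
  -- the last coordinate
  have hadd : ∀ u v u' v' : K, U 0 u v * U 0 u' v' = U 0 (u + u') (v + v') := fun u v u' v' =>
    H71.ReeOut.U_add0 D 0 u v u' v'
  obtain ⟨w, hw⟩ : ∃ w, w - τ w = -v₂ := by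
    refine exists_sub h3 hτ hτ1 ?_
    have h5 := hN2
    unfold Nm at h5
    rw [Fl.onU, map_zero, Fl.onU, map_zero, hadd, hadd, ← D.U_zero] at h5
    obtain ⟨-, -, h6⟩ := U_injective D h5
    rw [map_neg, map_neg]
    linear_combination -h6
  refine FI.of_conj (U 0 0 w) ?_
  have e3 : U 0 0 w * U 0 u₂ v₂ * (Φ τ (U 0 0 w))⁻¹ = U 0 u₂ 0 := by
    rw [Fl.onU, map_zero, mul_inv_eq_iff_eq_mul, hadd, hadd]
    congr 1
    · ring
    · linear_combination hw
  rw [e3]
  -- the fixed involution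
  have hev : Even (3 ^ (m + 1) + 3) := (odd_three_pow _).add_odd (by decide)
  have hcomm : U 0 u₂ 0 * h (-1) = h (-1) * U 0 u₂ 0 := by
    rw [D.h_U]
    congr 1
    congr 1
    · ring
    · rw [Units.val_neg, Units.val_one, hev.neg_one_pow, one_mul]
    · ring
  refine ⟨h (-1), ?_, ?_, ?_⟩
  · intro h5
    rw [← D.h_one] at h5
    exact neg_one_ne hK (FixBN.ReeSplit.h_inj D h5)
  · rw [← D.h_mul, neg_mul_neg, one_mul, D.h_one]
  · rw [MulAut.mul_apply, Fl.onH, MulAut.conj_apply]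
    have e : Units.mapEquiv τ.toMulEquiv (-1) = -1 := by
      apply Units.ext
      show τ ((-1 : Kˣ) : K) = _
      rw [Units.val_neg, Units.val_one, map_neg, map_one]
    rw [e, hcomm, mul_inv_cancel_right]

omit [Fintype K] in
theorem smul_S (D : Data m U h n) (S : Sylow 3 G) (hS : (S : Subgroup G) = uSub D) (Fl : Fld D Φ) [Finite G] (τ : K ≃+* K) :
    Φ τ • S = S := by
  apply Sylow.ext
  have h2 : ((Φ τ • S : Sylow 3 G) : Subgroup G) = Φ τ • (S : Subgroup G) := rfl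
  rw [h2]
  refine Subgroup.eq_of_le_of_card_ge ?_ ?_
  · rintro _ ⟨y, hy, rfl⟩
    have hy' : y ∈ uSub D := by rw [← hS]; exact hy
    obtain ⟨t, u, v, rfl⟩ := hy'
    rw [hS]
    exact ⟨_, _, _, Fl.onU τ t u v⟩
  · exact (Nat.card_congr (Subgroup.equivSMul (Φ τ) (S : Subgroup G)).toEquiv).le

theorem core_data [Finite G] [IsSimpleGroup G] (hna : ∃ a b : G, a * b ≠ b * a) (hm : 1 ≤ m)
    (hK : Fintype.card K = 3 ^ (2 * m + 1)) (D : Data m U h n) (Fl : Fld D Φ)
    (hmul : ∀ τ ρ, Φ (τ * ρ) = Φ τ * Φ ρ) (haut : ∀ α : MulAut G, ∃ (g : G) (τ : K ≃+* K), α = MulAut.conj g * Φ τ)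
    (hcyc : ∀ (p : ℕ) [Fact p.Prime], 3 < p → ∀ P : Sylow p G, IsCyclic (P : Subgroup G)) : Core G := by
  classical
  intro p hp hp2 x hx hR hP
  have hp3' : Fact (Nat.Prime 3) := ⟨Nat.prime_three⟩
  have hS8 : ∀ S : Sylow 2 G, Nat.card (S : Subgroup G) = 8 ∧ ∀ x ∈ (S : Subgroup G), x * x = 1 := fun S =>
    D.sylow_two hK (LieRecognition.ReeFinal.card_of_data D hK) S
  have hcent := D.centralizer_iso hK
  have hc : Subgroup.center G = ⊥ := by
    refine CpAut.center_eq_bot_of_simple fun h1 => ?_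
    obtain ⟨a, b, hab⟩ := hna
    exact hab (h1.is_comm.comm a b)
  have hxp : x ^ p = 1 := by rw [← hx, pow_orderOf_eq_one]
  have hΦ1 : Φ 1 = 1 := by
    have h1 := hmul 1 1
    rw [mul_one] at h1
    exact mul_eq_left.1 h1.symm
  have hΦpow : ∀ (τ : K ≃+* K) (k : ℕ), Φ (τ ^ k) = Φ τ ^ k := by
    intro τ k
    induction k with
    | zero => rw [pow_zero, pow_zero, hΦ1]
    | succ k ih => rw [pow_succ, pow_succ, hmul, ih]
  have hpowτ : ∀ {y : MulAut G} {g : G} {τ : K ≃+* K} {k : ℕ}, y ^ k = 1 → y = MulAut.conj g * Φ τ → τ ^ k = 1 := by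
    intro y g τ k hy hyg
    have h1 : QuotientGroup.mk' (Cfsg.Inn G) (Φ τ ^ k) = 1 := by
      have h2 : QuotientGroup.mk' (Cfsg.Inn G) (MulAut.conj g) = 1 :=
        (QuotientGroup.eq_one_iff _).2 ⟨g, rfl⟩
      have h3 : QuotientGroup.mk' (Cfsg.Inn G) (y ^ k) = 1 := by rw [hy, map_one]
      rw [hyg, map_pow, map_mul, h2, one_mul] at h3
      rw [map_pow]
      exact h3
    rw [← hΦpow] at h1
    obtain ⟨g', hg'⟩ := (QuotientGroup.eq_one_iff _).1 h1
    exact fld_one D Fl hg'.symm hK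
  obtain ⟨S, hS⟩ := H71.ReeOut.exists_sylow hK D
  obtain ⟨T, hT⟩ : ∃ T, T = ofData D S hS := ⟨_, rfl⟩
  have hTS : T.S = S := by rw [hT]; rfl
  have hTw : T.w = n := by rw [hT]; rfl
  have hcS : Nat.card (T.S : Subgroup G) = Nat.card K ^ 3 := by
    rw [hTS, hS, card_uSub, Nat.card_eq_fintype_card]
  have hcN : Nat.card (normalizer ((T.S : Subgroup G) : Set G)) = Nat.card K ^ 3 * (Nat.card K - 1) := by
    rw [hTS, hS, card_N]
  have hq : Nat.card K = 3 ^ (2 * m + 1) := by rw [Nat.card_eq_fintype_card, hK]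
  have hq27 : 27 ≤ Nat.card K := by
    rw [hq]
    calc 27 = 3 ^ 3 := by norm_num
      _ ≤ 3 ^ (2 * m + 1) := Nat.pow_le_pow_right (by norm_num) (by omega)
  have h3q : 3 ∣ Nat.card K := by rw [hq]; exact dvd_pow_self 3 (by omega)
  have hz1 : h (-1) ≠ (1 : G) := by
    rw [← D.h_one]
    intro h1
    exact neg_one_ne hK (FixBN.ReeSplit.h_inj D h1)
  have hzz : h (-1) * h (-1) = (1 : G) := by rw [← D.h_mul, neg_mul_neg, one_mul, D.h_one]
  by_cases hI : p ∣ Nat.card {t : G // t ≠ 1 ∧ t * t = 1}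
  swap
  · obtain ⟨t, h1, h2, h3⟩ := exists_fixed_inv hxp hI
    exact false_of_inv hna hm hK D hS8 hcent hp.out hp2 hx hR h1 h2 h3
  by_cases hp3 : p = 3
  · -- `p = 3`
    subst hp3
    have h3S : 3 ∣ Nat.card (T.S : Subgroup G) := by rw [hcS]; exact dvd_pow h3q (by norm_num)
    have hf1 : 0 < fx 3 x := by
      have h1 := fx_modEq (r := 3) (PE.of_orderOf hx.dvd)
      rw [T.card_eq] at h1
      rcases Nat.eq_zero_or_pos (fx 3 x) with h2 | h2
      · exfalso
        rw [h2] at h1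
        have h4 := (Nat.modEq_zero_iff_dvd).1 h1.symm
        have h5 := (Nat.dvd_add_right h3S).1 h4
        norm_num at h5
      · exact h2
    obtain ⟨P, hPx⟩ : ∃ P : Sylow 3 G, x • P = P := by
      have h1 : Nonempty {P : Sylow 3 G // x • P = P} := (Nat.card_pos_iff.1 hf1).1
      exact ⟨h1.some, h1.some.2⟩
    obtain ⟨g, hg⟩ := MulAction.exists_smul_eq G P S
    obtain ⟨y, hy⟩ : ∃ y, y = tr (MulAut.conj g) x := ⟨_, rfl⟩
    have hy' : y = MulAut.conj g * x * (MulAut.conj g)⁻¹ := hy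
    have hyS : y • S = S := by
      rw [hy', mul_smul, mul_smul, ← map_inv, smul_mulAut, smul_mulAut, ← hg, inv_smul_smul, hPx]
    have hyR : RC y := by rw [hy]; exact hR.tr _
    have hyP : PA 3 y := by rw [hy]; exact PA_tr _ hP
    have hyo : orderOf y = 3 := by rw [hy, orderOf_tr, hx]
    have hyp : y ^ 3 = 1 := by rw [← hyo, pow_orderOf_eq_one]
    obtain ⟨k, τ, hkτ⟩ := haut y
    have hτ3 := hpowτ hyp hkτ
    have hkB : k ∈ bSub D := by
      have h1 : k • S = S := by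
        have h2 := hyS
        rw [hkτ, mul_smul, smul_S D S hS Fl τ, smul_mulAut] at h2
        exact h2
      have h2 := (smul_eq_self_iff _ _).1 h1
      rwa [hS, mem_N_iff] at h2
    by_cases hτ1 : τ = 1
    · rw [hτ1, hΦ1, mul_one] at hkτ
      subst hkτ
      have hk3 : k ^ 3 = 1 := by
        apply conj_injective hc
        rw [map_pow, hyp, map_one]
      have hk1 : k ≠ 1 := by
        rintro rfl
        rw [map_one, orderOf_one] at hyo
        norm_num at hyo
      have hkU : k ∈ uSub D := by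
        refine (FixBN.ReeSplit.split hK D).mem_of_pow (n := 1) ?_ (by rw [pow_one]; exact hk3)
        obtain ⟨t, u, v, a, rfl⟩ := hkB
        exact ⟨U t u v, ⟨_, _, _, rfl⟩, a, rfl⟩
      obtain ⟨t, u, v, rfl⟩ := hkU
      have ht := H71.ReeOut.zero_of_cube hK D hk3
      subst ht
      by_cases hu : u = 0
      · -- central elements are inverted
        subst hu
        have hinv : MulAut.conj (U 0 0 v) * (MulAut.conj (h (-1)) * MulAut.conj (U 0 0 v) * (MulAut.conj (h (-1)))⁻¹) = 1 := by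
          rw [← map_inv, ← map_mul, ← map_mul, ← map_mul, ← map_one MulAut.conj]
          congr 1
          have hodd : Odd (2 * 3 ^ (m + 1) + 3) := (even_two_mul _).add_odd (by decide)
          rw [D.h_U, mul_inv_cancel_right, D.U_mul, ← D.U_zero, Units.val_neg, Units.val_one, hodd.neg_one_pow]
          congr 1
          · ring
          · rw [mul_zero, mul_zero]
            ring
          · rw [mul_zero, mul_zero]
            ring
        refine false_of_inverted T hyP h3S ?_ hinv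
        rw [fx, Nat.card_eq_one_iff_unique]
        have hmem : U 0 0 v ∈ (T.S : Subgroup G) := by rw [hTS, hS]; exact ⟨_, _, _, rfl⟩
        refine ⟨⟨?_⟩, ⟨T.S, T.mem_smul_self hmem⟩⟩
        have key : ∀ P : {P : Sylow 3 G // (MulAut.conj (U 0 0 v) : MulAut G) • P = P}, P.1 = T.S := by
          rintro ⟨P, hP⟩
          rcases T.br P with h1 | ⟨s, hs, rfl⟩
          · exact h1
          · exfalso
            rw [smul_mulAut, ← mul_smul, ← mul_assoc] at hP
            have h1 := T.inj' (mul_mem hmem hs) hs hP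
            exact hk1 (mul_eq_right.1 h1)
        intro P P'
        exact Subtype.ext ((key P).trans (key P').symm)
      · -- the others commute with an involution
        obtain ⟨s, hs⟩ : ∃ s : K, v + u * s = 0 := ⟨-v / u, by field_simp; ring⟩
        obtain ⟨w, hw⟩ : ∃ w : G, w = U s 0 0 := ⟨_, rfl⟩
        have e1 : w * U 0 u v = U 0 u 0 * w := by
          rw [hw, D.U_mul, D.U_mul]
          have h0 : (0 : K) ^ 3 ^ (m + 1) = 0 := zero_pow (by positivity)
          congr 1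
          · ring
          · rw [h0]; ring
          · rw [h0]; linear_combination hs
        have hev : Even (3 ^ (m + 1) + 3) := (odd_three_pow _).add_odd (by decide)
        have hcomm : U 0 u 0 * h (-1) = h (-1) * U 0 u 0 := by
          rw [D.h_U]
          congr 1
          congr 1
          · ring
          · rw [Units.val_neg, Units.val_one, hev.neg_one_pow, one_mul]
          · ring
        refine false_of_inv hna hm hK D hS8 hcent Nat.prime_three (by norm_num) hyo hyR (t := w⁻¹ * h (-1) * w) ?_ ?_ ?_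
        · intro h1
          apply hz1
          have e : h (-1) = w * (w⁻¹ * h (-1) * w) * w⁻¹ := by group
          rw [e, h1]; group
        · calc w⁻¹ * h (-1) * w * (w⁻¹ * h (-1) * w) = w⁻¹ * (h (-1) * h (-1)) * w := by group
            _ = 1 := by rw [hzz]; group
        · rw [MulAut.conj_apply]
          have e2 : U 0 u v = w⁻¹ * U 0 u 0 * w := by
            calc U 0 u v = w⁻¹ * (w * U 0 u v) := by group
              _ = _ := by rw [e1]; group
          rw [e2]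
          calc w⁻¹ * U 0 u 0 * w * (w⁻¹ * h (-1) * w) * (w⁻¹ * U 0 u 0 * w)⁻¹ =
              w⁻¹ * (U 0 u 0 * h (-1)) * (U 0 u 0)⁻¹ * w := by group
            _ = w⁻¹ * h (-1) * w := by rw [hcomm]; group
    · -- field type
      have hΦ3 : ∀ z, Φ τ (Φ τ (Φ τ z)) = z := by
        intro z
        have h1 := hΦpow τ 3
        rw [hτ3, hΦ1] at h1
        have h2 := congrArg (fun f : MulAut G => f z) h1
        simpa [pow_succ] using h2.symm
      have hNm : Nm Φ τ k := by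
        apply conj_injective hc
        rw [map_one, map_mul, map_mul]
        rw [AAFld.conj_aut, AAFld.conj_aut, AAFld.conj_aut]
        have h1 := hyp
        rw [hkτ, pow_succ, pow_two] at h1
        have h2 : Φ τ * Φ τ * Φ τ = 1 := by
          have h3 := hΦpow τ 3
          rw [hτ3, hΦ1, pow_succ, pow_two] at h3
          exact h3.symm
        calc MulAut.conj k * (Φ τ * MulAut.conj k * (Φ τ)⁻¹) * (Φ τ * (Φ τ * MulAut.conj k * (Φ τ)⁻¹) * (Φ τ)⁻¹) =
            (MulAut.conj k * Φ τ * (MulAut.conj k * Φ τ) * (MulAut.conj k * Φ τ)) * (Φ τ * Φ τ * Φ τ)⁻¹ := by group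
          _ = 1 := by rw [h1, h2]; group
      obtain ⟨t, h1, h2, h3⟩ := fi_of_three hK D Fl hτ3 hτ1 hΦ3 hkB hNm
      rw [← hkτ] at h3
      exact false_of_inv hna hm hK D hS8 hcent Nat.prime_three (by norm_num) hyo hyR h1 h2 h3
  · -- `p` divides `q ^ 2 - q + 1`
    have hp0 := hp.out.pos
    have h3p : 3 < p := by
      have h2 := hp.out.two_le
      have h4 : p ≠ 2 := hp2
      omega
    have hpq : ¬ p ∣ Nat.card K := by
      intro h1
      rw [hq] at h1
      exact hp3 ((Nat.prime_dvd_prime_iff_eq hp.out Nat.prime_three).1 (hp.out.dvd_of_dvd_pow h1))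
    obtain ⟨q, hqq⟩ : ∃ q, q = Nat.card K := ⟨_, rfl⟩
    have hci := card_inv hna hK D hS8
    rw [← hqq] at hci hpq hq27 hcS hcN
    -- the number of involutions
    obtain ⟨r, rfl⟩ : ∃ r, q = r + 1 := ⟨q - 1, by omega⟩
    have hIc : Nat.card {t : G // t ≠ 1 ∧ t * t = 1} = (r + 1) ^ 2 * ((r + 1) * r + 1) := by
      have e1 : (r + 1) ^ 2 - 1 = r * (r + 2) := by
        have : (r + 1) ^ 2 = r * (r + 2) + 1 := by ring
        omega
      rw [e1, Nat.add_sub_cancel] at hci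
      have hr : 0 < r := by omega
      have h0 : 0 < (r + 1) * (r * (r + 2)) := by positivity
      refine Nat.eq_of_mul_eq_mul_right h0 ?_
      rw [hci]
      ring
    have hpD : p ∣ (r + 1) * r + 1 := by
      rw [hIc] at hI
      rcases hp.out.dvd_mul.1 hI with h1 | h1
      · exact absurd (hp.out.dvd_of_dvd_pow h1) hpq
      · exact h1
    have hpQ : p ∣ Nat.card (T.S : Subgroup G) + 1 := by
      rw [hcS]
      have e1 : (r + 1) ^ 3 + 1 = ((r + 1) * r + 1) * (r + 2) := by ring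
      rw [e1]
      exact dvd_mul_of_dvd_left hpD _
    have hN : ¬ p ∣ Nat.card (normalizer ((T.S : Subgroup G) : Set G)) := by
      rw [hcN, hp.out.dvd_mul]
      rintro (h1 | h1)
      · exact hpq (hp.out.dvd_of_dvd_pow h1)
      · rw [Nat.add_sub_cancel] at h1
        have h2 := (Nat.dvd_add_right (dvd_mul_of_dvd_right h1 (r + 1))).1 hpD
        exact hp.out.one_lt.ne' (Nat.dvd_one.1 h2)
    obtain ⟨g, τ, hxτ⟩ := haut x
    have hτp := hpowτ hxp hxτ
    by_cases hτ1 : τ = 1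
    · -- inner
      rw [hτ1, hΦ1, mul_one] at hxτ
      subst hxτ
      have hg1 : g ≠ 1 := by
        rintro rfl
        rw [map_one, orderOf_one] at hx
        exact hp.out.one_lt.ne hx
      have hgo : orderOf g = p := by
        rw [← hx]; exact (orderOf_injective _ (conj_injective hc) g).symm
      have hf0 := fx_eq_zero T hN (PE.of_orderOf hgo.dvd) hg1
      obtain ⟨c, hc1, hcg, hcS'⟩ := exists_comm hc T hP hN (by
        rw [hcN, hcS]
        have : 0 < (r + 1) ^ 3 := by positivity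
        calc (r + 1) ^ 3 = (r + 1) ^ 3 * 1 := (mul_one _).symm
          _ < (r + 1) ^ 3 * (r + 1 - 1) := Nat.mul_lt_mul_of_pos_left (by omega) this) hf0
      rw [hTS] at hcS'
      have hmove : ∀ y : G, PE p y → y ≠ 1 → ∀ P : Sylow 3 G, y • P ≠ P := by
        intro y hy hy1 P hyP
        have h1 := fx_eq_zero T hN hy hy1
        have h2 : Nonempty {P : Sylow 3 G // (MulAut.conj y : MulAut _) • P = P} := ⟨⟨P, hyP⟩⟩
        have h3 : 0 < Nat.card {P : Sylow 3 G // (MulAut.conj y : MulAut _) • P = P} :=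
          Nat.card_pos
        exact h3.ne' h1
      have hg2 : g * g ≠ 1 := by
        intro h
        have h1 : orderOf g ∣ 2 := orderOf_dvd_of_pow_eq_one (by rw [pow_two, h])
        rw [hgo] at h1
        exact hp2 ((Nat.prime_dvd_prime_iff_eq hp.out Nat.prime_two).1 h1)
      have hPE := PE.of_orderOf hgo.dvd
      have hcc : c * c = 1 := by
        refine sq_eq_one_of_three hK D S hS (P₁ := S) (P₂ := g • S) (P₃ := (g * g) • S) ?_ ?_ ?_ hcS' ?_ ?_
        · exact (hmove g hPE hg1 S).symm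
        · exact (hmove (g * g) (by rw [← pow_two]; exact hPE.pow 2) hg2 S).symm
        · rw [mul_smul]
          exact (hmove g hPE hg1 (g • S)).symm
        · rw [← mul_smul, hcg, mul_smul, hcS']
        · rw [← mul_smul, ← mul_assoc, hcg, mul_assoc, hcg, ← mul_assoc, mul_smul, hcS']
      refine false_of_inv hna hm hK D hS8 hcent hp.out hp2 hx hR hc1 hcc ?_
      rw [MulAut.conj_apply, ← hcg, mul_inv_cancel_right]
    · -- outer
      have hτo : orderOf τ = p := by
        rcases (Nat.dvd_prime hp.out).1 (orderOf_dvd_of_pow_eq_one hτp) with h1 | h1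
        · exact absurd (orderOf_eq_one_iff.1 h1) hτ1
        · exact h1
      have hqz := StdL2.FGal.card_fixed τ
      rw [hτo, ← hqq] at hqz
      have hsp : Φ τ ^ p = 1 := by rw [← hΦpow, hτp, hΦ1]
      -- fixed points of `Φ τ`
      have hfx : fx 3 (Φ τ) = Nat.card {a : K // τ a = a} ^ 3 + 1 := by
        have h1 := smul_S D S hS Fl τ
        have h2 : Φ τ • (n • S) = n • S := by
          rw [aut_smul, h1, Fl.onN]
        have h3 := T.card_fix (x := Φ τ) (by rw [hTS]; exact h1) (by rw [hTS, hTw]; exact h2)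
        rw [fx, h3]
        congr 1
        have e3 : Nat.card {a : K // τ a = a} ^ 3 =
            Nat.card ({a : K // τ a = a} × {a : K // τ a = a} × {a : K // τ a = a}) := by
          rw [Nat.card_prod, Nat.card_prod]; ring
        rw [e3]
        refine (Nat.card_congr (Equiv.ofBijective (fun x : {a : K // τ a = a} × {a : K // τ a = a} × {a : K // τ a = a} =>
          (⟨⟨U x.1 x.2.1 x.2.2, ?_⟩, ?_⟩ : {u : ↥(T.S : Subgroup G) // Φ τ (u : G) = u})) ⟨?_, ?_⟩)).symm
        · rw [hTS, hS]; exact ⟨_, _, _, rfl⟩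
        · show Φ τ (U x.1 x.2.1 x.2.2) = U x.1 x.2.1 x.2.2
          rw [Fl.onU, x.1.2, x.2.1.2, x.2.2.2]
        · rintro ⟨⟨a, ha⟩, ⟨b, hb⟩, ⟨c, hc⟩⟩ ⟨⟨a', ha'⟩, ⟨b', hb'⟩, ⟨c', hc'⟩⟩ h
          have h4 : U a b c = U a' b' c' := congrArg (fun w : {u : ↥(T.S : Subgroup G) //
            Φ τ (u : G) = u} => ((w : ↥(T.S : Subgroup G)) : G)) h
          obtain ⟨rfl, rfl, rfl⟩ := U_injective D h4
          rfl
        · rintro ⟨⟨u, hu'⟩, hfu⟩
          have hu'' := hu'
          rw [hTS, hS] at hu''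
          obtain ⟨a, b, c, rfl⟩ := hu''
          have h4 : Φ τ (U a b c) = U a b c := hfu
          rw [Fl.onU] at h4
          obtain ⟨h5, h6, h7⟩ := U_injective D h4
          exact ⟨(⟨a, h5⟩, ⟨b, h6⟩, ⟨c, h7⟩), rfl⟩
      obtain ⟨y, hy⟩ := AAFld.exists_conj T hc hp2 hsp hxp (g₀ := g) hxτ (hcyc p h3p) hN hfx
        (by rw [hcS, hqz]; rw [← pow_mul, ← pow_mul, mul_comm]) hpQ
      refine false_of_inv hna hm hK D hS8 hcent hp.out hp2 hx hR (t := y * h (-1) * y⁻¹) ?_ ?_ ?_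
      · intro h1
        exact hz1 (conj_eq_one_iff.1 h1)
      · calc y * h (-1) * y⁻¹ * (y * h (-1) * y⁻¹) = y * (h (-1) * h (-1)) * y⁻¹ := by group
          _ = 1 := by rw [hzz]; group
      · have e : Φ τ (h (-1)) = h (-1) := by
          rw [Fl.onH]
          congr 1
          apply Units.ext
          show τ ((-1 : Kˣ) : K) = _
          rw [Units.val_neg, Units.val_one, map_neg, map_one]
        have e2 : (MulAut.conj y)⁻¹ (y * h (-1) * y⁻¹) = h (-1) := by
          rw [MulAut.conj_inv_apply]; group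
        rw [hy, MulAut.mul_apply, MulAut.mul_apply, e2, e, MulAut.conj_apply]

end Fld

end Data

theorem core {K : Type*} [Field K] [Fintype K] {m : ℕ} (hm : 1 ≤ m) (hK : Fintype.card K = 3 ^ (2 * m + 1)) :
    Core ↥(Cfsg.Lie.twistedG2 K (3 ^ m)) := by
  obtain ⟨θ, c⟩ := Cfsg.Agent.ChevalleyStructure.Ree.Normal.exists_ctx hK
  have hfin : Finite ↥(Cfsg.Lie.twistedG2 K (3 ^ m)) :=
    LieRecognition.ReeSylowThree.finite (Cfsg.Agent.ChevalleyStructure.Ree.Data.data c)
  obtain ⟨hs, hnc⟩ := S1073.result hm hK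
  have hna : ∃ a b : ↥(Cfsg.Lie.twistedG2 K (3 ^ m)), a * b ≠ b * a := by
    by_contra hcon
    push Not at hcon
    exact hnc ⟨⟨hcon⟩⟩
  refine core_data (Φ := fun τ => S2127.fld τ (3 ^ m)) hna hm hK (Cfsg.Agent.ChevalleyStructure.Ree.Data.data c)
    (H71.FldAut.reeFld c) (fun τ ρ => H71.FldAut.fldG_mul τ ρ (3 ^ m)) (H71.FldAut.ree_aut hm hK) ?_
  intro p _ h3 P
  exact S1156.result hm hK h3 P

theorem core_ree {G : Type*} [Group G] [Finite G] (h : Cfsg.Lie.IsoRee G) : Core G := by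
  obtain ⟨K, _, _, m, hm, hK, ⟨e⟩⟩ := h
  exact Core.of_equiv e (core hm hK)

end Cfsg.Agent.H521.AARee
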