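import Mathlib
import Cfsg.Agent.H460.AADef

/-!
# Lemma 1 of project AA (helper521, S3833)

`lemma1` : `a` of odd prime order `p` normalises the `p'`-group `B` and all `a a^b` (`b ∈ B`) are `p`-elements: the
set `{a⁻¹ a^b}` is a subgroup in which `a` has no fixed points.
-/

set_option autoImplicit false

namespace Cfsg.Agent.H521.AALem

open Subgroup Cfsg.Agent.H460.AA

variable {G : Type*} [Group G]

theorem card_conj [Finite G] (B : Subgroup G) {a a' : G} (h : ∀ b ∈ B, b * a = a * b ↔ b * a' = a' * b) :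
    Nat.card {y : G // ∃ b ∈ B, y = b * a * b⁻¹} = Nat.card {y : G // ∃ b ∈ B, y = b * a' * b⁻¹} := by
  classical
  have key : ∀ a a' : G, (∀ b ∈ B, b * a = a * b → b * a' = a' * b) →
      Nat.card {y : G // ∃ b ∈ B, y = b * a' * b⁻¹} ≤ Nat.card {y : G // ∃ b ∈ B, y = b * a * b⁻¹} := by
    intro a a' h
    let f : {y : G // ∃ b ∈ B, y = b * a * b⁻¹} → {y : G // ∃ b ∈ B, y = b * a' * b⁻¹} :=
      fun y => ⟨y.2.choose * a' * y.2.choose⁻¹, _, y.2.choose_spec.1, rfl⟩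
    refine Nat.card_le_card_of_surjective f ?_
    rintro ⟨_, b, hb, rfl⟩
    refine ⟨⟨b * a * b⁻¹, b, hb, rfl⟩, Subtype.ext ?_⟩
    have hy : ∃ c ∈ B, b * a * b⁻¹ = c * a * c⁻¹ := ⟨b, hb, rfl⟩
    obtain ⟨c, hc, hc1, hc2⟩ : ∃ c, c = hy.choose ∧ c ∈ B ∧ b * a * b⁻¹ = c * a * c⁻¹ :=
      ⟨_, rfl, hy.choose_spec.1, hy.choose_spec.2⟩
    show hy.choose * a' * hy.choose⁻¹ = b * a' * b⁻¹
    rw [← hc]
    have h1 : (c⁻¹ * b) * a = a * (c⁻¹ * b) := by
      calc (c⁻¹ * b) * a = c⁻¹ * (b * a * b⁻¹) * b := by group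
        _ = c⁻¹ * (c * a * c⁻¹) * b := by rw [hc2]
        _ = a * (c⁻¹ * b) := by group
    have h2 := h _ (mul_mem (inv_mem hc1) hb) h1
    calc c * a' * c⁻¹ = c * (a' * (c⁻¹ * b)) * b⁻¹ := by group
      _ = c * ((c⁻¹ * b) * a') * b⁻¹ := by rw [h2]
      _ = b * a' * b⁻¹ := by group
  exact le_antisymm (key a' a fun b hb => (h b hb).2) (key a a' fun b hb => (h b hb).1)

/-- a `p`-element of the coset `a² B` is conjugate to `a²` under `B` -/
theorem conj_sq [Finite G] {p : ℕ} [hp : Fact p.Prime] (hp2 : p ≠ 2) {a : G} (ha : orderOf a = p) {B : Subgroup G}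
    (hB : ¬ p ∣ Nat.card B) (hn : ∀ b ∈ B, a * b * a⁻¹ ∈ B) {y : G} (hy : PE p y) (hyB : (a * a)⁻¹ * y ∈ B) :
    ∃ b ∈ B, y = b * (a * a) * b⁻¹ := by
  classical
  have hnz : ∀ j : ℤ, ∀ b ∈ B, a ^ j * b * (a ^ j)⁻¹ ∈ B := by
    have h1 : a ∈ normalizer (B : Set G) := by
      rw [mem_normalizer_iff]
      intro b
      refine ⟨hn b, fun hb => ?_⟩
      have h2 : ∀ k : ℕ, ∀ b ∈ B, a ^ k * b * (a ^ k)⁻¹ ∈ B := by
        intro k
        induction k with
        | zero => intro b hb; simpa using hb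
        | succ k ih =>
          intro b hb
          have h3 := hn _ (ih b hb)
          have e : a ^ (k + 1) * b * (a ^ (k + 1))⁻¹ = a * (a ^ k * b * (a ^ k)⁻¹) * a⁻¹ := by
            rw [pow_succ']; group
          rwa [e]
      have h3 := h2 (p - 1) _ hb
      have e : a ^ (p - 1) * (a * b * a⁻¹) * (a ^ (p - 1))⁻¹ = a ^ (p - 1 + 1) * b * (a ^ (p - 1 + 1))⁻¹ := by
        rw [pow_succ]; group
      rw [e, Nat.sub_add_cancel hp.out.one_lt.le, ← ha, pow_orderOf_eq_one] at h3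
      simpa using h3
    intro j b hb
    have h2 := zpow_mem h1 j
    exact (mem_normalizer_iff.1 h2 b).1 hb
  have haB : a ∈ normalizer (B : Set G) := by
    rw [mem_normalizer_iff]
    intro b
    refine ⟨hn b, fun hb => ?_⟩
    have h1 := hnz (-1) _ hb
    have e : a ^ (-1 : ℤ) * (a * b * a⁻¹) * (a ^ (-1 : ℤ))⁻¹ = b := by group
    rwa [e] at h1
  obtain ⟨E, hE⟩ : ∃ E : Subgroup G, E = B ⊔ zpowers a := ⟨_, rfl⟩
  have hmemE : ∀ e ∈ E, ∃ b ∈ B, ∃ j : ℤ, e = b * a ^ j := by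
    intro e he
    have he' : e ∈ ((B ⊔ zpowers a : Subgroup G) : Set G) := by rw [← hE]; exact he
    rw [Subgroup.coe_mul_of_right_le_normalizer_left B (zpowers a) (zpowers_le.2 haB)] at he'
    obtain ⟨b, hb, _, ⟨j, rfl⟩, rfl⟩ := he'
    exact ⟨b, hb, j, rfl⟩
  have haE : a ∈ E := by rw [hE]; exact mem_sup_right (mem_zpowers a)
  have hBE : B ≤ E := by rw [hE]; exact le_sup_left
  have haB' : ∀ j : ℤ, a ^ j ∈ B → a ^ j = 1 := by
    intro j hj
    have h1 : orderOf (a ^ j) ∣ Nat.card B := by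
      have := orderOf_dvd_natCard (⟨_, hj⟩ : B)
      rwa [Subgroup.orderOf_mk] at this
    have h2 : orderOf (a ^ j) ∣ p := by
      rw [← ha]; exact orderOf_dvd_of_mem_zpowers ⟨j, rfl⟩
    rcases (Nat.dvd_prime hp.out).1 h2 with h | h
    · exact orderOf_eq_one_iff.1 h
    · rw [h] at h1; exact absurd h1 hB
  have hyE : y ∈ E := by
    have e : y = a * a * ((a * a)⁻¹ * y) := by group
    rw [e]; exact mul_mem (mul_mem haE haE) (hBE hyB)
  -- the order of `E`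
  have hcardE : Nat.card E = Nat.card B * p := by
    have h1 : Nat.card E = Nat.card (B × zpowers a) := by
      refine (Nat.card_congr (Equiv.ofBijective (fun x : B × zpowers a => (⟨x.1 * x.2, mul_mem (hBE x.1.2)
        ((zpowers_le.2 haE) x.2.2)⟩ : E)) ⟨?_, ?_⟩)).symm
      · rintro ⟨⟨b, hb⟩, ⟨_, j, rfl⟩⟩ ⟨⟨b', hb'⟩, ⟨_, j', rfl⟩⟩ h
        have h2 : b * a ^ j = b' * a ^ j' := congrArg Subtype.val h
        have h3 : b'⁻¹ * b = a ^ (j' - j) := by
          rw [zpow_sub, ← mul_inv_eq_iff_eq_mul.2 h2]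
          group
        have h4 := haB' (j' - j) (h3 ▸ mul_mem (inv_mem hb') hb)
        have h5 : b = b' := by rw [h4] at h3; exact (inv_mul_eq_one.1 h3).symm
        subst h5
        have h6 := mul_left_cancel h2
        exact Prod.ext rfl (Subtype.ext h6)
      · rintro ⟨e, he⟩
        obtain ⟨b, hb, j, rfl⟩ := hmemE e he
        exact ⟨(⟨b, hb⟩, ⟨_, j, rfl⟩), rfl⟩
    rw [h1, Nat.card_prod, Nat.card_zpowers, ha]
  -- Sylow subgroups of `E`
  have hy1 : y ≠ 1 := by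
    rintro rfl
    rw [mul_one] at hyB
    have h1 := inv_mem hyB
    rw [inv_inv] at h1
    have h2 := haB' 2 (by rw [zpow_two]; exact h1)
    have h3 : orderOf a ∣ 2 := orderOf_dvd_of_pow_eq_one (by exact_mod_cast h2)
    rw [ha] at h3
    exact hp2 ((Nat.prime_dvd_prime_iff_eq hp.out Nat.prime_two).1 h3)
  obtain ⟨k, hk⟩ := hy
  have hyo : orderOf y = p := by
    have h1 : orderOf y ∣ Nat.card B * p := by
      rw [← hcardE]
      have := orderOf_dvd_natCard (⟨y, hyE⟩ : E)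
      rwa [Subgroup.orderOf_mk] at this
    have h2 : orderOf y ∣ p := by
      rw [hk] at h1 ⊢
      exact Nat.Coprime.dvd_of_dvd_mul_left (Nat.Coprime.pow_left k ((Nat.Prime.coprime_iff_not_dvd hp.out).2 hB)) h1
    rcases (Nat.dvd_prime hp.out).1 h2 with h | h
    · exact absurd (orderOf_eq_one_iff.1 h) hy1
    · exact h
  have hfac : (Nat.card E).factorization p = 1 := by
    rw [hcardE, Nat.factorization_mul Nat.card_pos.ne' hp.out.ne_zero, Finsupp.add_apply,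
      Nat.factorization_eq_zero_of_not_dvd hB, hp.out.factorization_self]
  have hcard : ∀ z : E, orderOf z = p → Nat.card (zpowers z) = p ^ (Nat.card E).factorization p := by
    intro z hz
    rw [Nat.card_zpowers, hz, hfac, pow_one]
  have hao' : orderOf (⟨a, haE⟩ : E) = p := by rw [Subgroup.orderOf_mk, ha]
  have hyo' : orderOf (⟨y, hyE⟩ : E) = p := by rw [Subgroup.orderOf_mk, hyo]
  obtain ⟨e, he⟩ := MulAction.exists_smul_eq E (Sylow.ofCard _ (hcard _ hao')) (Sylow.ofCard _ (hcard _ hyo'))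
  have he' : ((e • (Sylow.ofCard _ (hcard _ hao')) : Sylow p E) : Subgroup E) = zpowers ⟨y, hyE⟩ := by rw [he]; rfl
  have h1 : (⟨y, hyE⟩ : E) ∈ ((e • (Sylow.ofCard _ (hcard _ hao')) : Sylow p E) : Subgroup E) := by
    rw [he']; exact mem_zpowers _
  obtain ⟨z, hz, hz'⟩ := h1
  obtain ⟨j, rfl⟩ := hz
  obtain ⟨b, hb, l, hl⟩ := hmemE e e.2
  have h2 : y = b * a ^ j * b⁻¹ := by
    have h3 : (e : G) * a ^ j * (e : G)⁻¹ = y := congrArg Subtype.val hz'
    rw [← h3, hl]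
    have h4 : a ^ l * a ^ j * (a ^ l)⁻¹ = a ^ j := by
      rw [← zpow_add, ← zpow_neg, ← zpow_add]; congr 1; ring
    calc b * a ^ l * a ^ j * (b * a ^ l)⁻¹ = b * (a ^ l * a ^ j * (a ^ l)⁻¹) * b⁻¹ := by group
      _ = _ := by rw [h4]
  -- compare modulo `B`
  have h3 : a ^ (j - 2) ∈ B := by
    have e1 : a ^ (j - 2) = (a ^ (-2 : ℤ) * b * (a ^ (-2 : ℤ))⁻¹)⁻¹ * ((a * a)⁻¹ * y) * b := by
      have e2 : a * a = a ^ (2 : ℤ) := (zpow_two a).symm
      rw [h2, e2]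
      have e3 : a ^ (j - 2) = a ^ (-2 : ℤ) * a ^ j := by rw [← zpow_add]; congr 1; ring
      rw [e3]
      group
    rw [e1]
    exact mul_mem (mul_mem (inv_mem (hnz _ _ hb)) hyB) hb
  have h4 := haB' _ h3
  have h5 : a ^ j = a * a := by
    have : a ^ (j - 2) * a ^ (2 : ℤ) = a ^ j := by rw [← zpow_add]; congr 1; ring
    rw [← this, h4, one_mul, zpow_two]
  exact ⟨b, hb, by rw [h2, h5]⟩

/-- **Lemma 1** -/
theorem lemma1 [Finite G] {p : ℕ} [hp : Fact p.Prime] (hp2 : p ≠ 2) {a : G} (ha : orderOf a = p) {B : Subgroup G}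
    (hB : ¬ p ∣ Nat.card B) (hn : ∀ b ∈ B, a * b * a⁻¹ ∈ B) (hpe : ∀ b ∈ B, PE p (a * (b * a * b⁻¹))) :
    ∃ N : Subgroup G, (∀ y, y ∈ N ↔ ∃ b ∈ B, y = a⁻¹ * (b * a * b⁻¹)) ∧ N ≤ B ∧
      (∀ b ∈ B, ∀ y ∈ N, b * y * b⁻¹ ∈ N) ∧ ∀ y ∈ N, y * a = a * y → y = 1 := by
  classical
  have hninv : ∀ b ∈ B, a⁻¹ * b * a ∈ B := by
    have h2 : ∀ k : ℕ, ∀ b ∈ B, a ^ k * b * (a ^ k)⁻¹ ∈ B := by
      intro k
      induction k with
      | zero => intro b hb; simpa using hb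
      | succ k ih =>
        intro b hb
        have h3 := hn _ (ih b hb)
        have e : a ^ (k + 1) * b * (a ^ (k + 1))⁻¹ = a * (a ^ k * b * (a ^ k)⁻¹) * a⁻¹ := by
          rw [pow_succ']; group
        rwa [e]
    intro b hb
    have h3 := h2 (p - 1) _ hb
    have e : a ^ (p - 1) = a⁻¹ := by
      rw [eq_inv_iff_mul_eq_one, ← pow_succ, Nat.sub_add_cancel hp.out.one_lt.le, ← ha, pow_orderOf_eq_one]
    rwa [e, inv_inv] at h3
  -- `y = a⁻¹ a^b` lies in `B`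
  have hNB : ∀ b ∈ B, a⁻¹ * (b * a * b⁻¹) ∈ B := by
    intro b hb
    have e : a⁻¹ * (b * a * b⁻¹) = (a⁻¹ * b * a) * b⁻¹ := by group
    rw [e]; exact mul_mem (hninv b hb) (inv_mem hb)
  -- the two sets
  let X : Set G := {y | ∃ b ∈ B, y = b * a * b⁻¹}
  let Y : Set G := {y | ∃ b ∈ B, y = b * (a * a) * b⁻¹}
  have hsub : ∀ y ∈ X, a * y ∈ Y := by
    rintro _ ⟨b, hb, rfl⟩
    refine conj_sq hp2 ha hB hn (hpe b hb) ?_
    have e : (a * a)⁻¹ * (a * (b * a * b⁻¹)) = a⁻¹ * (b * a * b⁻¹) := by group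
    rw [e]; exact hNB b hb
  have hcomm : ∀ b ∈ B, b * a = a * b ↔ b * (a * a) = (a * a) * b := by
    intro b _
    constructor
    · intro h
      calc b * (a * a) = (b * a) * a := by group
        _ = (a * b) * a := by rw [h]
        _ = a * (b * a) := by group
        _ = a * (a * b) := by rw [h]
        _ = a * a * b := by group
    · intro h
      -- `a` is a power of `a * a`
      obtain ⟨k, hk⟩ : ∃ k : ℕ, p + 1 = 2 * k := by
        obtain ⟨j, hj⟩ := hp.out.odd_of_ne_two hp2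
        exact ⟨j + 1, by omega⟩
      have h1 : Commute b (a * a) := h
      have h2 := h1.pow_right k
      have h3 : (a * a) ^ k = a := by
        rw [← pow_two, ← pow_mul, ← hk, pow_succ, ← ha, pow_orderOf_eq_one, one_mul]
      rw [h3] at h2
      exact h2
  have hXY : Nat.card X = Nat.card Y := card_conj B hcomm
  have hsurj : ∀ y ∈ Y, ∃ x ∈ X, y = a * x := by
    let f : X → Y := fun x => ⟨a * x, hsub x x.2⟩
    have hf : Function.Injective f := fun x x' h => Subtype.ext (mul_left_cancel (congrArg Subtype.val h))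
    have hb : Function.Bijective f := (Nat.bijective_iff_injective_and_card f).2 ⟨hf, hXY⟩
    intro y hy
    obtain ⟨x, hx⟩ := hb.2 ⟨y, hy⟩
    exact ⟨x, x.2, (congrArg Subtype.val hx).symm⟩
  -- products
  let N : Set G := {y | ∃ b ∈ B, y = a⁻¹ * (b * a * b⁻¹)}
  have h1N : (1 : G) ∈ N := ⟨1, one_mem _, by group⟩
  have hprod : ∀ y ∈ N, ∀ y' ∈ N, (a⁻¹ * y * a) * y' ∈ N := by
    rintro _ ⟨b, hb, rfl⟩ _ ⟨c, hc, rfl⟩
    have h1 := hsub _ ⟨b⁻¹ * c, mul_mem (inv_mem hb) hc, rfl⟩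
    have h2 : (b * a * b⁻¹) * (c * a * c⁻¹) ∈ Y := by
      obtain ⟨d, hd, h3⟩ := h1
      refine ⟨b * d, mul_mem hb hd, ?_⟩
      have e : (b * a * b⁻¹) * (c * a * c⁻¹) = b * (a * (b⁻¹ * c * a * (b⁻¹ * c)⁻¹)) * b⁻¹ := by group
      rw [e, h3]; group
    obtain ⟨_, ⟨d, hd, rfl⟩, h3⟩ := hsurj _ h2
    refine ⟨d, hd, ?_⟩
    calc a⁻¹ * (a⁻¹ * (b * a * b⁻¹)) * a * (a⁻¹ * (c * a * c⁻¹)) = a⁻¹ * a⁻¹ * ((b * a * b⁻¹) * (c * a * c⁻¹)) := by group
      _ = a⁻¹ * (d * a * d⁻¹) := by rw [h3]; group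
  have hconj : ∀ y ∈ N, a⁻¹ * y * a ∈ N := by
    intro y hy
    have := hprod y hy 1 h1N
    rwa [mul_one] at this
  have hconj' : ∀ y ∈ N, a * y * a⁻¹ ∈ N := by
    intro y hy
    have h2 : ∀ k : ℕ, (a ^ k)⁻¹ * y * a ^ k ∈ N := by
      intro k
      induction k with
      | zero => simpa using hy
      | succ k ih =>
        have h3 := hconj _ ih
        have e : (a ^ (k + 1))⁻¹ * y * a ^ (k + 1) = a⁻¹ * ((a ^ k)⁻¹ * y * a ^ k) * a := by
          rw [pow_succ]; group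
        rwa [e]
    have h3 := h2 (p - 1)
    have e : a ^ (p - 1) = a⁻¹ := by
      rw [eq_inv_iff_mul_eq_one, ← pow_succ, Nat.sub_add_cancel hp.out.one_lt.le, ← ha, pow_orderOf_eq_one]
    rwa [e, inv_inv] at h3
  have hmul : ∀ y ∈ N, ∀ y' ∈ N, y * y' ∈ N := by
    intro y hy y' hy'
    have h3 := hprod _ (hconj' y hy) y' hy'
    have e : a⁻¹ * (a * y * a⁻¹) * a * y' = y * y' := by group
    rwa [e] at h3
  let N' : Subgroup G :=
    { carrier := N
      mul_mem' := fun {y y'} hy hy' => hmul y hy y' hy'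
      one_mem' := h1N
      inv_mem' := fun {y} hy => by
        have h2 : ∀ k : ℕ, y ^ k ∈ N := by
          intro k
          induction k with
          | zero => simpa using h1N
          | succ k ih => rw [pow_succ]; exact hmul _ ih _ hy
        have h3 := h2 (orderOf y - 1)
        have e : y ^ (orderOf y - 1) = y⁻¹ := by
          rw [eq_inv_iff_mul_eq_one, ← pow_succ, Nat.sub_add_cancel (orderOf_pos y), pow_orderOf_eq_one]
        rwa [e] at h3 }
  refine ⟨N', fun y => Iff.rfl, ?_, ?_, ?_⟩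
  · rintro _ ⟨b, hb, rfl⟩
    exact hNB b hb
  · rintro b hb _ ⟨c, hc, rfl⟩
    have h2 : a⁻¹ * (b * c * a * (b * c)⁻¹) ∈ N' := ⟨b * c, mul_mem hb hc, rfl⟩
    have h3 : a⁻¹ * (b * a * b⁻¹) ∈ N' := ⟨b, hb, rfl⟩
    have h4 := mul_mem (inv_mem h3) h2
    have e : b * (a⁻¹ * (c * a * c⁻¹)) * b⁻¹ = (a⁻¹ * (b * a * b⁻¹))⁻¹ * (a⁻¹ * (b * c * a * (b * c)⁻¹)) := by group
    rw [e]; exact h4
  · rintro y hy hya
    have hyB : y ∈ B := by obtain ⟨b, hb, rfl⟩ := hy; exact hNB b hb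
    obtain ⟨b, hb, h2⟩ := hy
    have h3 : a * y = b * a * b⁻¹ := by rw [h2]; group
    have h4 : (a * y) ^ p = 1 := by
      rw [h3, conj_pow, ← ha, pow_orderOf_eq_one]; group
    have h5 : (a * y) ^ p = a ^ p * y ^ p := (show Commute a y from hya.symm).mul_pow p
    have h6 : y ^ p = 1 := by
      rw [h5] at h4
      have : a ^ p = 1 := by rw [← ha, pow_orderOf_eq_one]
      rwa [this, one_mul] at h4
    have h7 : orderOf y ∣ p := orderOf_dvd_of_pow_eq_one h6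
    have h8 : orderOf y ∣ Nat.card B := by
      have := orderOf_dvd_natCard (⟨y, hyB⟩ : B)
      rwa [Subgroup.orderOf_mk] at this
    rcases (Nat.dvd_prime hp.out).1 h7 with h | h
    · exact orderOf_eq_one_iff.1 h
    · rw [h] at h8; exact absurd h8 hB

end Cfsg.Agent.H521.AALem
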