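import Cfsg.Agent.H521.AAFld
import Cfsg.Agent.H521.AALem
import Cfsg.Agent.H70.SzAutThm
import Cfsg.Agent.StdL2.FGal
import Cfsg.Agent.S0331
import Cfsg.Agent.OddCyclic.ClaimC.SzIso

/-!
# Project AA: the Suzuki groups (helper521, S3833)

`core_sz` : `Core` for `Sz(q)`.
-/

set_option autoImplicit false

namespace Cfsg.Agent.H521.AASz

open MulAction Subgroup Cfsg Cfsg.Agent.H459.Rad Cfsg.Agent.H460.AA Cfsg.Agent.H521.AAAvg Cfsg.Agent.H521.AAOne
open Cfsg.Agent.ThreePrime Cfsg.Agent.ThreePrime.SzRel Cfsg.Agent.LieRecognition.SzMatrix Cfsg.Agent.H70.SzOut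
open scoped Pointwise

section Rel

variable {J : Type*} [Group J] {F : Type*} [Field F] (R : SzRel.Rel J F)

/-- the rank one structure -/
def ofRel [Finite J] (S : Sylow 2 J) (hS : (S : Subgroup J) = R.T) : RO J 2 where
  S := S
  w := R.w
  br := by
    intro P
    obtain ⟨g, rfl⟩ := MulAction.exists_smul_eq J S P
    rcases R.bruhat g with ⟨a, b, k, rfl⟩ | ⟨a, b, c, e, k, rfl⟩
    · left; exact (smul_eq_self_iff _ _).2 (by rw [hS]; exact R.ud_mem_normalizer a b k)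
    · right
      refine ⟨R.u a b, by rw [hS]; exact R.u_mem a b, ?_⟩
      rw [mul_smul]
      congr 1
      exact (smul_eq_self_iff _ _).2 (by rw [hS]; exact R.ud_mem_normalizer c e k)
  ne := by
    intro h
    apply R.w_not_mem_normalizer
    have := (smul_eq_self_iff _ _).1 h
    rwa [hS] at this
  inj := by
    intro u hu h
    rw [hS] at hu
    obtain ⟨a, b, rfl⟩ := hu
    have h1 : (R.w * R.u a b * R.w) • S = S := by
      rw [mul_assoc, mul_smul, h, ← mul_smul, R.w_mul_w, one_smul]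
    have h2 := (smul_eq_self_iff _ _).1 h1
    rw [hS] at h2
    obtain ⟨c, e, k, h3⟩ := R.norm h2
    obtain ⟨rfl, rfl⟩ := R.inter _ _ _ _ _ h3
    exact R.u_zero

theorem card_T : Nat.card R.T = Nat.card F ^ 2 := by
  have h : Function.Bijective (fun x : F × F => (⟨R.u x.1 x.2, R.u_mem _ _⟩ : R.T)) := by
    constructor
    · rintro ⟨a, b⟩ ⟨a', b'⟩ h
      obtain ⟨h1, h2⟩ := R.u_inj (congrArg Subtype.val h)
      exact Prod.ext h1 h2
    · rintro ⟨_, a, b, rfl⟩
      exact ⟨(a, b), rfl⟩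
  rw [← Nat.card_congr (Equiv.ofBijective _ h), Nat.card_prod, sq]

theorem card_N [Finite F] : Nat.card (normalizer (R.T : Set J)) = Nat.card F ^ 2 * (Nat.card F - 1) := by
  have h : Function.Bijective (fun x : (F × F) × Fˣ =>
      (⟨R.u x.1.1 x.1.2 * R.d x.2, R.ud_mem_normalizer _ _ _⟩ : normalizer (R.T : Set J))) := by
    constructor
    · rintro ⟨⟨a, b⟩, k⟩ ⟨⟨a', b'⟩, k'⟩ h
      obtain ⟨h1, h2, h3⟩ := R.ud_inj (congrArg Subtype.val h)
      exact Prod.ext (Prod.ext h1 h2) h3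
    · rintro ⟨g, hg⟩
      obtain ⟨a, b, k, rfl⟩ := R.norm hg
      exact ⟨((a, b), k), rfl⟩
  rw [← Nat.card_congr (Equiv.ofBijective _ h), Nat.card_prod, Nat.card_prod, sq, Nat.card_units]

include R in
theorem center_eq_bot : Subgroup.center J = ⊥ := by
  rw [eq_bot_iff]
  intro c hc
  rw [mem_center_iff] at hc
  have h1 : c ∈ normalizer (R.T : Set J) := by
    refine R.ti (R.u_mem 0 1) (R.u_ne_one one_ne_zero) ?_
    rw [← hc, mul_inv_cancel_right]
    exact R.u_mem 0 1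
  obtain ⟨a, b, k, rfl⟩ := R.norm h1
  have h2 := hc R.w
  have h3 : R.w * R.u a b * R.w = R.u a b * R.d (k * k) := by
    calc R.w * R.u a b * R.w = R.w * (R.u a b * R.d k) * ((R.d k)⁻¹ * R.w) := by group
      _ = (R.u a b * R.d k) * R.w * (R.w * R.d k) := by rw [h2, R.d_inv, ← R.w_mul_d]
      _ = (R.u a b * R.d k) * (R.w * R.w) * R.d k := by group
      _ = R.u a b * (R.d k * R.d k) := by rw [R.w_mul_w]; group
      _ = _ := by rw [R.d_mul]
  obtain ⟨rfl, rfl⟩ := R.inter _ _ _ _ _ h3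
  rw [R.u_zero, one_mul] at hc ⊢
  have h4 : R.d k * R.u 0 1 * (R.d k)⁻¹ = R.u 0 1 := by rw [← hc, mul_inv_cancel_right]
  rcases R.fpf h4 with rfl | ⟨-, h⟩
  · rw [R.d_one]; exact one_mem _
  · exact absurd h one_ne_zero

/-- an element with three fixed points is trivial -/
theorem eq_one_of_three [Finite J] (S : Sylow 2 J) (hS : (S : Subgroup J) = R.T) {c : J} {P₁ P₂ P₃ : Sylow 2 J}
    (h12 : P₁ ≠ P₂) (h13 : P₁ ≠ P₃) (h23 : P₂ ≠ P₃) (h1 : c • P₁ = P₁) (h2 : c • P₂ = P₂) (h3 : c • P₃ = P₃) :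
    c = 1 := by
  have htr : ∀ P Q : Sylow 2 J, ∃ g : J, g • P = Q := fun P Q => MulAction.exists_smul_eq J P Q
  obtain ⟨g, hg1, hg2⟩ := (ofRel R S hS).exists_std P₁ P₂ h12 htr
  obtain ⟨c', hc'⟩ : ∃ c', c' = g * c * g⁻¹ := ⟨_, rfl⟩
  have hfix : ∀ P : Sylow 2 J, c • P = P → c' • (g • P) = g • P := by
    intro P hP
    rw [hc', mul_smul, mul_smul, inv_smul_smul, hP]
  have e1 := hfix _ h1
  have e2 := hfix _ h2
  have e3 := hfix _ h3
  rw [hg1] at e1
  rw [hg2] at e2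
  have e1' := (smul_eq_self_iff _ _).1 e1
  change c' ∈ normalizer ((S : Subgroup J) : Set J) at e1'
  rw [hS] at e1'
  have e2' : (R.w * c' * R.w⁻¹) • S = S := by
    have e4 : c' • (R.w • S) = R.w • S := e2
    rw [R.w_inv, mul_smul, mul_smul, e4, ← mul_smul, R.w_mul_w, one_smul]
  have e2'' := (smul_eq_self_iff _ _).1 e2'
  rw [hS, R.w_inv] at e2''
  have e5 : c' ∈ R.D := R.mem_D_of e1' e2''
  obtain ⟨k, hk⟩ := e5
  rcases (ofRel R S hS).br (g • P₃) with h | ⟨u, hu, h⟩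
  · exact absurd (smul_left_cancel g (hg1.trans h.symm)) h13
  · rw [h] at e3
    have hu' : u ∈ R.T := by rw [← hS]; exact hu
    have hcu : c' * u * c'⁻¹ ∈ R.T := by
      obtain ⟨a, b, rfl⟩ := hu'
      rw [hk, R.conj_d]
      exact R.u_mem _ _
    have e6 : ((c' * u * c'⁻¹) * (ofRel R S hS).w) • (ofRel R S hS).S = (u * (ofRel R S hS).w) • (ofRel R S hS).S := by
      rw [← e3]
      simp only [mul_smul]
      congr 2
      rw [inv_smul_eq_iff]
      exact e2.symm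
    have e7 := (ofRel R S hS).inj' (by show _ ∈ (S : Subgroup J); rw [hS]; exact hcu) hu e6
    obtain ⟨a, b, rfl⟩ := hu'
    rw [hk] at e7
    rcases R.fpf e7 with rfl | ⟨rfl, rfl⟩
    · rw [R.d_one] at hk
      rw [hk] at hc'
      have : c = g⁻¹ * 1 * g := by rw [hc']; group
      simpa using this
    · exfalso
      apply h23
      apply smul_left_cancel g
      rw [hg2, h, R.u_zero, one_mul]

theorem smul_of_fix [Finite J] (S : Sylow 2 J) (hS : (S : Subgroup J) = R.T) {ψ : MulAut J} (h : Fix R ψ) :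
    ψ • S = S ∧ ψ • (R.w • S) = R.w • S := by
  have h1 : ψ • S = S := by
    apply Sylow.ext
    have h2 : ((ψ • S : Sylow 2 J) : Subgroup J) = ψ • (S : Subgroup J) := rfl
    rw [h2]
    refine Subgroup.eq_of_le_of_card_ge ?_ ?_
    · rintro _ ⟨y, hy, rfl⟩
      have hy' : y ∈ R.T := by rw [← hS]; exact hy
      have := h.T y hy'
      rw [← hS] at this
      exact this
    · exact (Nat.card_congr (Subgroup.equivSMul ψ (S : Subgroup J)).toEquiv).le
  refine ⟨h1, ?_⟩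
  rw [aut_smul, h1]
  have h2 := h.w
  rw [← hS] at h2
  have h3 := (smul_eq_self_iff _ _).2 h2
  rw [mul_smul, smul_eq_iff_eq_inv_smul, R.w_inv] at h3
  exact h3

theorem fix_of_smul [Finite J] (S : Sylow 2 J) (hS : (S : Subgroup J) = R.T) {ψ : MulAut J} (h1 : ψ • S = S)
    (h2 : ψ • (R.w • S) = R.w • S) : Fix R ψ where
  T x hx := by
    rw [← hS] at hx ⊢
    have h3 : ψ x ∈ ((ψ • S : Sylow 2 J) : Subgroup J) := Subgroup.smul_mem_pointwise_smul x ψ _ hx
    rwa [h1] at h3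
  w := by
    rw [← hS]
    refine (smul_eq_self_iff _ _).1 ?_
    rw [aut_smul, h1] at h2
    rw [mul_smul, h2, ← mul_smul, R.w_mul_w, one_smul]

end Rel

section Field

variable {F : Type*} [Field F] [Fintype F]

/-- solutions of `σ a * c = a` -/
theorem card_semi_le (σ : F ≃+* F) (c : F) : Nat.card {a : F // σ a * c = a} ≤ Nat.card {a : F // σ a = a} := by
  by_cases h : ∃ a₀ : F, a₀ ≠ 0 ∧ σ a₀ * c = a₀
  · obtain ⟨a₀, h0, h1⟩ := h
    refine Nat.card_le_card_of_injective (fun a => ⟨a.1 / a₀, ?_⟩) ?_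
    · have h3 : σ a₀ ≠ 0 := fun h => h0 (by rw [h, zero_mul] at h1; exact h1.symm)
      rw [map_div₀, div_eq_div_iff h3 h0]
      calc σ a.1 * a₀ = σ a.1 * (σ a₀ * c) := by rw [h1]
        _ = (σ a.1 * c) * σ a₀ := by ring
        _ = a.1 * σ a₀ := by rw [a.2]
    · intro a b hab
      have h2 : a.1 / a₀ = b.1 / a₀ := congrArg Subtype.val hab
      exact Subtype.ext ((div_left_inj' h0).1 h2)
  · push Not at h
    have : Subsingleton {a : F // σ a * c = a} := by
      refine ⟨fun a b => Subtype.ext ?_⟩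
      have h1 : ∀ a : {a : F // σ a * c = a}, a.1 = 0 := fun a => by
        by_contra hne
        exact h _ hne a.2
      rw [h1 a, h1 b]
    refine le_trans (Nat.card_le_card_of_injective (fun _ => (⟨0, map_zero σ⟩ : {a : F // σ a = a}))
      (Function.injective_of_subsingleton _)) le_rfl

end Field

section Main

variable {F : Type*} [Field F] [Fintype F] {m : ℕ}

theorem isCyclic_sylow (hm : 1 ≤ m) (hF : Fintype.card F = 2 ^ (2 * m + 1)) {p : ℕ} [Fact p.Prime] (hp2 : p ≠ 2)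
    (P : Sylow p ↥(Cfsg.Lie.Sz F (2 ^ (m + 1)))) : IsCyclic (P : Subgroup ↥(Cfsg.Lie.Sz F (2 ^ (m + 1)))) := by
  obtain ⟨e⟩ := OddCyclic.ClaimC.SzIso.iso hm hF
  have hfin : Finite ↥(Cfsg.Sz F m) := Finite.of_equiv _ e.symm.toEquiv
  have hP : IsPGroup p ((P : Subgroup ↥(Cfsg.Lie.Sz F (2 ^ (m + 1)))).comap e.toMonoidHom) :=
    P.isPGroup'.comap_of_injective _ e.injective
  obtain ⟨Q, hQ⟩ := hP.exists_le_sylow
  have h1 := S0331.result hm hF hp2 Q
  have h2 : IsCyclic ↥((P : Subgroup ↥(Cfsg.Lie.Sz F (2 ^ (m + 1)))).comap e.toMonoidHom) :=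
    isCyclic_of_injective (Subgroup.inclusion hQ) (Subgroup.inclusion_injective hQ)
  let f : ↥((P : Subgroup ↥(Cfsg.Lie.Sz F (2 ^ (m + 1)))).comap e.toMonoidHom) →* ↥(P : Subgroup ↥(Cfsg.Lie.Sz F (2 ^ (m + 1)))) :=
    (e.toMonoidHom.comp (Subgroup.subtype _)).codRestrict _ fun k => k.2
  refine isCyclic_of_surjective f ?_
  rintro ⟨a, ha⟩
  refine ⟨⟨e.symm a, ?_⟩, Subtype.ext (e.apply_symm_apply a)⟩
  show e (e.symm a) ∈ (P : Subgroup ↥(Cfsg.Lie.Sz F (2 ^ (m + 1))))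
  rw [e.apply_symm_apply]
  exact ha

/-- the field part of an automorphism of order `p` -/
theorem pow_field (hF : Fintype.card F = 2 ^ (2 * m + 1)) {p : ℕ} {x : MulAut ↥(Cfsg.Lie.Sz F (2 ^ (m + 1)))}
    (hx : x ^ p = 1) {g : ↥(Cfsg.Lie.Sz F (2 ^ (m + 1)))} {σ : F ≃+* F} (h : x = MulAut.conj g * fieldAut (good hF) σ) :
    σ ^ p = 1 := by
  have h1 : QuotientGroup.mk' (Cfsg.Inn ↥(Cfsg.Lie.Sz F (2 ^ (m + 1)))) (fieldAut (good hF) σ ^ p) = 1 := by
    have h2 : QuotientGroup.mk' (Cfsg.Inn ↥(Cfsg.Lie.Sz F (2 ^ (m + 1)))) (MulAut.conj g) = 1 :=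
      (QuotientGroup.eq_one_iff _).2 ⟨g, rfl⟩
    have h3 : QuotientGroup.mk' (Cfsg.Inn ↥(Cfsg.Lie.Sz F (2 ^ (m + 1)))) (x ^ p) = 1 := by rw [hx, map_one]
    rw [h, map_pow, map_mul, h2, one_mul] at h3
    rw [map_pow]
    exact h3
  rw [← map_pow] at h1
  obtain ⟨g', hg'⟩ := (QuotientGroup.eq_one_iff _).1 h1
  exact eq_one_of_conj (good hF) hg'.symm

theorem conj_d_u (hF : Fintype.card F = 2 ^ (2 * m + 1)) (k : Fˣ) (σ : F ≃+* F) (a b : F) :
    (MulAut.conj ((good hF).d k) * fieldAut (good hF) σ) ((ofGood (good hF)).u a b) =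
      (ofGood (good hF)).u (σ a * ((k : F) ^ 2 * ((ofGood (good hF)).θ k)⁻¹)) (σ b * (ofGood (good hF)).θ k) := by
  rw [MulAut.mul_apply, MulAut.conj_apply]
  have h1 : fieldAut (good hF) σ ((ofGood (good hF)).u a b) = (ofGood (good hF)).u (σ a) (σ b) := fieldAut_u (good hF) σ a b
  rw [h1]
  have h2 := (ofGood (good hF)).conj_d k (σ a) (σ b)
  rw [← mul_assoc (σ a)]
  exact h2

theorem core (hm : 1 ≤ m) (hF : Fintype.card F = 2 ^ (2 * m + 1)) : Core ↥(Cfsg.Lie.Sz F (2 ^ (m + 1))) := by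
  classical
  intro p hp hp2 x hx hR hP
  have hq : Nat.card F = 2 ^ (2 * m + 1) := by rw [Nat.card_eq_fintype_card, hF]
  have h8 : 8 ≤ Nat.card F := by
    rw [hq]
    exact SzRel.Rel.eight_le hm
  obtain ⟨S, hS⟩ := exists_sylow hm hF
  obtain ⟨R, hRd⟩ : ∃ R, R = ofGood (good hF) := ⟨_, rfl⟩
  rw [← hRd] at hS
  obtain ⟨T, hT⟩ : ∃ T, T = ofRel R S hS := ⟨_, rfl⟩
  have hTS : T.S = S := by rw [hT]; rfl
  have hTw : T.w = R.w := by rw [hT]; rfl
  have hcS : Nat.card (T.S : Subgroup ↥(Cfsg.Lie.Sz F (2 ^ (m + 1)))) = Nat.card F ^ 2 := by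
    rw [hTS, hS, card_T]
  have hcN : Nat.card (normalizer ((T.S : Subgroup ↥(Cfsg.Lie.Sz F (2 ^ (m + 1)))) :
      Set ↥(Cfsg.Lie.Sz F (2 ^ (m + 1))))) = Nat.card F ^ 2 * (Nat.card F - 1) := by
    rw [hTS, hS, card_N]
  have hc := center_eq_bot R
  have hxp : x ^ p = 1 := by rw [← hx, pow_orderOf_eq_one]
  have hx1 : x ≠ 1 := by
    rintro rfl
    rw [orderOf_one] at hx
    exact hp.out.one_lt.ne hx
  have hp3 : 3 ≤ p := by
    have := hp.out.two_le
    omega
  have hpq : ¬ p ∣ Nat.card F := by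
    intro h
    rw [hq] at h
    exact hp2 ((Nat.prime_dvd_prime_iff_eq hp.out Nat.prime_two).1 (hp.out.dvd_of_dvd_pow h))
  have hpS : ¬ p ∣ Nat.card (T.S : Subgroup ↥(Cfsg.Lie.Sz F (2 ^ (m + 1)))) := by
    rw [hcS]
    exact fun h => hpq (hp.out.dvd_of_dvd_pow h)
  have hfield : ∀ σ : F ≃+* F, σ ≠ 1 → σ ^ p = 1 → orderOf σ = p ∧ Nat.card F = Nat.card {a : F // σ a = a} ^ p ∧
      2 ≤ Nat.card {a : F // σ a = a} := by
    intro σ h1 h2
    have h3 : orderOf σ = p := by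
      rcases (Nat.dvd_prime hp.out).1 (orderOf_dvd_of_pow_eq_one h2) with h | h
      · exact absurd (orderOf_eq_one_iff.1 h) h1
      · exact h
    have h4 := StdL2.FGal.card_fixed σ
    rw [h3] at h4
    refine ⟨h3, h4, ?_⟩
    by_contra hlt
    have h5 : Nat.card {a : F // σ a = a} ≤ 1 := by omega
    have h6 : Nat.card {a : F // σ a = a} ^ p ≤ 1 := by
      calc _ ≤ 1 ^ p := Nat.pow_le_pow_left h5 p
        _ = 1 := one_pow p
    omega
  by_cases hpQ : p ∣ Nat.card F ^ 2 + 1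
  · -- `p` divides `Q + 1`
    obtain ⟨g, σ, hxσ⟩ := H70.SzAutThm.exists_conj_field hm hF x
    have hσp := pow_field hF hxp hxσ
    have hN : ¬ p ∣ Nat.card (normalizer ((T.S : Subgroup ↥(Cfsg.Lie.Sz F (2 ^ (m + 1)))) :
      Set ↥(Cfsg.Lie.Sz F (2 ^ (m + 1))))) := by
      rw [hcN, hp.out.dvd_mul]
      rintro (h | h)
      · exact hpq (hp.out.dvd_of_dvd_pow h)
      · obtain ⟨c, hc⟩ := h
        have h1 : Nat.card F = p * c + 1 := by omega
        rw [h1] at hpQ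
        have h2 : (p * c + 1) ^ 2 + 1 = p * (p * c ^ 2 + 2 * c) + 2 := by ring
        rw [h2] at hpQ
        have h3 := (Nat.dvd_add_right (dvd_mul_right p _)).1 hpQ
        exact hp2 ((Nat.prime_dvd_prime_iff_eq hp.out Nat.prime_two).1 h3)
    by_cases hσ1 : σ = 1
    · -- inner
      rw [hσ1, map_one, mul_one] at hxσ
      subst hxσ
      have hg1 : g ≠ 1 := by rintro rfl; exact hx1 (map_one _)
      have hgo : orderOf g = p := by
        rw [← hx]; exact (orderOf_injective _ (conj_injective hc) g).symm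
      have hf0 := fx_eq_zero T hN (PE.of_orderOf hgo.dvd) hg1
      obtain ⟨c, hc1, hcg, hcS'⟩ := exists_comm hc T hP hN (by
        rw [hcN, hcS]
        have : 0 < Nat.card F ^ 2 := by positivity
        calc Nat.card F ^ 2 = Nat.card F ^ 2 * 1 := (mul_one _).symm
          _ < Nat.card F ^ 2 * (Nat.card F - 1) := Nat.mul_lt_mul_of_pos_left (by omega) this) hf0
      rw [hTS] at hcS'
      have hmove : ∀ y : ↥(Cfsg.Lie.Sz F (2 ^ (m + 1))), PE p y → y ≠ 1 →
          ∀ P : Sylow 2 ↥(Cfsg.Lie.Sz F (2 ^ (m + 1))), y • P ≠ P := by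
        intro y hy hy1 P hyP
        have h1 := fx_eq_zero T hN hy hy1
        have h2 : Nonempty {P : Sylow 2 ↥(Cfsg.Lie.Sz F (2 ^ (m + 1))) // (MulAut.conj y : MulAut _) • P = P} := ⟨⟨P, hyP⟩⟩
        have h3 : 0 < Nat.card {P : Sylow 2 ↥(Cfsg.Lie.Sz F (2 ^ (m + 1))) // (MulAut.conj y : MulAut _) • P = P} :=
          Nat.card_pos
        exact h3.ne' h1
      have hg2 : g * g ≠ 1 := by
        intro h
        have h1 : orderOf g ∣ 2 := orderOf_dvd_of_pow_eq_one (by rw [pow_two, h])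
        rw [hgo] at h1
        exact hp2 ((Nat.prime_dvd_prime_iff_eq hp.out Nat.prime_two).1 h1)
      have hPE := PE.of_orderOf hgo.dvd
      refine hc1 (eq_one_of_three R S hS (P₁ := S) (P₂ := g • S) (P₃ := (g * g) • S) ?_ ?_ ?_ hcS' ?_ ?_)
      · exact (hmove g hPE hg1 S).symm
      · exact (hmove (g * g) (by rw [← pow_two]; exact hPE.pow 2) hg2 S).symm
      · rw [mul_smul]
        exact (hmove g hPE hg1 (g • S)).symm
      · rw [← mul_smul, hcg, mul_smul, hcS']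
      · rw [← mul_smul, ← mul_assoc, hcg, mul_assoc, hcg, ← mul_assoc, mul_smul, hcS']
    · -- outer
      obtain ⟨hσo, hqz, hz2⟩ := hfield σ hσ1 hσp
      obtain ⟨s, hs⟩ : ∃ s, s = fieldAut (good hF) σ := ⟨_, rfl⟩
      have hu : ∀ a b, s (R.u a b) = R.u (σ a) (σ b) := by
        intro a b
        rw [hs, hRd]
        exact fieldAut_u (good hF) σ a b
      have hd : ∀ k, s (R.d k) = R.d (Units.map (σ : F →* F) k) := by
        intro k
        rw [hs, hRd]
        exact fieldAut_d (good hF) σ k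
      have hsp : s ^ p = 1 := by rw [hs, ← map_pow, hσp, map_one]
      have hs1 : s ≠ 1 := by
        intro h
        apply hσ1
        refine eq_one_of_conj (good hF) (g := 1) ?_
        rw [← hs, h, map_one]
      have hso : orderOf s = p := by
        rcases (Nat.dvd_prime hp.out).1 (orderOf_dvd_of_pow_eq_one hsp) with h | h
        · exact absurd (orderOf_eq_one_iff.1 h) hs1
        · exact h
      have hfixs : Fix R s := by rw [hRd, hs]; exact fix_fieldAut (good hF) σ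
      -- fixed points of `s`
      have hfx : fx 2 s = Nat.card {a : F // σ a = a} ^ 2 + 1 := by
        obtain ⟨h1, h2⟩ := smul_of_fix R S hS hfixs
        have h3 := T.card_fix (x := s) (by rw [hTS]; exact h1) (by rw [hTS, hTw]; exact h2)
        rw [fx, h3]
        congr 1
        rw [sq, ← Nat.card_prod]
        refine (Nat.card_congr (Equiv.ofBijective (fun x : {a : F // σ a = a} × {a : F // σ a = a} =>
          (⟨⟨R.u x.1 x.2, ?_⟩, ?_⟩ : {u : ↥(T.S : Subgroup ↥(Cfsg.Lie.Sz F (2 ^ (m + 1)))) // s (u : ↥(Cfsg.Lie.Sz F (2 ^ (m + 1)))) = u})) ⟨?_, ?_⟩)).symm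
        · rw [hTS, hS]; exact R.u_mem _ _
        · show s (R.u x.1 x.2) = R.u x.1 x.2
          rw [hu, x.1.2, x.2.2]
        · rintro ⟨⟨a, ha⟩, ⟨b, hb⟩⟩ ⟨⟨a', ha'⟩, ⟨b', hb'⟩⟩ h
          have h4 : R.u a b = R.u a' b' := congrArg (fun w : {u : ↥(T.S : Subgroup ↥(Cfsg.Lie.Sz F (2 ^ (m + 1)))) //
            s (u : ↥(Cfsg.Lie.Sz F (2 ^ (m + 1)))) = u} => ((w : ↥(T.S : Subgroup ↥(Cfsg.Lie.Sz F (2 ^ (m + 1))))) : ↥(Cfsg.Lie.Sz F (2 ^ (m + 1))))) h
          obtain ⟨rfl, rfl⟩ := R.u_inj h4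
          rfl
        · rintro ⟨⟨u, hu'⟩, hfu⟩
          have hu'' := hu'
          rw [hTS, hS] at hu''
          obtain ⟨a, b, rfl⟩ := hu''
          have h4 : s (R.u a b) = R.u a b := hfu
          rw [hu] at h4
          obtain ⟨h5, h6⟩ := R.u_inj h4
          exact ⟨(⟨a, h5⟩, ⟨b, h6⟩), rfl⟩
      obtain ⟨y, hy⟩ := AAFld.exists_conj T hc hp2 hsp hxp (g₀ := g) (by rw [hs]; exact hxσ) (isCyclic_sylow hm hF hp2) hN hfx
        (by rw [hcS]; nth_rewrite 1 [hqz]; rw [← pow_mul, ← pow_mul, mul_comm]) (by rwa [hcS])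
      -- `PA` for `s`
      have hPs : PA p s := by
        have h1 := PA_tr (MulAut.conj y⁻¹) hP
        have h2 : tr (MulAut.conj y⁻¹) x = s := by
          have h3 : tr (MulAut.conj y⁻¹) x = MulAut.conj y⁻¹ * x * (MulAut.conj y⁻¹)⁻¹ := rfl
          rw [h3, hy, map_inv]
          group
        rwa [h2] at h1
      -- Lemma 1 on the Borel subgroup
      obtain ⟨B, hB⟩ : ∃ B : Subgroup (MulAut ↥(Cfsg.Lie.Sz F (2 ^ (m + 1)))),
        B = (normalizer (R.T : Set ↥(Cfsg.Lie.Sz F (2 ^ (m + 1))))).map MulAut.conj := ⟨_, rfl⟩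
      have hBc : ¬ p ∣ Nat.card B := by
        rw [hB, Subgroup.card_map_of_injective (conj_injective hc), ← hS, ← hTS]
        exact hN
      have hBn : ∀ b ∈ B, s * b * s⁻¹ ∈ B := by
        rw [hB]
        rintro _ ⟨b, hb, rfl⟩
        exact ⟨s b, map_normalizer R hfixs.T hb, AAFld.conj_aut s b⟩
      obtain ⟨N, hN1, hN2, hN3, hN4⟩ := AALem.lemma1 hp2 hso hBc hBn (by
        rw [hB]
        rintro _ ⟨b, hb, rfl⟩
        exact hPs b)
      -- an element of the torus in `N`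
      obtain ⟨k, hk⟩ : ∃ k : Fˣ, Units.map (σ : F →* F) k ≠ k := by
        by_contra hcon
        push Not at hcon
        apply hσ1
        ext a
        by_cases ha : a = 0
        · rw [ha, map_zero, map_zero]
        · have h1 := congrArg Units.val (hcon (Units.mk0 a ha))
          exact h1
      obtain ⟨l, hl⟩ : ∃ l : Fˣ, l = k * (Units.map (σ : F →* F) k)⁻¹ := ⟨_, rfl⟩
      have hl1 : l ≠ 1 := by
        rw [hl]
        intro h
        exact hk (mul_inv_eq_one.1 h).symm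
      have hdN : MulAut.conj (R.d l) ∈ N := by
        rw [hN1]
        refine ⟨MulAut.conj (s (R.d k)), ?_, ?_⟩
        · rw [hB]
          exact ⟨s (R.d k), map_normalizer R hfixs.T (R.D_le (R.d_mem k)), rfl⟩
        · have h1 : R.d l = R.d k * (s (R.d k))⁻¹ := by
            rw [hd, R.d_inv, R.d_mul, hl]
          rw [h1, map_mul, map_inv, AAFld.conj_aut]
          group
      obtain ⟨b, hb⟩ : ∃ b : F, b * (1 + R.θ l) = 1 := by
        refine ⟨(1 + R.θ l)⁻¹, inv_mul_cancel₀ ?_⟩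
        intro h
        apply hl1
        have h1 : R.θ (l : F) = 1 := by linear_combination h - R.two
        have h2 : (l : F) = 1 := R.θ.injective (by rw [h1, map_one])
        exact Units.ext h2
      have huN : MulAut.conj (R.u 0 1) ∈ N := by
        have h1 := hN3 (MulAut.conj (R.u 0 b)) (by
          rw [hB]
          exact ⟨R.u 0 b, le_normalizer (R.u_mem 0 b), rfl⟩) _ hdN
        have h2 := mul_mem h1 (inv_mem hdN)
        have h3 : MulAut.conj (R.u 0 b) * MulAut.conj (R.d l) * (MulAut.conj (R.u 0 b))⁻¹ * (MulAut.conj (R.d l))⁻¹ =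
            MulAut.conj (R.u 0 1) := by
          rw [← map_inv, ← map_inv, ← map_mul, ← map_mul, ← map_mul]
          congr 1
          have h4 : R.u 0 b * R.d l * (R.u 0 b)⁻¹ * (R.d l)⁻¹ = R.u 0 b * (R.d l * (R.u 0 b)⁻¹ * (R.d l)⁻¹) := by group
          rw [h4, R.u_inv, zero_mul, add_zero, R.conj_d, R.u_mul]
          congr 1
          · ring
          · linear_combination hb
        rwa [h3] at h2
      have h1 := hN4 _ huN (by
        have h2 : s (R.u 0 1) = R.u 0 1 := by rw [hu, map_zero, map_one]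
        have h3 := AAFld.conj_aut s (R.u 0 1)
        rw [h2] at h3
        nth_rewrite 1 [h3]
        group)
      have h2 : R.u 0 1 = 1 := conj_injective hc (by rw [h1, map_one])
      exact R.u_ne_one one_ne_zero h2
  · -- `p` does not divide `Q (Q + 1)`
    have hpQ' : ¬ p ∣ Nat.card (T.S : Subgroup ↥(Cfsg.Lie.Sz F (2 ^ (m + 1)))) + 1 := by rwa [hcS]
    have hle := le_of_PA T hP hpS hpQ'
    have h2f := two_le_fx T (PE.of_orderOf hx.dvd) hpS hpQ'
    -- two fixed points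
    obtain ⟨⟨P₁, hP₁⟩, ⟨P₂, hP₂⟩, hP₁₂⟩ : ∃ P₁ P₂ : {P : Sylow 2 ↥(Cfsg.Lie.Sz F (2 ^ (m + 1))) // x • P = P}, P₁ ≠ P₂ := by
      have h1 : 1 < Nat.card {P : Sylow 2 ↥(Cfsg.Lie.Sz F (2 ^ (m + 1))) // x • P = P} := h2f
      exact (Finite.one_lt_card_iff_nontrivial.1 h1).exists_pair_ne
    have hne : P₁ ≠ P₂ := fun h => hP₁₂ (Subtype.ext h)
    obtain ⟨g, hg1, hg2⟩ := T.exists_std P₁ P₂ hne fun P Q => MulAction.exists_smul_eq _ P Q
    obtain ⟨x', hx'⟩ : ∃ x', x' = MulAut.conj g * x * (MulAut.conj g)⁻¹ := ⟨_, rfl⟩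
    have hfxx : fx 2 x' = fx 2 x := by rw [hx']; exact fx_conj x g
    have hmv : ∀ P : Sylow 2 ↥(Cfsg.Lie.Sz F (2 ^ (m + 1))), x • P = P → x' • (g • P) = g • P := by
      intro P hP
      rw [hx', mul_smul, mul_smul, ← map_inv, smul_mulAut, smul_mulAut, inv_smul_smul, hP]
    have e1 := hmv _ hP₁
    have e2 := hmv _ hP₂
    rw [hg1] at e1
    rw [hg2] at e2
    have hx'p : x' ^ p = 1 := by rw [hx', conj_pow, hxp, mul_one, mul_inv_cancel]
    have hx'1 : x' ≠ 1 := by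
      intro h
      apply hx1
      rw [hx'] at h
      exact conj_eq_one_iff.1 h
    have hF' : Fix R x' := fix_of_smul R S hS (by rw [← hTS]; exact e1) (by rw [← hTS, ← hTw]; exact e2)
    rw [hRd] at hF'
    obtain ⟨σ, k, hσk⟩ := eq_of_fix h8 (good hF) hF'
    have hσp := pow_field hF hx'p hσk
    have hcf := T.card_fix e1 e2
    have hcf' : fx 2 x' = Nat.card {u : ↥(T.S : Subgroup ↥(Cfsg.Lie.Sz F (2 ^ (m + 1)))) // x' (u : ↥(Cfsg.Lie.Sz F (2 ^ (m + 1)))) = u} + 1 := hcf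
    obtain ⟨n, hn⟩ : ∃ n, n = Nat.card {u : ↥(T.S : Subgroup ↥(Cfsg.Lie.Sz F (2 ^ (m + 1)))) // x' (u : ↥(Cfsg.Lie.Sz F (2 ^ (m + 1)))) = u} := ⟨_, rfl⟩
    rw [← hn] at hcf'
    have hle' : Nat.card F ^ 2 ≤ n ^ 2 := by
      rw [hcS, ← hfxx, hcf'] at hle
      push_cast at hle
      have h3 : ((Nat.card F : ℤ)) ^ 2 ≤ (n : ℤ) ^ 2 := by
        have e : ((n : ℤ) + 1 - 1) ^ 2 = (n : ℤ) ^ 2 := by ring
        rw [e] at hle
        exact hle
      exact_mod_cast h3
    have hle'' : Nat.card F ≤ n := by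
      by_contra hlt
      exact absurd hle' (not_le.2 (Nat.pow_lt_pow_left (not_le.1 hlt) (by norm_num)))
    have hact : ∀ a b, x' (R.u a b) = R.u (σ a * ((k : F) ^ 2 * (R.θ k)⁻¹)) (σ b * R.θ k) := by
      intro a b
      rw [hσk, hRd]
      exact conj_d_u hF k σ a b
    have hsur : n ≤ Nat.card {a : F // σ a * ((k : F) ^ 2 * (R.θ k)⁻¹) = a} * Nat.card {b : F // σ b * R.θ k = b} := by
      rw [hn, ← Nat.card_prod]
      refine Nat.card_le_card_of_surjective (fun y : {a : F // σ a * ((k : F) ^ 2 * (R.θ k)⁻¹) = a} × {b : F // σ b * R.θ k = b} =>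
        (⟨⟨R.u y.1 y.2, ?_⟩, ?_⟩ : {u : ↥(T.S : Subgroup ↥(Cfsg.Lie.Sz F (2 ^ (m + 1)))) // x' (u : ↥(Cfsg.Lie.Sz F (2 ^ (m + 1)))) = u})) ?_
      · rw [hTS, hS]; exact R.u_mem _ _
      · show x' (R.u y.1 y.2) = R.u y.1 y.2
        rw [hact, y.1.2, y.2.2]
      · rintro ⟨⟨u, hu'⟩, hfu⟩
        have hu'' := hu'
        rw [hTS, hS] at hu''
        obtain ⟨a, b, rfl⟩ := hu''
        have h4 : x' (R.u a b) = R.u a b := hfu
        rw [hact] at h4
        obtain ⟨h5, h6⟩ := R.u_inj h4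
        exact ⟨(⟨a, h5⟩, ⟨b, h6⟩), rfl⟩
    by_cases hσ1 : σ = 1
    · -- inner
      have h3 : n ≤ 1 := by
        have : Subsingleton {u : ↥(T.S : Subgroup ↥(Cfsg.Lie.Sz F (2 ^ (m + 1)))) // x' (u : ↥(Cfsg.Lie.Sz F (2 ^ (m + 1)))) = u} := by
          have key : ∀ u : {u : ↥(T.S : Subgroup ↥(Cfsg.Lie.Sz F (2 ^ (m + 1)))) // x' (u : ↥(Cfsg.Lie.Sz F (2 ^ (m + 1)))) = u},
              ((u : ↥(T.S : Subgroup ↥(Cfsg.Lie.Sz F (2 ^ (m + 1))))) : ↥(Cfsg.Lie.Sz F (2 ^ (m + 1)))) = 1 := by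
            rintro ⟨⟨u, hu'⟩, hfu⟩
            have hu'' := hu'
            rw [hTS, hS] at hu''
            obtain ⟨a, b, rfl⟩ := hu''
            have h4 : x' (R.u a b) = R.u a b := hfu
            have h5 : x' = MulAut.conj (R.d k) := by rw [hσk, hσ1, map_one, mul_one, hRd]; rfl
            rw [h5, MulAut.conj_apply] at h4
            rcases R.fpf h4 with rfl | ⟨rfl, rfl⟩
            · exfalso
              apply hx'1
              rw [h5, R.d_one, map_one]
            · exact R.u_zero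
          exact ⟨fun u v => Subtype.ext (Subtype.ext (by rw [key u, key v]))⟩
        rw [hn]
        exact Finite.card_le_one_iff_subsingleton.2 this
      omega
    · obtain ⟨hσo, hqz, hz2⟩ := hfield σ hσ1 hσp
      have h3 : n ≤ Nat.card {a : F // σ a = a} ^ 2 := by
        rw [sq]
        exact hsur.trans (Nat.mul_le_mul (card_semi_le σ _) (card_semi_le σ _))
      have h4 : Nat.card {a : F // σ a = a} ^ 2 < Nat.card {a : F // σ a = a} ^ p :=
        Nat.pow_lt_pow_right (by omega) (by omega)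
      rw [← hqz] at h4
      omega

end Main

theorem core_sz {G : Type*} [Group G] [Finite G] (h : Cfsg.Lie.IsoSuzuki G) : Core G := by
  obtain ⟨F, _, _, m, hm, hF, ⟨e⟩⟩ := h
  exact Core.of_equiv e (core hm hF)

end Cfsg.Agent.H521.AASz
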