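import Cfsg.Agent.H223.PanU3

/-!
# The rank one unitary panels with a fixed point (AA-PFU3, S3833/S3834/S3840; helper521)

* `pf_u3` : the family of root groups of `PSU₃(q)`, `q > 2`, satisfies `PF r` for all odd primes `r` not dividing `q`.
-/

set_option autoImplicit false
set_option linter.unusedSectionVars false

namespace Cfsg.Agent.H521.PFU3

open Cfsg.Agent.FixBN Cfsg.Agent.FixBN.U3Model Cfsg.Agent.FixBN.U3Core Cfsg.Agent.FixBN.RankOneU3
  Cfsg.Agent.FixBN.U3One Cfsg.Agent.H223.U3Fin Cfsg.Agent.H223.PanAvg Cfsg.Agent.H223.PanU3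
  Cfsg.Agent.H460.AA Cfsg.Agent.H460.Pan

variable {F : Type*} [Field F] {σ : F →+* F} [H : Inv2 σ] {q : ℕ}

local notation "tl" => U3Model.tr
local notation "tp" => RankOneU3.toPt

theorem conj_iff {G : Type*} [Group G] {K : Subgroup G} [Finite K] {f : G} (h : ∀ k ∈ K, f * k * f⁻¹ ∈ K) (k : G) :
    f * k * f⁻¹ ∈ K ↔ k ∈ K := by
  refine ⟨fun hk => ?_, h k⟩
  have h1 : K.map (MulAut.conj f).toMonoidHom = K := by
    refine Subgroup.eq_of_le_of_card_ge ?_ ?_
    · rintro _ ⟨k, hk, rfl⟩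
      exact h k hk
    · exact (Nat.card_congr (Subgroup.equivMapOfInjective K (MulAut.conj f).toMonoidHom
        (MulAut.conj f).injective).toEquiv).le
  rw [← h1] at hk
  obtain ⟨l, hl, h2⟩ := hk
  have h3 : l = k := (MulAut.conj f).injective h2
  exact h3 ▸ hl

theorem dp_none (c : F) (hc : c ≠ 0) : dp (σ := σ) c hc none = none := rfl

theorem dp_some (c : F) (hc : c ≠ 0) (x : Pt σ) : dp c hc (some x) = some (D c x) := rfl

theorem D_one (c : F) : D c (1 : Pt σ) = 1 := by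
  apply ext'
  · rw [D_a, one_a, mul_zero]
  · rw [D_b, one_b, mul_zero]

theorem dp_mul (c d : F) (hc : c ≠ 0) (hd : d ≠ 0) :
    (dp c hc * dp d hd : Equiv.Perm (Om σ)) = dp (c * d) (mul_ne_zero hc hd) := by
  apply Equiv.ext
  rintro (_ | x)
  · rfl
  · show some (D c (D d x)) = some (D (c * d) x)
    rw [D_D]

theorem dp_one (h : (1 : F) ≠ 0) : dp (σ := σ) 1 h = 1 := by
  apply Equiv.ext
  rintro (_ | x)
  · rfl
  · show some (D 1 x) = some x
    rw [D_one']

theorem dp_inv (c : F) (hc : c ≠ 0) : (dp (σ := σ) c hc)⁻¹ = dp c⁻¹ (inv_ne_zero hc) := by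
  rw [inv_eq_iff_mul_eq_one, dp_mul]
  have : c * c⁻¹ = 1 := mul_inv_cancel₀ hc
  simp only [this]
  exact dp_one _

/-- `U ⋊ F_q^*` -/
def KK (σ : F →+* F) [Inv2 σ] : Subgroup (Equiv.Perm (Om σ)) where
  carrier := {g | ∃ (x : Pt σ) (c : F) (hc : c ≠ 0), σ c = c ∧ g = tl x * dp c hc}
  one_mem' := ⟨1, 1, one_ne_zero, map_one σ, by rw [tl_one, dp_one, one_mul]⟩
  mul_mem' := by
    rintro _ _ ⟨x, c, hc, h1, rfl⟩ ⟨y, d, hd, h2, rfl⟩
    refine ⟨x * D c y, c * d, mul_ne_zero hc hd, by rw [map_mul, h1, h2], ?_⟩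
    calc tl x * dp c hc * (tl y * dp d hd) = tl x * (dp c hc * tl y) * dp d hd := by group
      _ = tl x * (tl (D c y) * dp c hc) * dp d hd := by rw [dp_tl]
      _ = tl x * tl (D c y) * (dp c hc * dp d hd) := by group
      _ = _ := by rw [tl_mul, dp_mul]
  inv_mem' := by
    rintro _ ⟨x, c, hc, h1, rfl⟩
    refine ⟨D c⁻¹ x⁻¹, c⁻¹, inv_ne_zero hc, by rw [map_inv₀, h1], ?_⟩
    rw [mul_inv_rev, tl_inv, dp_inv, dp_tl]

theorem tl_mem_KK (x : Pt σ) : tl x ∈ KK σ := ⟨x, 1, one_ne_zero, map_one σ, by rw [dp_one, mul_one]⟩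

theorem dp_mem_KK {c : F} (hc : c ≠ 0) (h : σ c = c) : dp c hc ∈ KK σ := ⟨1, c, hc, h, by rw [tl_one, one_mul]⟩

theorem card_KK [Finite F] (hF : UG σ q) : Nat.card (KK σ) = q ^ 3 * (q - 1) := by
  classical
  have hfin : Finite (Pt σ) := finite_pt
  have h1 : Nat.card {c : F // σ c = c ∧ c ≠ 0} = q - 1 := by
    have h2 := (card_fix hF).1
    have e : {c : F // σ c = c} ≃ Option {c : F // σ c = c ∧ c ≠ 0} :=
      { toFun := fun c => if h : c.1 = 0 then none else some ⟨c.1, c.2, h⟩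
        invFun := fun o => o.elim ⟨0, map_zero σ⟩ fun c => ⟨c.1, c.2.1⟩
        left_inv := by
          rintro ⟨c, hc⟩
          by_cases h : c = 0
          · subst h; simp
          · simp [h]
        right_inv := by
          rintro (_ | ⟨c, hc, h⟩)
          · simp
          · simp [h] }
    rw [Nat.card_congr e, Finite.card_option] at h2
    omega
  have h2 : Function.Bijective (fun p : Pt σ × {c : F // σ c = c ∧ c ≠ 0} =>
      (⟨tl p.1 * dp p.2.1 p.2.2.2, p.1, p.2.1, p.2.2.2, p.2.2.1, rfl⟩ : KK σ)) := by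
    constructor
    · rintro ⟨x, c, hc, h⟩ ⟨y, d, hd, h'⟩ heq
      have h3 : (tl x * dp c h : Equiv.Perm (Om σ)) = tl y * dp d h' := congrArg Subtype.val heq
      have h4 := congrArg (fun g : Equiv.Perm (Om σ) => g (some 1)) h3
      have h5 : (some (x * D c 1) : Om σ) = some (y * D d 1) := h4
      rw [D_one, D_one, mul_one, mul_one] at h5
      obtain rfl := Option.some_injective _ h5
      have h6 := mul_left_cancel h3
      obtain ⟨w, hw⟩ := H223.U3Fin.exists_pt hF (1 : F)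
      have h7 := congrArg (fun g : Equiv.Perm (Om σ) => g (some w)) h6
      have h8 : (some (D c w) : Om σ) = some (D d w) := h7
      have h9 := congrArg Pt.a (Option.some_injective _ h8)
      rw [D_a, D_a, hw, mul_one, mul_one] at h9
      subst h9
      rfl
    · rintro ⟨_, x, c, hc, h, rfl⟩
      exact ⟨(x, ⟨c, h, hc⟩), rfl⟩
  rw [← Nat.card_congr (Equiv.ofBijective _ h2), Nat.card_prod, h1, card_pt hF]

theorem dp_lam_mem_L (hF : UG σ q) {x : Pt σ} (hx1 : x ≠ 1) : dp (lam x) (lam_ne_zero hx1) ∈ ⨆ y, u3Fam σ y := by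
  have h1 : dp (lam x) (lam_ne_zero hx1) * jj ∈ ⨆ y, u3Fam σ y := by
    have h1 := mu_perm hx1
    have h2 : dp (lam x) (lam_ne_zero hx1) * jj = (jj * tl (J x)⁻¹ * jj) * tl x * (jj * tl (J x⁻¹) * jj) := by
      have h3 : dp (lam x) (lam_ne_zero hx1) =
          jj * (tl (J x))⁻¹ * jj * tl x * jj * tl (J x⁻¹) := by
        rw [h1, inv_mul_cancel_right]
      rw [h3, tl_inv]
      group
    rw [h2]
    exact mul_mem (mul_mem (jtj_mem_L _) (tl_mem_L _)) (jtj_mem_L _)
  have h2 := mul_mem h1 (inv_mem (jj_mem_L hF))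
  rwa [mul_inv_cancel_right] at h2

theorem lam_of_fixed {x : Pt σ} {r : F} (hr : σ r = r) (h0 : r ≠ 0) (hx : x.b = r) : lam x = r := by
  unfold lam
  rw [hx, hr, mul_div_assoc, div_self h0, mul_one]

theorem exists_lam (hF : UG σ q) {r : F} (hr : σ r = r) (h0 : r ≠ 0) : ∃ x : Pt σ, x ≠ 1 ∧ lam x = r := by
  obtain ⟨x, hx⟩ := H223.U3Fin.exists_pt_b hF r
  refine ⟨x, ?_, lam_of_fixed hr h0 hx⟩
  rintro rfl
  exact h0 (by rw [← hx, one_b])

theorem dp_mem_L (hF : UG σ q) {c : F} (hc : c ≠ 0) (h : σ c = c) : dp c hc ∈ ⨆ y, u3Fam σ y := by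
  obtain ⟨x, hx, rfl⟩ := exists_lam hF h hc
  exact dp_lam_mem_L hF hx

theorem KK_le (hF : UG σ q) : KK σ ≤ ⨆ y, u3Fam σ y := by
  rintro _ ⟨x, c, hc, h, rfl⟩
  exact mul_mem (tl_mem_L x) (dp_mem_L hF hc h)

theorem phi_D [Finite F] (hF : UG σ q) {β : Equiv.Perm (Om σ)} {φ φ' : Pt σ → Pt σ} (A : Au β φ φ')
    {c : F} {τ : F →+* F} (hc : c ≠ 0) (ha : ∀ x : Pt σ, (φ x).a = c * τ x.a) {d : F} (hd : d ≠ 0) (hσ : σ d = d)
    (w : Pt σ) : φ (D d w) = D (τ d) (φ w) := by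
  obtain ⟨x₁, hx₁, hl₁⟩ := exists_lam hF (map_one σ) one_ne_zero
  obtain ⟨x, hx, hl⟩ := exists_lam hF hσ hd
  have hφ' : ∀ w, φ w = D (lam (φ x₁)) (φ' w) := fun w => by
    have := A.mu hx₁ w
    rwa [hl₁, D_one'] at this
  have hl0 : lam (φ x₁) ≠ 0 := lam_ne_zero (A.ne_one hx₁)
  have hκ : ∀ w, φ (D d w) = D (lam (φ x) * (lam (φ x₁))⁻¹) (φ w) := by
    intro w
    have h1 := A.mu hx w
    rw [hl] at h1
    rw [h1, hφ' w, D_D, mul_assoc, inv_mul_cancel₀ hl0, mul_one]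
  obtain ⟨y, hy⟩ := H223.U3Fin.exists_pt hF (1 : F)
  have h2 := congrArg Pt.a (hκ y)
  rw [ha, D_a, hy, mul_one, D_a, ha, hy, map_one, mul_one] at h2
  have h3 : lam (φ x) * (lam (φ x₁))⁻¹ = τ d := by
    apply mul_right_cancel₀ hc
    rw [← h2, mul_comm]
  rw [hκ, h3]

theorem key [Finite F] (hF : UG σ q) (hq : 2 < q) {r : ℕ} [hr : Fact r.Prime] (hrq : ¬ r ∣ q)
    (hrq1 : ¬ r ∣ q - 1) {f : Equiv.Perm (Om σ)} (hf : f ∈ famStab (u3Fam σ)) (hn : f none = none)
    (hP : ∀ m ∈ ⨆ y, u3Fam σ y, PE r (f * (m * f * m⁻¹))) : f = 1 := by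
  classical
  have hfin : Finite (Pt σ) := finite_pt
  have hfinO : Finite (Om σ) := inferInstance
  -- the decomposition `f = tl x₀ * f₀`
  obtain ⟨x₀, hx₀⟩ : ∃ x₀, f (some 1) = some x₀ := by
    rcases h : f (some 1) with _ | x
    · exfalso
      have h1 : f (some 1) = f none := by rw [h, hn]
      exact absurd (f.injective h1) (by simp)
    · exact ⟨x, rfl⟩
  obtain ⟨f₀, hf₀⟩ : ∃ f₀, f₀ = tl x₀⁻¹ * f := ⟨_, rfl⟩
  have hff₀ : f = tl x₀ * f₀ := by
    rw [hf₀, ← tl_inv, mul_inv_cancel_left]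
  have hf₀S : f₀ ∈ famStab (u3Fam σ) := by rw [hf₀]; exact mul_mem (tl_mem _) hf
  have h00 : f₀ none = none := by
    rw [hf₀]
    show tl x₀⁻¹ (f none) = none
    rw [hn, U3Model.tr_none]
  have h01 : f₀ (some 1) = some 1 := by
    rw [hf₀]
    show tl x₀⁻¹ (f (some 1)) = some 1
    rw [hx₀, U3Model.tr_some, inv_mul_cancel]
  obtain ⟨φ, φ', A⟩ := exists_au' hf₀S h00 h01
  obtain ⟨c, τ, hc, ha, -⟩ := semi hF hq A
  have htl : ∀ x : Pt σ, f₀ * tl x = tl (φ x) * f₀ := by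
    intro x
    apply Equiv.ext
    intro z
    exact A.tr x z
  have hdp : ∀ (d : F) (hd : d ≠ 0) (hτ : τ d ≠ 0), σ d = d → f₀ * dp d hd = dp (τ d) hτ * f₀ := by
    intro d hd hτ hσ
    apply Equiv.ext
    rintro (_ | x)
    · show f₀ none = dp (τ d) hτ (f₀ none)
      rw [h00]; rfl
    · show f₀ (some (D d x)) = dp (τ d) hτ (f₀ (some x))
      rw [A.val, A.val, dp_some, phi_D hF A hc ha hd hσ]
  have hτ0 : ∀ {d : F}, d ≠ 0 → τ d ≠ 0 := fun h h1 => h ((map_eq_zero τ).1 h1)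
  have hτσ : ∀ {d : F}, σ d = d → σ (τ d) = τ d := fun {d} h => by rw [← hF.comm, h]
  -- `K`
  have hK : ¬ r ∣ Nat.card (KK σ) := by
    rw [card_KK hF, hr.out.dvd_mul]
    rintro (h | h)
    · exact hrq (hr.out.dvd_of_dvd_pow h)
    · exact hrq1 h
  have hKf : ∀ k ∈ KK σ, f * k * f⁻¹ ∈ KK σ := by
    rintro _ ⟨x, d, hd, hσ, rfl⟩
    have e : f * (tl x * dp d hd) * f⁻¹ = tl x₀ * (tl (φ x) * dp (τ d) (hτ0 hd)) * (tl x₀)⁻¹ := by
      rw [hff₀, mul_inv_rev]
      calc tl x₀ * f₀ * (tl x * dp d hd) * (f₀⁻¹ * (tl x₀)⁻¹) =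
          tl x₀ * (f₀ * tl x) * dp d hd * f₀⁻¹ * (tl x₀)⁻¹ := by group
        _ = tl x₀ * (tl (φ x) * f₀) * dp d hd * f₀⁻¹ * (tl x₀)⁻¹ := by rw [htl]
        _ = tl x₀ * tl (φ x) * (f₀ * dp d hd) * f₀⁻¹ * (tl x₀)⁻¹ := by group
        _ = tl x₀ * tl (φ x) * (dp (τ d) (hτ0 hd) * f₀) * f₀⁻¹ * (tl x₀)⁻¹ := by rw [hdp d hd (hτ0 hd) hσ]
        _ = _ := by group
    rw [e]
    exact mul_mem (mul_mem (tl_mem_KK _) (mul_mem (tl_mem_KK _) (dp_mem_KK _ (hτσ hσ)))) (inv_mem (tl_mem_KK _))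
  have hfK := conj_iff hKf
  have hPK : ∀ k ∈ KK σ, PE r (f * (k * f * k⁻¹)) := fun k hk => hP k (KK_le hF hk)
  have hff : PE r (f * f) := by
    have := hPK 1 (one_mem _)
    simpa using this
  obtain ⟨k, hk⟩ := PE.pow_eq_one_iff.1 hff
  -- the centre
  have hcen : ∀ x y : Pt σ, x.a = 0 → x * y = y * x := fun x y h => (H223.U3Fin.central_iff hF x).2 h y
  have hza : ∀ x : Pt σ, x.a = 0 → (φ x).a = 0 := fun x h => H223.U3Fin.a_zero A hF h
  have hfz : ∀ x : Pt σ, x.a = 0 → f * tl x = tl (φ x) * f := by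
    intro x hx
    rw [hff₀]
    calc tl x₀ * f₀ * tl x = tl x₀ * (f₀ * tl x) := by group
      _ = tl x₀ * tl (φ x) * f₀ := by rw [htl]; group
      _ = tl (φ x) * tl x₀ * f₀ := by rw [tl_mul, ← hcen _ _ (hza x hx), ← tl_mul]
      _ = _ := by group
  -- a central element commuting with `f`
  obtain ⟨z, hz0, hz1, hzf⟩ : ∃ z : Pt σ, z.a = 0 ∧ z ≠ 1 ∧ tl z * f = f * tl z := by
    have hinj : Function.Injective (fun x : {x : Pt σ // x.a = 0 ∧ x ≠ 1} =>
        (⟨φ (φ x.1), hza _ (hza _ x.2.1), A.ne_one (A.ne_one x.2.2)⟩ : {x : Pt σ // x.a = 0 ∧ x ≠ 1})) := by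
      intro x y h
      exact Subtype.ext (A.inj (A.inj (congrArg Subtype.val h)))
    have := Fintype.ofFinite {x : Pt σ // x.a = 0 ∧ x ≠ 1}
    obtain ⟨ψ, hψ⟩ : ∃ ψ : Equiv.Perm {x : Pt σ // x.a = 0 ∧ x ≠ 1}, ∀ x, (ψ x).1 = φ (φ x.1) :=
      ⟨Equiv.ofBijective _ (Finite.injective_iff_bijective.1 hinj), fun x => rfl⟩
    have h1 : ∀ (n : ℕ) (x : {x : Pt σ // x.a = 0 ∧ x ≠ 1}), (f * f) ^ n * tl x.1 = tl ((ψ ^ n) x).1 * (f * f) ^ n := by
      intro n
      induction n with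
      | zero => intro x; simp
      | succ n ih =>
        intro x
        rw [pow_succ (f * f), pow_succ ψ]
        calc (f * f) ^ n * (f * f) * tl x.1 = (f * f) ^ n * (f * (f * tl x.1)) := by group
          _ = (f * f) ^ n * (f * tl (φ x.1) * f) := by rw [hfz _ x.2.1, mul_assoc f]
          _ = (f * f) ^ n * (tl (φ (φ x.1)) * f * f) := by rw [hfz _ (hza _ x.2.1)]
          _ = ((f * f) ^ n * tl (ψ x).1) * (f * f) := by rw [hψ]; group
          _ = _ := by rw [ih]; rw [Equiv.Perm.mul_apply]; group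
    have h2 : ψ ^ r ^ k = 1 := by
      apply Equiv.ext
      intro x
      have h3 := h1 (r ^ k) x
      rw [hk, one_mul, mul_one] at h3
      exact Subtype.ext (tl_injective h3).symm
    have h3 : ¬ r ∣ Fintype.card {x : Pt σ // x.a = 0 ∧ x ≠ 1} := by
      have h4 := card_ker hF
      have e : (pr σ).ker ≃ Option {x : Pt σ // x.a = 0 ∧ x ≠ 1} :=
        { toFun := fun x => if h : x.1 = 1 then none else some ⟨x.1, mem_ker.1 x.2, h⟩
          invFun := fun o => o.elim 1 fun x => ⟨x.1, mem_ker.2 x.2.1⟩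
          left_inv := by
            rintro ⟨x, hx⟩
            by_cases h : x = 1
            · subst h; simp; rfl
            · simp [h]
          right_inv := by
            rintro (_ | ⟨x, hx, h⟩)
            · simp
            · simp [h] }
      rw [Nat.card_congr e, Finite.card_option] at h4
      rw [← Nat.card_eq_fintype_card]
      have h5 : Nat.card {x : Pt σ // x.a = 0 ∧ x ≠ 1} = q - 1 := by omega
      rwa [h5]
    obtain ⟨x, hx⟩ := Equiv.Perm.exists_fixed_point_of_prime h3 h2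
    refine ⟨x.1, x.2.1, x.2.2, ?_⟩
    refine H460.Lem1.comm_of_sq hK hfK hPK (tl_mem_KK _) ?_
    have h4 := h1 1 x
    rw [pow_one, pow_one, hx] at h4
    exact h4.symm
  have hyb : ∀ y : Pt σ, y.a = 0 → σ y.b = -y.b := by
    intro y hy
    have := y.h
    rw [hy, zero_mul, add_zero] at this
    linear_combination this
  -- `NN ∩ Z(U) = 1`
  have hNZ : ∀ y : Pt σ, y.a = 0 → tl y ∈ H460.Lem1.NN hK hfK hPK → y = 1 := by
    intro y hy hyN
    by_contra hy1
    have hb0 := b_ne_zero hy1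
    have hsq : ∀ d : F, σ d = d → ∃ w : Pt σ, w.a = 0 ∧ w.b = d * d * y.b ∧ tl w ∈ H460.Lem1.NN hK hfK hPK := by
      intro d hd
      by_cases h0 : d = 0
      · refine ⟨1, one_a, by rw [one_b, h0]; ring, by rw [tl_one]; exact one_mem _⟩
      · refine ⟨D d y, by rw [D_a, hy, mul_zero], by rw [D_b, hd], ?_⟩
        have h1 := H460.Lem1.NN_conj hK hfK hPK (dp_mem_KK h0 hd) hyN
        rwa [dp_tl, mul_inv_cancel_right] at h1
    have hdiff : ∀ d e : F, σ d = d → σ e = e → ∃ w : Pt σ, w.a = 0 ∧ w.b = (d * d - e * e) * y.b ∧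
        tl w ∈ H460.Lem1.NN hK hfK hPK := by
      intro d e hd he
      obtain ⟨w, h1, h2, h3⟩ := hsq d hd
      obtain ⟨w', h1', h2', h3'⟩ := hsq e he
      refine ⟨w * w'⁻¹, by rw [mul_a, inv_a, h1, h1']; ring, ?_, ?_⟩
      · rw [mul_b, inv_b, inv_a, h1', hyb w' h1', h2, h2']; ring
      · rw [← tl_mul, ← tl_inv]
        exact mul_mem h3 (inv_mem h3')
    obtain ⟨s, hs, hsb⟩ : ∃ s, σ s = s ∧ z.b = s * y.b := by
      refine ⟨z.b / y.b, ?_, (div_mul_cancel₀ _ hb0).symm⟩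
      rw [map_div₀, hyb z hz0, hyb y hy, neg_div_neg_eq]
    obtain ⟨d, e, hd, he, hde⟩ : ∃ d e : F, σ d = d ∧ σ e = e ∧ d * d - e * e = s := by
      by_cases h2 : (2 : F) = 0
      · have : CharP F 2 := by
          refine CharTwo.of_one_ne_zero_of_two_eq_zero one_ne_zero h2
        obtain ⟨t, ht⟩ := FiniteField.isSquare_of_char_two (F := F) (ringChar.eq F 2 ▸ rfl) s
        refine ⟨t, 0, ?_, map_zero σ, by rw [ht]; ring⟩
        have h3 : (σ t - t) * (σ t - t) = 0 := by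
          have h4 : σ t * σ t = t * t := by rw [← map_mul, ← ht, hs]
          linear_combination h4 + (t * t - σ t * t) * h2
        exact sub_eq_zero.1 (mul_self_eq_zero.1 h3)
      · refine ⟨(s + 1) / 2, (s - 1) / 2, ?_, ?_, ?_⟩
        · rw [map_div₀, map_add, hs, map_one, map_ofNat]
        · rw [map_div₀, map_sub, hs, map_one, map_ofNat]
        · field_simp; ring
    obtain ⟨w, h1, h2, h3⟩ := hdiff d e hd he
    have hwz : w = z := ext' (by rw [h1, hz0]) (by rw [h2, hde, hsb])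
    rw [hwz] at h3
    have h4 := H460.Lem1.eq_one_of_comm hK hfK hPK h3 hzf
    rw [← tl_one] at h4
    exact hz1 (tl_injective h4)
  -- `NN ∩ U = 1`
  have hNU : ∀ x : Pt σ, tl x ∈ H460.Lem1.NN hK hfK hPK → x = 1 := by
    intro x hx
    refine hNZ x ?_ hx
    rw [← H223.U3Fin.central_iff hF]
    intro y
    have h1 := H460.Lem1.NN_conj hK hfK hPK (tl_mem_KK y) hx
    have h2 := mul_mem h1 (inv_mem hx)
    rw [tl_inv, tl_inv, tl_mul, tl_mul, tl_mul] at h2
    have h3 := hNZ _ (by simp only [mul_a, inv_a]; ring) h2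
    rw [mul_inv_eq_one, mul_inv_eq_iff_eq_mul] at h3
    exact h3.symm
  -- `f` centralises `U`
  have hfU : ∀ x : Pt σ, f * tl x = tl x * f := by
    intro x
    have h1 := H460.Lem1.comm_mem hK hfK hPK (tl_mem_KK x)
    have h2 : f⁻¹ * tl x * f ∈ u3Fam σ none := by
      refine (hf none _).2 ?_
      rw [hn]
      have e : f * (f⁻¹ * tl x * f) * f⁻¹ = tl x := by group
      rw [e]
      exact mem_none.2 ⟨x, rfl⟩
    obtain ⟨y, hy⟩ := mem_none.1 h2
    rw [hy, tl_inv, tl_mul] at h1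
    have h3 := hNU _ h1
    rw [mul_inv_eq_one] at h3
    rw [h3] at hy
    calc f * tl x = f * (f⁻¹ * tl x * f) := by rw [hy]
      _ = tl x * f := by group
  have hfx : ∀ x : Pt σ, f (some x) = some (x * x₀) := by
    intro x
    have h1 := congrArg (fun g : Equiv.Perm (Om σ) => g (some 1)) (hfU x)
    have h2 : f (tl x (some 1)) = tl x (f (some 1)) := h1
    rwa [U3Model.tr_some, mul_one, hx₀, U3Model.tr_some] at h2
  -- `x₀ ^ 2 = 1`
  have hx2 : x₀ * x₀ = 1 := by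
    have h1 : ∀ (n : ℕ) (x : Pt σ), ((f * f) ^ n) (some x) = some (x * (x₀ * x₀) ^ n) := by
      intro n
      induction n with
      | zero => intro x; simp
      | succ n ih =>
        intro x
        rw [pow_succ (f * f), Equiv.Perm.mul_apply, Equiv.Perm.mul_apply, hfx, hfx, ih, pow_succ']
        simp only [mul_assoc]
    have h2 := h1 (r ^ k) 1
    rw [hk, one_mul] at h2
    have h3 : (x₀ * x₀) ^ r ^ k = 1 := by
      have h4 : (some (1 : Pt σ) : Om σ) = some ((x₀ * x₀) ^ r ^ k) := h2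
      exact (Option.some_injective _ h4).symm
    refine PE.eq_one (PE.pow_eq_one_iff.2 ⟨_, h3⟩) fun hd => ?_
    have h5 := hd.trans (orderOf_dvd_natCard (x₀ * x₀))
    rw [card_pt hF] at h5
    exact hrq (hr.out.dvd_of_dvd_pow h5)
  have hx₀1 : x₀ = 1 := by
    by_cases h2 : (2 : F) = 0
    · -- characteristic two
      have h3 : ∀ x : Pt σ, φ x = x₀⁻¹ * x * x₀ := by
        intro x
        have h4 := hfx x
        rw [hff₀] at h4
        have h5 : tl x₀ (f₀ (some x)) = some (x * x₀) := h4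
        rw [A.val, U3Model.tr_some] at h5
        have h6 := Option.some_injective _ h5
        rw [mul_assoc, ← h6, inv_mul_cancel_left]
      have h4 : ∀ a : F, c * τ a = a := by
        intro a
        obtain ⟨x, hx⟩ := H223.U3Fin.exists_pt hF a
        have h5 := congrArg Pt.a (h3 x)
        rw [ha, mul_a, mul_a, inv_a, hx] at h5
        linear_combination h5
      have hc1 : c = 1 := by
        have := h4 1
        rwa [map_one, mul_one] at this
      have hτ1 : ∀ a, τ a = a := fun a => by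
        have := h4 a
        rwa [hc1, one_mul] at this
      have h5 : ∀ d : F, d ≠ 0 → σ d = d → D d x₀ = x₀ := by
        intro d hd hσ
        have h6 : f⁻¹ * (dp d hd * f * (dp d hd)⁻¹) ∈ H460.Lem1.NN hK hfK hPK :=
          (H460.Lem1.mem_NN' hK hfK hPK).2 ⟨_, dp_mem_KK hd hσ, rfl⟩
        have h7 : dp d hd * f * (dp d hd)⁻¹ = tl (D d x₀ * x₀⁻¹) * f := by
          have h8 : f₀ * (dp d hd)⁻¹ = (dp d hd)⁻¹ * f₀ := by
            have h9 := hdp d hd (hτ0 hd) hσ
            have h10 : dp (σ := σ) (τ d) (hτ0 hd) = dp d hd := by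
              simp only [hτ1]
            rw [h10] at h9
            calc f₀ * (dp d hd)⁻¹ = (dp d hd)⁻¹ * (dp d hd * f₀) * (dp d hd)⁻¹ := by group
              _ = (dp d hd)⁻¹ * (f₀ * dp d hd) * (dp d hd)⁻¹ := by rw [h9]
              _ = _ := by group
          calc dp d hd * f * (dp d hd)⁻¹ = dp d hd * tl x₀ * (f₀ * (dp d hd)⁻¹) := by rw [hff₀]; group
            _ = (dp d hd * tl x₀) * (dp d hd)⁻¹ * f₀ := by rw [h8]; group
            _ = tl (D d x₀) * f₀ := by rw [dp_tl]; group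
            _ = tl (D d x₀) * (tl x₀)⁻¹ * (tl x₀ * f₀) := by group
            _ = _ := by rw [← hff₀, tl_inv, tl_mul]
        rw [h7, ← hfU, inv_mul_cancel_left] at h6
        have h8 := hNU _ h6
        exact mul_inv_eq_one.1 h8
      obtain ⟨d, hd, hd0, hd1⟩ : ∃ d : F, σ d = d ∧ d ≠ 0 ∧ d ≠ 1 := by
        by_contra hcon
        push Not at hcon
        have h6 : Nat.card {x : F // σ x = x} ≤ 2 := by
          have h7 : Function.Injective (fun x : {x : F // σ x = x} => decide (x.1 = 0)) := by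
            rintro ⟨x, hx⟩ ⟨y, hy⟩ hxy
            have h8 : (x = 0) ↔ (y = 0) := by simpa using hxy
            apply Subtype.ext
            show x = y
            by_cases hx0 : x = 0
            · rw [hx0, h8.1 hx0]
            · rw [hcon x hx hx0, hcon y hy fun h => hx0 (h8.2 h)]
          have h8 := Nat.card_le_card_of_injective _ h7
          simpa using h8
        rw [(card_fix hF).1] at h6
        omega
      have h6 := h5 d hd0 hd
      have h7 := congrArg Pt.a h6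
      have h8 := congrArg Pt.b h6
      rw [D_a] at h7
      rw [D_b, hd] at h8
      have h9 : d - 1 ≠ 0 := sub_ne_zero.2 hd1
      refine ext' ?_ ?_
      · rw [one_a]
        refine (mul_eq_zero.1 (show (d - 1) * x₀.a = 0 by linear_combination h7)).resolve_left h9
      · rw [one_b]
        have h10 : (d - 1) * ((d - 1) * x₀.b) = 0 := by linear_combination h8 + (x₀.b - d * x₀.b) * h2
        exact ((mul_eq_zero.1 ((mul_eq_zero.1 h10).resolve_left h9))).resolve_left h9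
    · have h3 := congrArg Pt.a hx2
      rw [mul_a, one_a] at h3
      have h4 : x₀.a = 0 := by
        have : (2 : F) * x₀.a = 0 := by linear_combination h3
        exact (mul_eq_zero.1 this).resolve_left h2
      have h5 := congrArg Pt.b hx2
      rw [mul_b, one_b, h4] at h5
      have h6 : x₀.b = 0 := by
        have : (2 : F) * x₀.b = 0 := by linear_combination h5
        exact (mul_eq_zero.1 this).resolve_left h2
      exact ext' h4 h6
  apply Equiv.ext
  rintro (_ | x)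
  · exact hn
  · rw [hfx, hx₀1, mul_one]; rfl

/-- **AA-PFU3.** -/
theorem pf_u3 {F : Type*} [Field F] [Finite F] (σ : F →+* F) [Inv2 σ] (hσ : ∃ x, σ x ≠ x) {q : ℕ}
    (hq : Nat.card F = q ^ 2) (hq2 : q ≠ 2) {r : ℕ} [Fact r.Prime] (hr2 : r ≠ 2) (h1 : ¬ r ∣ q) :
    PF r (u3Fam σ) := by
  have hF : UG σ q := ug_of_card hσ hq
  have hr : r.Prime := Fact.out
  have hq' : 2 < q := by
    have := hF.two_le
    omega
  by_cases h2 : r ∣ q ^ 3 + 1
  · have h3 : ¬ r ∣ q - 1 := by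
      intro h
      have h4 : q ^ 3 + 1 = (q - 1) * (q ^ 2 + q + 1) + 2 := by
        obtain ⟨n, rfl⟩ : ∃ n, q = n + 1 := ⟨q - 1, by omega⟩
        rw [Nat.add_sub_cancel]; ring
      rw [h4] at h2
      have h5 := (Nat.dvd_add_right (dvd_mul_of_dvd_left h _)).1 h2
      exact hr2 ((Nat.prime_dvd_prime_iff_eq hr Nat.prime_two).1 h5)
    intro f hf ⟨y, hy⟩ hP
    have hk := toPt_mem_L hF y
    have h4 : tp y (none : Om σ) = y := U3One.toPt_apply y
    have h5 : (tp y)⁻¹ * f * tp y = 1 := by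
      refine key hF hq' h1 h3 (mul_mem (mul_mem (inv_mem (L_le_famStab hk)) hf) (L_le_famStab hk)) ?_ ?_
      · show (tp y)⁻¹ (f (tp y none)) = none
        rw [h4, hy]
        nth_rewrite 2 [← h4]
        exact (tp y).symm_apply_apply _
      · intro m hm
        have h5 := (hP (tp y * m * (tp y)⁻¹) (mul_mem (mul_mem hk hm) (inv_mem hk))).conj (tp y)⁻¹
        have e : (tp y)⁻¹ * (f * (tp y * m * (tp y)⁻¹ * f * (tp y * m * (tp y)⁻¹)⁻¹)) * (tp y)⁻¹⁻¹ =
            (tp y)⁻¹ * f * tp y * (m * ((tp y)⁻¹ * f * tp y) * m⁻¹) := by group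
        rwa [e] at h5
    have e : f = tp y * ((tp y)⁻¹ * f * tp y) * (tp y)⁻¹ := by group
    rw [e, h5]
    group
  · exact (pn_u3 σ hσ hq hr2 h1 h2).pf

end Cfsg.Agent.H521.PFU3
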