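import Cfsg.Agent.CharactersDeep.QuatSylow

/-!
# Elements of order `p` outside a normal subgroup with cyclic Sylow `p`-subgroups (helper521, S3833)

`conj_of_cyclic` : `p` odd, `N` normal in `A`, the `p`-subgroups of `N` cyclic, `σ`, `x` of order `p` in the same
coset of `N` with `A = N⟨σ⟩`, `σ` does not centralise a Sylow `p`-subgroup of `N`: then `x` is conjugate to `σ`
under `N`.
-/

set_option autoImplicit false

namespace Cfsg.Agent.H521.AACyc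

open Subgroup

section Num

theorem geom_mod {p : ℕ} (hp : Odd p) (j : ℤ) : ∃ c : ℤ, ∑ i ∈ Finset.range p, (1 + (p : ℤ) * j) ^ i = p + p ^ 2 * c := by
  obtain ⟨c, hc⟩ := odd_sq_dvd_geom_sum₂_sub (R := ℤ) (a := 1) (b := j) hp
  refine ⟨c, ?_⟩
  simp only [one_pow, mul_one] at hc
  linarith

/-- `z ≡ -1 (mod p)` : `p (z + 1)` divides `z ^ p + 1` -/
theorem mul_dvd {p z : ℕ} (hp : Odd p) (h : p ∣ z + 1) : (z + 1) * p ∣ z ^ p + 1 := by
  have h1 : (z : ℤ) ^ p + 1 = (z + 1) * ∑ i ∈ Finset.range p, (-(z : ℤ)) ^ i := by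
    have h2 := mul_neg_geom_sum (-(z : ℤ)) p
    rw [hp.neg_pow] at h2
    linarith
  have h3 : (p : ℤ) ∣ ∑ i ∈ Finset.range p, (-(z : ℤ)) ^ i := by
    have h4 : (-(z : ℤ)) ≡ 1 [ZMOD p] := by
      rw [Int.modEq_iff_dvd]
      have h5 : ((p : ℕ) : ℤ) ∣ ((z + 1 : ℕ) : ℤ) := Int.natCast_dvd_natCast.2 h
      have e : (1 : ℤ) - -(z : ℤ) = ((z + 1 : ℕ) : ℤ) := by push_cast; ring
      rw [e]; exact h5
    have h5 : ∑ i ∈ Finset.range p, (-(z : ℤ)) ^ i ≡ ∑ i ∈ Finset.range p, (1 : ℤ) [ZMOD p] := by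
      refine Int.ModEq.sum fun i _ => ?_
      have := h4.pow i
      rwa [one_pow] at this
    have h6 : ∑ i ∈ Finset.range p, (1 : ℤ) = p := by simp
    rw [h6] at h5
    exact (Int.modEq_zero_iff_dvd).1 (h5.trans (Int.modEq_zero_iff_dvd.2 dvd_rfl))
  have h7 : (((z + 1) * p : ℕ) : ℤ) ∣ ((z ^ p + 1 : ℕ) : ℤ) := by
    push_cast
    rw [h1]
    exact mul_dvd_mul_left _ h3
  exact Int.natCast_dvd_natCast.1 h7

end Num

section Cyc

variable {A : Type*} [Group A]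

/-- `(u σ)^j = u^(1 + s + ... + s^(j-1)) σ^j` -/
theorem pow_mul_pow {u σ : A} {s : ℕ} (h : σ * u * σ⁻¹ = u ^ s) (j : ℕ) :
    (u * σ) ^ j = u ^ (∑ i ∈ Finset.range j, s ^ i) * σ ^ j := by
  have hk : ∀ j k : ℕ, σ ^ j * u ^ k * (σ ^ j)⁻¹ = u ^ (s ^ j * k) := by
    intro j
    induction j with
    | zero => intro k; simp
    | succ j ih =>
      intro k
      have e : σ ^ (j + 1) * u ^ k * (σ ^ (j + 1))⁻¹ = σ ^ j * (σ * u * σ⁻¹) ^ k * (σ ^ j)⁻¹ := by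
        rw [conj_pow, pow_succ]; group
      rw [e, h, ← pow_mul, ih]
      ring_nf
  induction j with
  | zero => simp
  | succ j ih =>
    rw [pow_succ, ih, Finset.sum_range_succ, pow_add, pow_succ]
    have h1 := hk j 1
    rw [pow_one, mul_one] at h1
    have h2 : σ ^ j * u = u ^ s ^ j * σ ^ j := by rw [← h1]; group
    calc u ^ (∑ i ∈ Finset.range j, s ^ i) * σ ^ j * (u * σ) =
        u ^ (∑ i ∈ Finset.range j, s ^ i) * (σ ^ j * u) * σ := by group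
      _ = u ^ (∑ i ∈ Finset.range j, s ^ i) * (u ^ s ^ j * σ ^ j) * σ := by rw [h2]
      _ = _ := by group

/-- the norm argument -/
theorem pow_eq_one {p : ℕ} [hp : Fact p.Prime] (hp2 : p ≠ 2) {u σ : A} {s k : ℕ} (h : σ * u * σ⁻¹ = u ^ s)
    (hσ : σ ^ p = 1) (hu : (u * σ) ^ p = 1) (hk : u ^ p ^ k = 1) : u ^ p = 1 := by
  have hodd : Odd p := hp.out.odd_of_ne_two hp2
  by_cases hu1 : u = 1
  · rw [hu1, one_pow]
  -- `s ≡ 1 (mod p)`
  have h1 : orderOf u ∣ p ^ k := orderOf_dvd_of_pow_eq_one hk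
  obtain ⟨l, -, hl⟩ := (Nat.dvd_prime_pow hp.out).1 h1
  have hl0 : l ≠ 0 := by
    rintro rfl
    rw [pow_zero, orderOf_eq_one_iff] at hl
    exact hu1 hl
  have hpu : p ∣ orderOf u := by rw [hl]; exact dvd_pow_self p hl0
  have hit : ∀ j : ℕ, σ ^ j * u * (σ ^ j)⁻¹ = u ^ s ^ j := by
    intro j
    induction j with
    | zero => simp
    | succ j ih =>
      have e : σ ^ (j + 1) * u * (σ ^ (j + 1))⁻¹ = σ * (σ ^ j * u * (σ ^ j)⁻¹) * σ⁻¹ := by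
        rw [pow_succ']; group
      rw [e, ih]
      have h2 : σ * u ^ s ^ j * σ⁻¹ = (σ * u * σ⁻¹) ^ s ^ j := by rw [conj_pow]
      rw [h2, h, ← pow_mul, ← pow_succ']
  have h2 : u ^ s ^ p = u ^ 1 := by
    rw [← hit p, hσ, pow_one]; group
  have h3 : s ^ p ≡ 1 [MOD p] := (pow_eq_pow_iff_modEq.1 h2).of_dvd hpu
  have h4 : (s : ZMod p) = 1 := by
    have h5 : ((s ^ p : ℕ) : ZMod p) = ((1 : ℕ) : ZMod p) := (ZMod.natCast_eq_natCast_iff _ _ _).2 h3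
    rw [Nat.cast_pow, ZMod.pow_card, Nat.cast_one] at h5
    exact h5
  obtain ⟨j, hj⟩ : ∃ j : ℤ, (s : ℤ) = 1 + p * j := by
    have h5 : ((p : ℕ) : ℤ) ∣ (s : ℤ) - 1 := by
      rw [← ZMod.intCast_zmod_eq_zero_iff_dvd]
      push_cast
      rw [h4, sub_self]
    obtain ⟨j, hj⟩ := h5
    exact ⟨j, by linarith⟩
  obtain ⟨c, hc⟩ := geom_mod hodd j
  have h5 : u ^ (∑ i ∈ Finset.range p, s ^ i) = 1 := by
    have h6 := pow_mul_pow h p
    rw [hu, hσ, mul_one] at h6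
    exact h6.symm
  have h6 : orderOf u ∣ ∑ i ∈ Finset.range p, s ^ i := orderOf_dvd_of_pow_eq_one h5
  have h7 : ((p ^ l : ℕ) : ℤ) ∣ p + p ^ 2 * c := by
    rw [← hc, ← hl]
    have h8 := Int.natCast_dvd_natCast.2 h6
    push_cast at h8
    rw [hj] at h8
    exact h8
  have h8 : l = 1 := by
    by_contra hne
    have h9 : (p : ℤ) ^ 2 ∣ p + p ^ 2 * c := by
      refine dvd_trans ?_ h7
      push_cast
      exact pow_dvd_pow _ (by omega)
    have h10 : (p : ℤ) ^ 2 ∣ p := by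
      have := dvd_sub h9 (dvd_mul_right ((p : ℤ) ^ 2) c)
      rwa [add_sub_cancel_right] at this
    have h11 : p ^ 2 ∣ p := by exact_mod_cast h10
    have h12 := Nat.le_of_dvd hp.out.pos h11
    have h13 := hp.out.two_le
    nlinarith
  rw [h8, pow_one] at hl
  rw [← hl, pow_orderOf_eq_one]

/-- **Elements of order `p` in a coset of a normal subgroup with cyclic Sylow `p`-subgroups are conjugate.** -/
theorem conj_of_cyclic [Finite A] {p : ℕ} [hp : Fact p.Prime] (hp2 : p ≠ 2) {N : Subgroup A} (hN : N.Normal) {σ x : A}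
    (hσ : σ ^ p = 1) (hx : x ^ p = 1) (hxσ : x * σ⁻¹ ∈ N) (htop : ∀ a : A, ∃ s ∈ zpowers σ, ∃ n ∈ N, a = s * n)
    (hcyc : ∀ P : Subgroup A, P ≤ N → IsPGroup p P → IsCyclic P)
    (hnc : ∀ P : Sylow p A, σ ∈ (P : Subgroup A) → ∃ u ∈ (P : Subgroup A), u ∈ N ∧ u * σ ≠ σ * u) :
    ∃ g ∈ N, x = g * σ * g⁻¹ := by
  classical
  have hpz : ∀ {y : A}, y ^ p = 1 → ∃ P : Sylow p A, y ∈ (P : Subgroup A) := by
    intro y hy
    have h1 : IsPGroup p (zpowers y) := by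
      rcases (Nat.dvd_prime hp.out).1 (orderOf_dvd_of_pow_eq_one hy) with h | h
      · exact IsPGroup.of_card (n := 0) (by rw [Nat.card_zpowers, h, pow_zero])
      · exact IsPGroup.of_card (n := 1) (by rw [Nat.card_zpowers, h, pow_one])
    obtain ⟨P, hP⟩ := h1.exists_le_sylow
    exact ⟨P, hP (mem_zpowers y)⟩
  obtain ⟨P, hσP⟩ := hpz hσ
  obtain ⟨P', hxP'⟩ := hpz hx
  obtain ⟨a, rfl⟩ := MulAction.exists_smul_eq A P' P
  obtain ⟨s, hs, n, hn, rfl⟩ := htop a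
  -- move `x` into `P`
  have h1 : (s * n) * x * (s * n)⁻¹ ∈ (((s * n) • P' : Sylow p A) : Subgroup A) :=
    Subgroup.smul_mem_pointwise_smul x (MulAut.conj (s * n)) _ hxP'
  obtain ⟨P, hP⟩ : ∃ P : Sylow p A, P = (s * n) • P' := ⟨_, rfl⟩
  rw [← hP] at h1 hσP
  have hsP : s ∈ (P : Subgroup A) := (zpowers_le.2 hσP) hs
  obtain ⟨x', hx'⟩ : ∃ x', x' = n * x * n⁻¹ := ⟨_, rfl⟩
  have hx'P : x' ∈ (P : Subgroup A) := by
    have h2 := mul_mem (mul_mem (inv_mem hsP) h1) hsP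
    have e : s⁻¹ * (s * n * x * (s * n)⁻¹) * s = n * x * n⁻¹ := by group
    rw [e] at h2
    rw [hx']; exact h2
  have hx'p : x' ^ p = 1 := by rw [hx', conj_pow, hx, mul_one, mul_inv_cancel]
  obtain ⟨u, hu⟩ : ∃ u, u = x' * σ⁻¹ := ⟨_, rfl⟩
  have huσ : u * σ = x' := by rw [hu, inv_mul_cancel_right]
  have huP : u ∈ (P : Subgroup A) := by rw [hu]; exact mul_mem hx'P (inv_mem hσP)
  have huN : u ∈ N := by
    have e : u = n * (x * n⁻¹ * x⁻¹) * (x * σ⁻¹) := by rw [hu, hx']; group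
    rw [e]
    exact mul_mem (mul_mem hn (hN.conj_mem _ (inv_mem hn) x)) hxσ
  -- the cyclic group
  obtain ⟨P₀, hP₀⟩ : ∃ P₀ : Subgroup A, P₀ = (P : Subgroup A) ⊓ N := ⟨_, rfl⟩
  have hP₀p : IsPGroup p P₀ := P.isPGroup'.to_le (by rw [hP₀]; exact inf_le_left)
  have hP₀c : IsCyclic P₀ := hcyc P₀ (by rw [hP₀]; exact inf_le_right) hP₀p
  have hσP₀ : ∀ v ∈ P₀, σ * v * σ⁻¹ ∈ P₀ := by
    intro v hv
    rw [hP₀] at hv ⊢
    exact mem_inf.2 ⟨mul_mem (mul_mem hσP (mem_inf.1 hv).1) (inv_mem hσP), hN.conj_mem _ (mem_inf.1 hv).2 σ⟩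
  have hu0 : u ∈ P₀ := by rw [hP₀]; exact ⟨huP, huN⟩
  -- `σ` acts on `P₀` as a power
  obtain ⟨⟨g₀, hg₀⟩, hgen⟩ := hP₀c.exists_generator
  have hgen' : ∀ v ∈ P₀, ∃ k : ℕ, g₀ ^ k = v := by
    intro v hv
    obtain ⟨k, hk⟩ := (mem_powers_iff_mem_zpowers.2 (hgen ⟨v, hv⟩))
    exact ⟨k, congrArg Subtype.val hk⟩
  obtain ⟨t, ht⟩ := hgen' _ (hσP₀ g₀ hg₀)
  have hact : ∀ v ∈ P₀, σ * v * σ⁻¹ = v ^ t := by
    intro v hv
    obtain ⟨k, rfl⟩ := hgen' v hv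
    rw [← conj_pow, ← ht, ← pow_mul, ← pow_mul, mul_comm]
  obtain ⟨k, hk⟩ := hP₀p ⟨u, hu0⟩
  have hk' : u ^ p ^ k = 1 := congrArg Subtype.val hk
  have hup : u ^ p = 1 := pow_eq_one hp2 (hact u hu0) hσ (by rw [huσ, hx'p]) hk'
  -- the commutator map
  have hcomm : ∀ v ∈ P₀, ∀ v' ∈ P₀, v * v' = v' * v := by
    intro v hv v' hv'
    obtain ⟨k, rfl⟩ := hgen' v hv
    obtain ⟨k', rfl⟩ := hgen' v' hv'
    rw [← pow_add, ← pow_add, add_comm]
  let D : ↥P₀ →* ↥P₀ :=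
    { toFun := fun v => ⟨v * (σ * (v : A)⁻¹ * σ⁻¹), mul_mem v.2 (hσP₀ _ (inv_mem v.2))⟩
      map_one' := Subtype.ext (by simp)
      map_mul' := fun v v' => Subtype.ext (by
        show (v : A) * v' * (σ * ((v : A) * v')⁻¹ * σ⁻¹) = v * (σ * (v : A)⁻¹ * σ⁻¹) * (v' * (σ * (v' : A)⁻¹ * σ⁻¹))
        have h2 := hcomm _ (mul_mem v'.2 (hσP₀ _ (inv_mem v'.2))) _ (hσP₀ _ (inv_mem v.2))
        calc (v : A) * v' * (σ * ((v : A) * v')⁻¹ * σ⁻¹) =
            v * ((v' * (σ * (v' : A)⁻¹ * σ⁻¹)) * (σ * (v : A)⁻¹ * σ⁻¹)) := by group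
          _ = v * ((σ * (v : A)⁻¹ * σ⁻¹) * (v' * (σ * (v' : A)⁻¹ * σ⁻¹))) := by rw [h2]
          _ = _ := by group) }
  have hDne : D.range ≠ ⊥ := by
    obtain ⟨v, hvP, hvN, hv⟩ := hnc P hσP
    intro hbot
    apply hv
    have h2 : D ⟨v, by rw [hP₀]; exact ⟨hvP, hvN⟩⟩ ∈ D.range := ⟨_, rfl⟩
    rw [hbot, mem_bot] at h2
    have h3 : v * (σ * v⁻¹ * σ⁻¹) = 1 := congrArg Subtype.val h2
    calc v * σ = v * (σ * v⁻¹ * σ⁻¹) * (σ * v) := by group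
      _ = σ * v := by rw [h3, one_mul]
  -- an element of order `p` in the range
  obtain ⟨z, hz, hzp⟩ : ∃ z ∈ D.range, orderOf z = p := by
    have h2 : IsPGroup p ↥D.range := hP₀p.to_subgroup _
    have h3 : p ∣ Nat.card ↥D.range := by
      obtain ⟨j, hj⟩ := IsPGroup.iff_card.1 h2
      rcases Nat.eq_zero_or_pos j with rfl | hj0
      · rw [pow_zero] at hj
        exact absurd (Subgroup.card_eq_one.1 hj) hDne
      · rw [hj]; exact dvd_pow_self p hj0.ne'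
    obtain ⟨z, hz⟩ := exists_prime_orderOf_dvd_card' p h3
    exact ⟨z, z.2, by rw [Subgroup.orderOf_coe, hz]⟩
  have huz : (⟨u, hu0⟩ : ↥P₀) ∈ zpowers z := by
    have h2 : Nat.card {v : ↥P₀ // v ^ p = 1} ≤ p := by
      have hF := Fintype.ofFinite ↥P₀
      have := IsCyclic.card_pow_eq_one_le (α := ↥P₀) (n := p) hp.out.pos
      rw [Nat.card_eq_fintype_card, Fintype.card_subtype]
      exact this
    have h3 : ∀ v ∈ zpowers z, v ^ p = 1 := by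
      rintro _ ⟨j, rfl⟩
      show (z ^ j) ^ p = 1
      rw [← zpow_natCast, ← zpow_mul, mul_comm, zpow_mul, zpow_natCast, ← hzp, pow_orderOf_eq_one, one_zpow]
    -- injection of `zpowers z` is onto
    let ι : ↥(zpowers z) → {v : ↥P₀ // v ^ p = 1} := fun v => ⟨v.1, h3 _ v.2⟩
    have hι : Function.Injective ι := by
      intro v v' h
      have h7 : (v : ↥P₀) = (v' : ↥P₀) := congrArg (fun w : {v : ↥P₀ // v ^ p = 1} => (w : ↥P₀)) h
      exact Subtype.ext h7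
    have hcard : Nat.card ↥(zpowers z) = p := by rw [Nat.card_zpowers, hzp]
    have h4 : Nat.card {v : ↥P₀ // v ^ p = 1} = Nat.card ↥(zpowers z) :=
      le_antisymm (by rw [hcard]; exact h2) (Nat.card_le_card_of_injective ι hι)
    have h5 : Function.Bijective ι := (Nat.bijective_iff_injective_and_card ι).2 ⟨hι, h4.symm⟩
    obtain ⟨v, hv⟩ := h5.2 ⟨⟨u, hu0⟩, Subtype.ext hup⟩
    have h6 : (v : ↥P₀) = ⟨u, hu0⟩ := congrArg Subtype.val hv
    rw [← h6]; exact v.2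
  obtain ⟨v, hv⟩ : (⟨u, hu0⟩ : ↥P₀) ∈ D.range := (zpowers_le.2 hz) huz
  have hv' : (v : A) * (σ * (v : A)⁻¹ * σ⁻¹) = u := congrArg Subtype.val hv
  have hvN : (v : A) ∈ N := (mem_inf.1 (hP₀.le v.2)).2
  refine ⟨n⁻¹ * v, mul_mem (inv_mem hn) hvN, ?_⟩
  have h2 : x' = v * σ * (v : A)⁻¹ := by rw [← huσ, ← hv']; group
  have h3 : x = n⁻¹ * x' * n := by rw [hx']; group
  rw [h3, h2]; group

end Cyc

end Cfsg.Agent.H521.AACyc
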