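import Cfsg.Agent.H521.AAOne
import Cfsg.Agent.H521.AACyc
import Cfsg.Agent.OddOrderCharacters.ClassSum

/-!
# Rank one groups: outer automorphisms of order `p ∣ Q + 1` are conjugate to a given one (helper521, S3833)
-/

set_option autoImplicit false

namespace Cfsg.Agent.H521.AAFld

open MulAction Subgroup Cfsg Cfsg.Agent.H459.Rad Cfsg.Agent.H460.AA Cfsg.Agent.H521.AAAvg Cfsg.Agent.H521.AAOne
open scoped Pointwise

variable {K : Type*} [Group K] {r : ℕ}

theorem conj_aut (σ : MulAut K) (k : K) : MulAut.conj (σ k) = σ * MulAut.conj k * σ⁻¹ := by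
  ext l
  simp

/-- a `p`-subgroup fixed elementwise by `σ` which acts freely on the Sylow `r`-subgroups -/
theorem card_dvd_fx [Finite K] [Fact r.Prime] {σ : MulAut K} {P : Subgroup K} (hP : ∀ k ∈ P, σ k = k)
    (hfree : ∀ k ∈ P, ∀ S : Sylow r K, k • S = S → k = 1) : Nat.card P ∣ fx r σ := by
  classical
  have := Fintype.ofFinite (Sylow r K)
  have := Fintype.ofFinite ↥P
  have h := OddOrderCharacters.ClassSum.card_dvd_of_free (H := P) (X := Sylow r K)
    (Finset.univ.filter fun S => σ • S = S) ?_ ?_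
  · have e : fx r σ = (Finset.univ.filter fun S : Sylow r K => σ • S = S).card := by
      rw [fx, Nat.card_eq_fintype_card, Fintype.card_subtype]
    rw [e]
    exact h
  · intro k S hS
    rw [Finset.mem_filter] at hS ⊢
    refine ⟨Finset.mem_univ _, ?_⟩
    show σ • ((k : K) • S) = (k : K) • S
    rw [aut_smul, hP k k.2, hS.2]
  · intro k S _ hk
    exact Subtype.ext (hfree k k.2 S hk)

theorem exists_conj [Finite K] [Fact r.Prime] (R : RO K r) (hc : Subgroup.center K = ⊥) {p : ℕ} [hp : Fact p.Prime]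
    (hp2 : p ≠ 2) {x σ : MulAut K} (hσ : σ ^ p = 1) (hx : x ^ p = 1) {g₀ : K} (h : x = MulAut.conj g₀ * σ)
    (hcyc : ∀ P : Sylow p K, IsCyclic (P : Subgroup K))
    (hN : ¬ p ∣ Nat.card (normalizer ((R.S : Subgroup K) : Set K))) {z : ℕ} (hfx : fx r σ = z + 1)
    (hQ : Nat.card (R.S : Subgroup K) = z ^ p) (hpQ : p ∣ Nat.card (R.S : Subgroup K) + 1) :
    ∃ g : K, x = MulAut.conj g * σ * (MulAut.conj g)⁻¹ := by
  classical
  have hinj : Function.Injective (MulAut.conj : K →* MulAut K) := conj_injective hc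
  have hodd : Odd p := hp.out.odd_of_ne_two hp2
  obtain ⟨I, hI⟩ : ∃ I : Subgroup (MulAut K), I = (MulAut.conj : K →* MulAut K).range := ⟨_, rfl⟩
  have hIn : I.Normal := by
    refine ⟨fun a ha b => ?_⟩
    rw [hI] at ha ⊢
    obtain ⟨k, rfl⟩ := ha
    exact ⟨b k, conj_aut b k⟩
  obtain ⟨A, hA⟩ : ∃ A : Subgroup (MulAut K), A = zpowers σ ⊔ I := ⟨_, rfl⟩
  have hIA : I ≤ A := by rw [hA]; exact le_sup_right
  have hσA : σ ∈ A := by rw [hA]; exact mem_sup_left (mem_zpowers σ)
  have hkI : ∀ k : K, MulAut.conj k ∈ I := fun k => by rw [hI]; exact ⟨k, rfl⟩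
  have hxA : x ∈ A := by rw [h]; exact mul_mem (hIA (hkI _)) hσA
  have hNn : (I.subgroupOf A).Normal := inferInstance
  -- the map `K → A`
  let ι : K →* ↥A := (MulAut.conj : K →* MulAut K).codRestrict A fun k => hIA (hkI k)
  have hι : Function.Injective ι := fun a b hab => hinj (congrArg Subtype.val hab)
  have hιN : ∀ a : ↥A, a ∈ I.subgroupOf A ↔ ∃ k, ι k = a := by
    intro a
    rw [mem_subgroupOf, hI]
    constructor
    · rintro ⟨k, hk⟩; exact ⟨k, Subtype.ext hk⟩
    · rintro ⟨k, rfl⟩; exact ⟨k, rfl⟩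
  have hfix : ∀ k : K, ι k * ⟨σ, hσA⟩ = ⟨σ, hσA⟩ * ι k → σ k = k := by
    intro k hk
    apply hinj
    rw [conj_aut]
    have h1 : MulAut.conj k * σ = σ * MulAut.conj k := congrArg Subtype.val hk
    rw [← h1, mul_inv_cancel_right]
  have hK : Nat.card K = (Nat.card (R.S : Subgroup K) + 1) * Nat.card (normalizer ((R.S : Subgroup K) : Set K)) := by
    have h9 := R.card_eq
    rw [Sylow.card_eq_index_normalizer R.S] at h9
    rw [← h9]
    exact (Subgroup.index_mul_card _).symm
  have main : ∃ g ∈ I.subgroupOf A, (⟨x, hxA⟩ : ↥A) = g * ⟨σ, hσA⟩ * g⁻¹ := by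
    refine AACyc.conj_of_cyclic (A := ↥A) (p := p) hp2 (N := I.subgroupOf A) hNn
      (σ := ⟨σ, hσA⟩) (x := ⟨x, hxA⟩) (Subtype.ext hσ) (Subtype.ext hx) ?_ ?_ ?_ ?_
    · rw [mem_subgroupOf]
      show x * σ⁻¹ ∈ I
      rw [h, mul_inv_cancel_right]
      exact hkI _
    · rintro ⟨a, ha⟩
      have ha' : a ∈ ((zpowers σ ⊔ I : Subgroup (MulAut K)) : Set (MulAut K)) := by rw [← hA]; exact ha
      rw [Subgroup.mul_normal] at ha'
      obtain ⟨s, hs, n, hn, rfl⟩ := ha'
      obtain ⟨j, rfl⟩ := hs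
      exact ⟨⟨σ, hσA⟩ ^ j, ⟨j, rfl⟩, ⟨n, hIA hn⟩, hn, rfl⟩
    · -- cyclic
      intro P hP hPp
      obtain ⟨P₁, hP₁⟩ : ∃ P₁ : Subgroup K, P₁ = P.comap ι := ⟨_, rfl⟩
      have h1 : IsPGroup p P₁ := by
        rw [hP₁]
        exact hPp.comap_of_injective ι hι
      obtain ⟨Q, hPQ⟩ := h1.exists_le_sylow
      have := hcyc Q
      have h2 : IsCyclic P₁ := isCyclic_of_injective (Subgroup.inclusion hPQ) (Subgroup.inclusion_injective hPQ)
      let f : ↥P₁ →* ↥P := (ι.comp P₁.subtype).codRestrict P fun k => by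
        have := k.2
        have h3 : (k : K) ∈ P.comap ι := hP₁.le this
        exact h3
      refine isCyclic_of_surjective f ?_
      rintro ⟨a, ha⟩
      obtain ⟨k, rfl⟩ := (hιN a).1 (hP ha)
      exact ⟨⟨k, by rw [hP₁]; exact ha⟩, rfl⟩
    · -- not centralised
      intro P hσP
      by_contra hcon
      push Not at hcon
      obtain ⟨P₂, hP₂⟩ : ∃ P₂ : Subgroup K, P₂ = (P : Subgroup ↥A).comap ι := ⟨_, rfl⟩
      have h1 : ∀ k ∈ P₂, σ k = k := by
        intro k hk
        rw [hP₂] at hk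
        exact hfix k (hcon _ hk ((hιN _).2 ⟨k, rfl⟩))
      have h2 : IsPGroup p P₂ := by
        rw [hP₂]
        exact P.isPGroup'.comap_of_injective ι hι
      have h3 : ∀ k ∈ P₂, ∀ S : Sylow r K, k • S = S → k = 1 := by
        intro k hk S hS
        obtain ⟨g, hg⟩ := MulAction.exists_smul_eq K S R.S
        have h4 : (g * k * g⁻¹) • R.S = R.S := by
          rw [← hg, mul_smul, mul_smul, inv_smul_smul, hS]
        have h5 := (smul_eq_self_iff _ _).1 h4
        obtain ⟨j, hj⟩ := IsPGroup.iff_orderOf.1 h2 ⟨k, hk⟩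
        rw [Subgroup.orderOf_mk] at hj
        have h6 : orderOf (g * k * g⁻¹) = p ^ j := by
          rw [← hj]; exact orderOf_injective (MulAut.conj g).toMonoidHom (MulAut.conj g).injective k
        have h7 : orderOf (g * k * g⁻¹) ∣ Nat.card (normalizer ((R.S : Subgroup K) : Set K)) := by
          have h8 := orderOf_dvd_natCard (⟨_, h5⟩ : normalizer ((R.S : Subgroup K) : Set K))
          rwa [Subgroup.orderOf_mk] at h8
        rcases Nat.eq_zero_or_pos j with rfl | hj0
        · rw [pow_zero] at hj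
          exact orderOf_eq_one_iff.1 hj
        · exact absurd ((dvd_pow_self p hj0.ne').trans (h6 ▸ h7)) hN
      have h4 : Nat.card P₂ ∣ z + 1 := by rw [← hfx]; exact card_dvd_fx h1 h3
      -- `P₂` is a Sylow subgroup
      have h5 : ∀ j : ℕ, p ^ j ∣ Nat.card K → p ^ j ∣ Nat.card P₂ := by
        intro j hj
        have h6 := CharactersDeep.QuatSylow.not_dvd_relIndex_of_normal P (I.subgroupOf A)
        have h7 : Nat.card K = Nat.card ↥(I.subgroupOf A) := by
          refine Nat.card_congr (Equiv.ofBijective (fun k : K => (⟨ι k, (hιN _).2 ⟨k, rfl⟩⟩ : ↥(I.subgroupOf A))) ⟨?_, ?_⟩)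
          · intro a b hab
            exact hι (congrArg Subtype.val hab)
          · rintro ⟨a, ha⟩
            obtain ⟨k, rfl⟩ := (hιN a).1 ha
            exact ⟨k, rfl⟩
        have h8 : Nat.card P₂ * (P : Subgroup ↥A).relIndex (I.subgroupOf A) = Nat.card K := by
          rw [h7, ← Subgroup.inf_relIndex_right, ← Subgroup.card_mul_index ((P : Subgroup ↥A).subgroupOf (I.subgroupOf A))]
          rw [Subgroup.relIndex, Subgroup.inf_subgroupOf_right]
          congr 1
          refine Nat.card_congr (Equiv.ofBijective (fun k : ↥P₂ =>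
            (⟨⟨ι k, (hιN _).2 ⟨k, rfl⟩⟩, ?_⟩ : ↥((P : Subgroup ↥A).subgroupOf (I.subgroupOf A)))) ⟨?_, ?_⟩)
          · rw [mem_subgroupOf]
            have h9 : (k : K) ∈ (P : Subgroup ↥A).comap ι := hP₂.le k.2
            exact h9
          · intro a b hab
            have h9 : ι a = ι b := congrArg (fun w : ↥((P : Subgroup ↥A).subgroupOf (I.subgroupOf A)) => (w : ↥(I.subgroupOf A)).1) hab
            exact Subtype.ext (hι h9)
          · rintro ⟨⟨a, ha⟩, ha'⟩
            obtain ⟨k, rfl⟩ := (hιN a).1 ha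
            exact ⟨⟨k, by rw [hP₂]; exact ha'⟩, rfl⟩
        rw [← h8] at hj
        exact Nat.Coprime.dvd_of_dvd_mul_right (Nat.Coprime.pow_left j ((Nat.Prime.coprime_iff_not_dvd hp.out).2 h6)) hj
      have hz : p ∣ z + 1 := by
        rw [hQ] at hpQ
        have h6 : (z : ZMod p) ^ p = z := ZMod.pow_card _
        have h7 : ((z ^ p + 1 : ℕ) : ZMod p) = 0 := (ZMod.natCast_eq_zero_iff _ _).2 hpQ
        rw [← ZMod.natCast_eq_zero_iff]
        push_cast at h7 ⊢
        rw [h6] at h7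
        exact h7
      have h6 : ∀ j : ℕ, p ^ j ∣ z + 1 := by
        intro j
        induction j with
        | zero => simp
        | succ j ih =>
          refine dvd_trans (h5 (j + 1) ?_) h4
          rw [hK, hQ]
          refine Dvd.dvd.mul_right ?_ _
          refine dvd_trans ?_ (AACyc.mul_dvd hodd hz)
          rw [pow_succ]
          exact mul_dvd_mul_right ih p
      have h7 := Nat.le_of_dvd (Nat.succ_pos z) (h6 (z + 1))
      exact absurd (lt_of_lt_of_le (Nat.lt_pow_self hp.out.one_lt) h7) (lt_irrefl _)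
  obtain ⟨g, hg, he⟩ := main
  obtain ⟨k, rfl⟩ := (hιN g).1 hg
  exact ⟨k, congrArg Subtype.val he⟩

end Cfsg.Agent.H521.AAFld
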