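import Cfsg.Agent.H521.CoxTwo
import Cfsg.Agent.Nodes.TypeD
import Cfsg.Agent.Tits.Generic

/-!
For the types `D₄`, `E₆`, `F₄` and a symmetry `σ` of the diagram with `σ ^ 3 = 1` there is a word `ω`, representing
`w`, such that the `σ`-closed support of `w` is everything, `w ≠ 1` and `ℓ(w σ(w)) = 2 ℓ(w)` (`exists_good`).
-/

set_option autoImplicit false

namespace Cfsg.Agent.H521.CoxThree

open CoxeterSystem Cfsg.Agent.ChevalleyStructure.CoxeterGeom Cfsg.Agent.ChevalleyStructure.CoxeterWordCheck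
  Cfsg.Agent.H521.CoxTwo Cfsg.Agent.ChevalleyStructure.CoxeterGeomTypes

universe u

/-- The word `ω` has `σ`-closed support everything, it does not represent `1`, and `ℓ(w σ(w)) = 2 ℓ(w)`. -/
structure Good {I : Type} (M : CoxeterMatrix I) (σ : Equiv.Perm I) (ω : List I) : Prop where
  supp : ∀ J : Set I, (∀ i ∈ ω, i ∈ J) → (∀ i ∈ J, σ i ∈ J) → J = Set.univ
  ne : ∀ {W : Type u} [Group W] (cs : CoxeterSystem M W), cs.wordProd ω ≠ 1
  len : ∀ {W : Type u} [Group W] (cs : CoxeterSystem M W),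
    cs.length (cs.wordProd ω * cs.wordProd (ω.map σ)) = 2 * cs.length (cs.wordProd ω)
  red : ∀ {W : Type u} [Group W] (cs : CoxeterSystem M W), cs.length (cs.wordProd ω) = ω.length

theorem good_of_check {n : ℕ} {M : CoxeterMatrix (Fin n)} {A : Fin n → Fin n → ℤ} (h : IsCartan M A)
    {σ : Equiv.Perm (Fin n)} {ω : List (Fin n)} (h0 : ω ≠ [])
    (hs : ∀ J : Set (Fin n), (∀ i ∈ ω, i ∈ J) → (∀ i ∈ J, σ i ∈ J) → J = Set.univ)
    (hc : redCheck n (rows A) [] ((ω ++ ω.map σ).map (·.val)) = true) : Good.{u} M σ ω where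
  supp := hs
  ne cs := by
    have h1 := length_two cs h ω (ω.map σ) (List.length_map _) hc
    exact ne_one_of_length cs ω h1.2 h0
  len cs := (length_two cs h ω (ω.map σ) (List.length_map _) hc).1
  red cs := (length_two cs h ω (ω.map σ) (List.length_map _) hc).2

theorem supp_of_forall {n : ℕ} {σ : Equiv.Perm (Fin n)} {ω : List (Fin n)} (h : ∀ i, i ∈ ω) (J : Set (Fin n))
    (hJ : ∀ i ∈ ω, i ∈ J) (_ : ∀ i ∈ J, σ i ∈ J) : J = Set.univ :=
  Set.eq_univ_of_forall fun i => hJ i (h i)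

/-- A symmetry of the Coxeter matrix. -/
def Sym {I : Type*} (M : CoxeterMatrix I) (σ : Equiv.Perm I) : Prop := ∀ i j, M (σ i) (σ j) = M i j

theorem sym_of_map {I W : Type*} [Finite I] [Group W] [Finite W] {M : CoxeterMatrix I} (cs : CoxeterSystem M W)
    (φ : W ≃* W) {σ : Equiv.Perm I} (h : ∀ i, φ (cs.simple i) = cs.simple (σ i)) : Sym M σ := by
  intro i j
  rw [← Tits.Generic.orderOf_eq cs, ← Tits.Generic.orderOf_eq cs, ← h, ← h, ← map_mul]
  exact MulEquiv.orderOf_eq φ _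

/-! ### Type `D₄` -/

theorem perm_four : ∀ σ : Equiv.Perm (Fin 4), σ ^ 3 = 1 →
    σ = 1 ∨ (σ 1 = 1 ∧ σ 0 ≠ 0 ∧ σ 0 ≠ 1 ∧ ∀ k, k = 0 ∨ k = 1 ∨ k = σ 0 ∨ k = σ (σ 0)) ∨ σ 1 ≠ 1 := by
  decide +kernel

set_option backward.isDefEq.respectTransparency false in
theorem centre_D4 : ∀ i : Fin 4, (∀ j, j ≠ i → Cfsg.Lie.coxeterD4 i j = 3) → i = 1 := by decide +kernel

set_option backward.isDefEq.respectTransparency false in
theorem centre_D4' : ∀ j : Fin 4, j ≠ 1 → Cfsg.Lie.coxeterD4 1 j = 3 := by decide +kernel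

theorem exists_good_D4 {σ : Equiv.Perm (Fin 4)} (h3 : σ ^ 3 = 1) (hσ : Sym Cfsg.Lie.coxeterD4 σ) :
    ∃ ω, Good.{u} Cfsg.Lie.coxeterD4 σ ω := by
  rcases perm_four σ h3 with rfl | ⟨h1, h2, h4, h5⟩ | h1
  · exact ⟨wordD4, good_of_check isCartan_D4 (by decide) (supp_of_forall mem_wordD4) (by decide +kernel)⟩
  · refine ⟨[1, 0], good_of_check isCartan_D4 (by decide) ?_ ?_⟩
    · intro J hJ hJσ
      refine Set.eq_univ_of_forall fun k => ?_
      have a0 : (0 : Fin 4) ∈ J := hJ 0 (by simp)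
      have a1 : (1 : Fin 4) ∈ J := hJ 1 (by simp)
      rcases h5 k with rfl | rfl | rfl | rfl
      · exact a0
      · exact a1
      · exact hJσ _ a0
      · exact hJσ _ (hJσ _ a0)
    · have key : ∀ j : Fin 4, j ≠ 0 → j ≠ 1 → redCheck 4 (rows (cartanOf Cfsg.Lie.chevD4 4)) []
          ((([1, 0] : List (Fin 4)) ++ [1, j]).map (·.val)) = true := by
        decide +kernel
      have h6 : ([1, 0] : List (Fin 4)).map σ = [1, σ 0] := by
        rw [List.map_cons, List.map_cons, List.map_nil, h1]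
      rw [h6]
      exact key _ h2 h4
  · exfalso
    refine h1 (centre_D4 _ fun j hj => ?_)
    obtain ⟨k, rfl⟩ := σ.surjective j
    rw [hσ]
    exact centre_D4' k fun hk => hj (by rw [hk])

theorem M_two : Nodes.TypeD.M 2 = Cfsg.Lie.coxeterD4 := by
  have key : ∀ i j : Fin 4, Nodes.TypeD.M 2 i j = Cfsg.Lie.coxeterD4 i j := by
    set_option backward.isDefEq.respectTransparency false in
    decide +kernel
  exact CoxeterMatrix.ext (Matrix.ext key)

/-! ### Type `F₄` -/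

set_option backward.isDefEq.respectTransparency false in
theorem perm_F4' : ∀ σ : Equiv.Perm (Fin 4), σ ^ 3 = 1 →
    (∀ i j, CoxeterMatrix.F₄ (σ i) (σ j) = CoxeterMatrix.F₄ i j) → σ = 1 := by
  decide +kernel

theorem exists_good_F4 {σ : Equiv.Perm (Fin 4)} (h3 : σ ^ 3 = 1) (hσ : Sym CoxeterMatrix.F₄ σ) :
    ∃ ω, Good.{u} CoxeterMatrix.F₄ σ ω := by
  obtain rfl := perm_F4' σ h3 hσ
  exact ⟨wordF4, good_of_check isCartan_F4 (by decide) (supp_of_forall mem_wordF4) (by decide +kernel)⟩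

/-! ### Type `E₆` -/

set_option backward.isDefEq.respectTransparency false in
theorem perm_E6 : ∀ σ : Equiv.Perm (Fin 6), σ ^ 3 = 1 →
    (∀ i j, CoxeterMatrix.E₆ (σ i) (σ j) = CoxeterMatrix.E₆ i j) → σ = 1 := by
  decide +kernel

theorem exists_good_E6 {σ : Equiv.Perm (Fin 6)} (h3 : σ ^ 3 = 1) (hσ : Sym CoxeterMatrix.E₆ σ) :
    ∃ ω, Good.{u} CoxeterMatrix.E₆ σ ω := by
  obtain rfl := perm_E6 σ h3 hσ
  exact ⟨wordE6, good_of_check isCartan_E6 (by decide) (supp_of_forall mem_wordE6) (by decide +kernel)⟩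

end Cfsg.Agent.H521.CoxThree
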