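import Cfsg.Agent.ChevalleyStructure.CoxeterWordCheck
import Cfsg.Agent.ChevalleyStructure.CoxeterGeomTypes
import Cfsg.Agent.ChevalleyStructure.CoxeterF4E6

/-!
A kernel-friendly check that a word in a crystallographic Coxeter group is reduced, and some elements `w` with
`ℓ(w φ(w)) = 2 ℓ(w)`, every node occurring in `w` or its images:

* `length_of_check`, `isReduced_of_check` : the check;
* `length_D4` : type `D₄`, `φ` a symmetry of order three;
* `length_E6`, `length_F4`, `length_D4_sq`, `length_E7`, `length_E8` : `w` a bipartite Coxeter element, `φ = 1`;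

-/

set_option autoImplicit false

namespace Cfsg.Agent.H521.CoxTwo

open CoxeterSystem Cfsg.Agent.ChevalleyStructure.CoxeterGeom Cfsg.Agent.ChevalleyStructure.CoxeterWordCheck

section Check

variable {n : ℕ} {W : Type*} [Group W] {M : CoxeterMatrix (Fin n)} (cs : CoxeterSystem M W)
  {A : Fin n → Fin n → ℤ} (h : IsCartan M A)

/-- All entries are non-negative. -/
def nonnegList (l : List ℤ) : Bool := l.all fun x => decide (0 ≤ x)

/-- The check that `pre ++ rest` prolongs `pre` by descending: each next simple root is sent to a positive root. -/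
def redCheck (n : ℕ) (A : List (List ℤ)) : List ℕ → List ℕ → Bool
  | _, [] => true
  | pre, i :: rest => nonnegList (actList A pre (unit n i)) && redCheck n A (pre ++ [i]) rest

include h in
theorem lt_of_nonnegList (ω : List (Fin n)) (i : Fin n)
    (hc : nonnegList (actList (rows A) (ω.map (·.val)) (unit n i)) = true) :
    cs.length (cs.wordProd ω) < cs.length (cs.wordProd ω * cs.simple i) := by
  rw [lt_iff' cs h]
  rw [← ofFn_single, actList_ofFn cs h, nonnegList, List.all_eq_true] at hc
  intro k
  have h1 := hc (rep cs h (cs.wordProd ω) (Pi.single i 1) k) (by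
    rw [List.mem_ofFn]; exact ⟨k, rfl⟩)
  exact of_decide_eq_true h1

include h in
theorem length_of_check' (rest : List (Fin n)) : ∀ pre : List (Fin n),
    redCheck n (rows A) (pre.map (·.val)) (rest.map (·.val)) = true →
    cs.length (cs.wordProd (pre ++ rest)) = cs.length (cs.wordProd pre) + rest.length := by
  induction rest with
  | nil => intro pre _; simp
  | cons i rest ih =>
    intro pre hc
    rw [List.map_cons, redCheck, Bool.and_eq_true] at hc
    have h1 := lt_of_nonnegList cs h pre i hc.1
    have h2 := ih (pre ++ [i]) (by rw [List.map_append]; exact hc.2)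
    have h3 := cs.length_mul_simple (cs.wordProd pre) i
    have h4 : cs.wordProd (pre ++ [i]) = cs.wordProd pre * cs.simple i := by
      rw [wordProd_append, wordProd_singleton]
    rw [List.append_assoc, List.singleton_append] at h2
    rw [h2, h4, List.length_cons]
    omega

include h in
/-- A word passing the check is reduced. -/
theorem length_of_check (ω : List (Fin n)) (hc : redCheck n (rows A) [] (ω.map (·.val)) = true) :
    cs.length (cs.wordProd ω) = ω.length := by
  have := length_of_check' cs h ω [] (by simpa using hc)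
  simpa using this

include h in
theorem isReduced_of_check (ω : List (Fin n)) (hc : redCheck n (rows A) [] (ω.map (·.val)) = true) :
    cs.IsReduced ω :=
  length_of_check cs h ω hc

include h in
/-- If `ω ++ ω'` passes the check, `ℓ(w w') = ℓ(w) + ℓ(w')`; here `ω'` is a word as long as `ω`. -/
theorem length_two (ω ω' : List (Fin n)) (hl : ω'.length = ω.length)
    (hc : redCheck n (rows A) [] ((ω ++ ω').map (·.val)) = true) :
    cs.length (cs.wordProd ω * cs.wordProd ω') = 2 * cs.length (cs.wordProd ω) ∧
      cs.length (cs.wordProd ω) = ω.length := by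
  have h1 := length_of_check cs h (ω ++ ω') hc
  rw [wordProd_append, List.length_append, hl] at h1
  have h2 := cs.length_wordProd_le ω
  have h3 := cs.length_wordProd_le ω'
  have h4 := cs.length_mul_le (cs.wordProd ω) (cs.wordProd ω')
  rw [hl] at h3
  constructor <;> omega

theorem ne_one_of_length (ω : List (Fin n)) (hl : cs.length (cs.wordProd ω) = ω.length) (h0 : ω ≠ []) :
    cs.wordProd ω ≠ 1 := by
  intro h1
  rw [h1, cs.length_one] at hl
  exact h0 (List.length_eq_zero_iff.1 hl.symm)

end Check

section Types

variable {W : Type*} [Group W]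

open Cfsg.Agent.ChevalleyStructure.CoxeterGeomTypes

/-- Type `D₄` (centre `1`), `φ : 0 ↦ 2 ↦ 3 ↦ 0`: the element `w = s₁ s₀` with `φ(w) = s₁ s₂`. -/
theorem length_D4 (cs : CoxeterSystem Cfsg.Lie.coxeterD4 W) (i j : Fin 4) (hi : i ≠ 1) (hj : j ≠ 1) (hij : i ≠ j) :
    cs.length (cs.simple 1 * cs.simple i * (cs.simple 1 * cs.simple j)) =
      2 * cs.length (cs.simple 1 * cs.simple i) ∧ cs.length (cs.simple 1 * cs.simple i) = 2 := by
  have key : ∀ i j : Fin 4, i ≠ 1 → j ≠ 1 → i ≠ j →
      redCheck 4 (rows (cartanOf Cfsg.Lie.chevD4 4)) [] ((([1, i] : List (Fin 4)) ++ [1, j]).map (·.val)) = true := by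
    decide +kernel
  have h1 := length_two cs isCartan_D4 [1, i] [1, j] rfl (key i j hi hj hij)
  simpa [wordProd_cons] using h1

/-- A bipartite Coxeter element of type `D₄`. -/
def wordD4 : List (Fin 4) := [1, 0, 2, 3]

/-- A bipartite Coxeter element of type `E₆`, stable under the symmetry of the diagram. -/
def wordE6 : List (Fin 6) := [0, 3, 5, 1, 2, 4]

/-- A bipartite Coxeter element of type `E₇`. -/
def wordE7 : List (Fin 7) := [0, 3, 5, 1, 2, 4, 6]

/-- A bipartite Coxeter element of type `E₈`. -/
def wordE8 : List (Fin 8) := [0, 3, 5, 7, 1, 2, 4, 6]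

/-- A bipartite Coxeter element of type `F₄`. -/
def wordF4 : List (Fin 4) := [0, 2, 1, 3]

theorem mem_wordD4 (i : Fin 4) : i ∈ wordD4 := by revert i; decide
theorem mem_wordE6 (i : Fin 6) : i ∈ wordE6 := by revert i; decide
theorem mem_wordE7 (i : Fin 7) : i ∈ wordE7 := by revert i; decide
theorem mem_wordE8 (i : Fin 8) : i ∈ wordE8 := by revert i; decide
theorem mem_wordF4 (i : Fin 4) : i ∈ wordF4 := by revert i; decide

theorem length_D4_sq (cs : CoxeterSystem Cfsg.Lie.coxeterD4 W) :
    cs.length (cs.wordProd wordD4 * cs.wordProd wordD4) = 2 * cs.length (cs.wordProd wordD4) ∧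
      cs.length (cs.wordProd wordD4) = wordD4.length :=
  length_two cs isCartan_D4 wordD4 wordD4 rfl (by decide +kernel)

theorem length_E6 (cs : CoxeterSystem CoxeterMatrix.E₆ W) :
    cs.length (cs.wordProd wordE6 * cs.wordProd wordE6) = 2 * cs.length (cs.wordProd wordE6) ∧
      cs.length (cs.wordProd wordE6) = wordE6.length :=
  length_two cs isCartan_E6 wordE6 wordE6 rfl (by decide +kernel)

theorem length_E7 (cs : CoxeterSystem CoxeterMatrix.E₇ W) :
    cs.length (cs.wordProd wordE7 * cs.wordProd wordE7) = 2 * cs.length (cs.wordProd wordE7) ∧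
      cs.length (cs.wordProd wordE7) = wordE7.length :=
  length_two cs isCartan_E7 wordE7 wordE7 rfl (by decide +kernel)

theorem length_E8 (cs : CoxeterSystem CoxeterMatrix.E₈ W) :
    cs.length (cs.wordProd wordE8 * cs.wordProd wordE8) = 2 * cs.length (cs.wordProd wordE8) ∧
      cs.length (cs.wordProd wordE8) = wordE8.length :=
  length_two cs isCartan_E8 wordE8 wordE8 rfl (by decide +kernel)

theorem length_F4 (cs : CoxeterSystem CoxeterMatrix.F₄ W) :
    cs.length (cs.wordProd wordF4 * cs.wordProd wordF4) = 2 * cs.length (cs.wordProd wordF4) ∧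
      cs.length (cs.wordProd wordF4) = wordF4.length :=
  length_two cs isCartan_F4 wordF4 wordF4 rfl (by decide +kernel)

end Types

end Cfsg.Agent.H521.CoxTwo
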