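import Mathlib
import Cfsg.Prelude.Def_Solvable
import Cfsg.Agent.S0035
import Cfsg.Agent.S0039
import Cfsg.Agent.S0690
import Cfsg.Agent.Solvable.FpfPGroup
import Cfsg.Agent.Solvable.UniqueOrderP
import Cfsg.Agent.TwoFusion.PerfCore

/-!
# Frobenius complements: Sylow subgroups, solvability

* `sylow_cyclic_or_quaternion`: the `p`-subgroups of a Frobenius complement are cyclic or generalized
  quaternion.
* `isSolvable_of_no_sl`: a Frobenius complement without a subgroup `SL(2,5)` is solvable.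
-/

set_option autoImplicit false

namespace Cfsg.Agent.H521.FrobComp

open Subgroup
open scoped commutatorElement

variable {F : Type*} [Group F] [Finite F]

/-- The kernel of a Frobenius group. -/
theorem exists_kernel (C : Subgroup F) (hC : Cfsg.IsFrobeniusComplement C) :
    ∃ K : Subgroup F, K.Normal ∧ K.IsComplement' C ∧ K ≠ ⊥ ∧
      ∀ c ∈ C, c ≠ 1 → K ⊓ centralizer {c} = ⊥ := by
  obtain ⟨K, -, hK, hc⟩ := Cfsg.Agent.S0035.result C hC
  have hKb : K ≠ ⊥ := by
    rintro rfl
    apply hC.2.1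
    have h1 := hc.sup_eq_top
    rwa [bot_sup_eq] at h1
  exact ⟨K, hK, hc, hKb, (Cfsg.Agent.S0039.result K C hc hKb hC.1).mp hC⟩

/-- The `p`-subgroups of a Frobenius complement are cyclic or generalized quaternion. -/
theorem sylow_cyclic_or_quaternion (C : Subgroup F) (hC : Cfsg.IsFrobeniusComplement C) {p : ℕ}
    (hp : p.Prime) {P : Type*} [Group P] [Finite P] (hP : IsPGroup p P) (f : P →* F)
    (hf : Function.Injective f) (hfC : ∀ x, f x ∈ C) :
    IsCyclic P ∨ (p = 2 ∧ ∃ m : ℕ, m ≠ 0 ∧ Nonempty (P ≃* QuaternionGroup (2 ^ m))) := by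
  have : Fact p.Prime := ⟨hp⟩
  obtain ⟨K, hK, hc, hKb, hfpf⟩ := exists_kernel C hC
  apply Cfsg.Agent.Solvable.UniqueOrderP.cyclic_or_quaternion hP
  apply Cfsg.Agent.Solvable.UniqueOrderP.uniqueP_of_subgroup
  intro L₁ L₂ h₁ h₂
  exact Cfsg.Agent.Solvable.FpfPGroup.unique_subgroup_of_fpf C K hKb le_normalizer_of_normal hfpf hp
    hP f hf hfC L₁ L₂ h₁ h₂

/-- A Frobenius complement without a subgroup `SL(2,5)` is solvable. -/
theorem isSolvable_of_no_sl (C : Subgroup F) (hC : Cfsg.IsFrobeniusComplement C)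
    (hno : ∀ K : Subgroup F, K ≤ C → ¬ Nonempty (K ≃* Matrix.SpecialLinearGroup (Fin 2) (ZMod 5))) :
    Group.IsSolvable C := by
  classical
  obtain ⟨K, hK, hc, hKb, hfpf⟩ := exists_kernel C hC
  apply Cfsg.Agent.TwoFusion.PerfCore.solvable_of_perf_eq_bot
  by_contra hne
  set R := Cfsg.Agent.TwoFusion.PerfCore.perf C with hR
  have hRC : R ≤ C := Cfsg.Agent.TwoFusion.PerfCore.perf_le C
  have hRR : ⁅R, R⁆ = R := Cfsg.Agent.TwoFusion.PerfCore.perf_perfect C
  let φ : F →* MulAut K := MulAut.conjNormal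
  have hφ : ∀ (h : F) (x : K), ((φ h x : K) : F) = h * x * h⁻¹ := fun h x => MulAut.conjNormal_apply h x
  have hinj : ∀ c ∈ C, φ c = 1 → c = 1 := by
    intro c hcC h1
    by_contra hc1
    apply hKb
    rw [eq_bot_iff, ← hfpf c hcC hc1]
    refine le_inf le_rfl ?_
    intro x hx
    rw [mem_centralizer_singleton_iff]
    have h2 := congrArg (fun f : MulAut K => ((f ⟨x, hx⟩ : K) : F)) h1
    change ((φ c ⟨x, hx⟩ : K) : F) = x at h2
    rw [hφ] at h2
    first
      | exact mul_inv_eq_iff_eq_mul.mp h2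
      | exact (mul_inv_eq_iff_eq_mul.mp h2).symm
  set G' : Subgroup (MulAut K) := R.map φ with hG'
  have hcomm : commutator G' = ⊤ := by
    apply Subgroup.map_injective G'.subtype_injective
    rw [Subgroup.map_subtype_commutator, ← MonoidHom.range_eq_map, Subgroup.range_subtype]
    exact Cfsg.Agent.TwoFusion.PerfCore.map_perfect hRR φ
  obtain ⟨e⟩ := Cfsg.Agent.S0690.result G' (by
    rintro _ ⟨r, hr, rfl⟩ hr1 k hk
    have hr1' : r ≠ 1 := by
      rintro rfl
      exact hr1 (map_one φ)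
    have h2 : (k : F) ∈ K ⊓ centralizer {r} := by
      refine ⟨k.2, ?_⟩
      change (k : F) ∈ centralizer {r}
      rw [mem_centralizer_singleton_iff]
      have h3 := congrArg Subtype.val hk
      rw [hφ] at h3
      first
        | exact mul_inv_eq_iff_eq_mul.mp h3
        | exact (mul_inv_eq_iff_eq_mul.mp h3).symm
    rw [hfpf r (hRC hr) hr1', mem_bot] at h2
    exact Subtype.ext h2) hcomm (by
    intro h1
    rw [hG', Subgroup.map_eq_bot_iff] at h1
    apply hne
    rw [eq_bot_iff]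
    intro r hr
    rw [mem_bot]
    exact hinj r (hRC hr) (h1 hr))
  -- `R ≃ G'`
  let f : R →* G' := (φ.comp R.subtype).codRestrict G' (fun r => ⟨r, r.2, rfl⟩)
  have hf : Function.Bijective f := by
    constructor
    · rw [injective_iff_map_eq_one]
      intro r hr
      exact Subtype.ext (hinj r (hRC r.2) (congrArg Subtype.val hr))
    · rintro ⟨_, r, hr, rfl⟩
      exact ⟨⟨r, hr⟩, rfl⟩
  exact hno R hRC ⟨(MulEquiv.ofBijective f hf).trans e⟩

end Cfsg.Agent.H521.FrobComp
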