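import Mathlib
import Cfsg.Agent.S0023
import Cfsg.Agent.S0029
import Cfsg.Agent.Lib.FrattiniBasic
import Cfsg.Agent.TwoFusion.PerfCore
import Cfsg.Agent.H521.ZCoprime

/-!
# Perfect groups acting coprimely on groups with cyclic or quaternion Sylow subgroups
-/

set_option autoImplicit false

namespace Cfsg.Agent.H521.PerfAct

open Subgroup
open scoped commutatorElement

/-- The Frattini quotient of a generalized quaternion `2`-group has at most four elements. -/
theorem card_quotient_frattini_le {P : Type*} [Group P] [Finite P] {m : ℕ}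
    (e : P ≃* QuaternionGroup (2 ^ m)) (h2 : IsPGroup 2 P) : Nat.card (P ⧸ frattini P) ≤ 4 := by
  classical
  have : Fact (Nat.Prime 2) := ⟨Nat.prime_two⟩
  set a : P := e.symm (QuaternionGroup.a 1) with ha
  set x : P := e.symm (QuaternionGroup.xa 0) with hx
  have hsq : ∀ g : P, g ^ 2 ∈ frattini P := by
    intro g
    rw [frattini, Order.radical]
    simp only [mem_iInf]
    intro M hM
    exact Cfsg.Agent.Lib.FrattiniBasic.pow_mem_of_isCoatom h2 hM g
  have hpow : ∀ k : ℕ, ∃ b : Bool, ((a ^ k : P) : P ⧸ frattini P) = ((a ^ b.toNat : P) : P ⧸ frattini P) := by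
    intro k
    rcases Nat.even_or_odd' k with ⟨l, hl | hl⟩
    · refine ⟨false, ?_⟩
      rw [QuotientGroup.eq]
      have h1 : (a ^ k)⁻¹ * a ^ false.toNat = ((a ^ l) ^ 2)⁻¹ := by
        rw [hl, mul_comm 2 l, pow_mul]; simp
      rw [h1]
      exact inv_mem (hsq _)
    · refine ⟨true, ?_⟩
      rw [QuotientGroup.eq]
      have h1 : (a ^ k)⁻¹ * a ^ true.toNat = ((a ^ l) ^ 2)⁻¹ := by
        rw [hl, mul_comm 2 l, pow_succ', pow_mul]; simp
      rw [h1]
      exact inv_mem (hsq _)
  let f : Bool × Bool → P ⧸ frattini P := fun ij =>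
    ((x ^ ij.1.toNat * a ^ ij.2.toNat : P) : P ⧸ frattini P)
  have hf : Function.Surjective f := by
    intro v
    obtain ⟨g, rfl⟩ := QuotientGroup.mk_surjective v
    obtain ⟨q, rfl⟩ := e.symm.surjective g
    have hne : NeZero (2 * 2 ^ m) := ⟨by positivity⟩
    rcases q with i | i
    · obtain ⟨b, hb⟩ := hpow i.val
      refine ⟨(false, b), ?_⟩
      have h1 : e.symm (QuaternionGroup.a i) = a ^ i.val := by
        rw [ha, ← map_pow, QuaternionGroup.a_one_pow, ZMod.natCast_zmod_val]
      rw [h1, hb]
      simp [f]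
    · obtain ⟨b, hb⟩ := hpow i.val
      refine ⟨(true, b), ?_⟩
      have h1 : e.symm (QuaternionGroup.xa i) = x * a ^ i.val := by
        rw [ha, hx, ← map_pow, ← map_mul, QuaternionGroup.a_one_pow, ZMod.natCast_zmod_val,
          QuaternionGroup.xa_mul_a, zero_add]
      rw [h1, QuotientGroup.mk_mul, hb]
      simp [f]
  calc Nat.card (P ⧸ frattini P) ≤ Nat.card (Bool × Bool) := Nat.card_le_card_of_surjective f hf
    _ = 4 := by simp

/-- A perfect group of odd order normalizing a generalized quaternion `2`-group centralizes it. -/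
theorem le_centralizer_of_quaternion {G : Type*} [Group G] [Finite G] {R P : Subgroup G}
    (hR : ⁅R, R⁆ = R) (hodd : Odd (Nat.card R)) (hRP : R ≤ normalizer (P : Set G)) {m : ℕ}
    (e : P ≃* QuaternionGroup (2 ^ m)) (h2 : IsPGroup 2 P) : R ≤ centralizer (P : Set G) := by
  classical
  have : Fact (Nat.Prime 2) := ⟨Nat.prime_two⟩
  -- the action on the Frattini quotient
  let φ : R →* MulAut P := (normalizerMonoidHom P).comp (inclusion hRP)
  have hφ : ∀ (h : R) (x : P), ((φ h x : P) : G) = h * x * (h : G)⁻¹ := fun h x => rfl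
  have hmap : ∀ h : R, (frattini P).map (φ h : P →* P) = frattini P := by
    intro h
    exact characteristic_iff_map_eq.mp (inferInstance : (frattini P).Characteristic) (φ h)
  let ψ : R →* Equiv.Perm (P ⧸ frattini P) :=
    { toFun := fun h => (QuotientGroup.congr _ _ (φ h) (hmap h)).toEquiv
      map_one' := by
        ext x
        obtain ⟨x, rfl⟩ := QuotientGroup.mk_surjective x
        change QuotientGroup.congr _ _ (φ 1) (hmap 1) _ = _
        rw [QuotientGroup.congr_mk]
        simp
      map_mul' := by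
        intro a b
        ext x
        obtain ⟨x, rfl⟩ := QuotientGroup.mk_surjective x
        change QuotientGroup.congr _ _ (φ (a * b)) (hmap (a * b)) (x : P ⧸ frattini P) =
          QuotientGroup.congr _ _ (φ a) (hmap a)
            (QuotientGroup.congr _ _ (φ b) (hmap b) (x : P ⧸ frattini P))
        rw [QuotientGroup.congr_mk, QuotientGroup.congr_mk, QuotientGroup.congr_mk,
          map_mul]
        rfl }
  -- its image is trivial
  have hcard : Nat.card ψ.range ∣ 3 := by
    have h3 : Nat.card ψ.range ∣ 24 := by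
      have h4 : Nat.card ψ.range ∣ Nat.card (Equiv.Perm (P ⧸ frattini P)) := card_subgroup_dvd_card _
      rw [Nat.card_perm] at h4
      apply h4.trans
      have h5 := Nat.factorial_dvd_factorial (card_quotient_frattini_le e h2)
      exact h5
    have h5 : Nat.Coprime (Nat.card ψ.range) (2 ^ 3) := by
      apply Nat.Coprime.pow_right
      rw [Nat.coprime_two_right]
      exact hodd.of_dvd_nat (card_range_dvd ψ)
    exact h5.dvd_of_dvd_mul_left (by norm_num at h3 ⊢; exact h3)
  have hcomm : ∀ x y : ψ.range, x * y = y * x := by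
    rcases (Nat.dvd_prime Nat.prime_three).mp hcard with h1 | h1
    · have h4 : Subsingleton ψ.range := (Nat.card_eq_one_iff_unique.mp h1).1
      intro x y
      exact Subsingleton.elim _ _
    · have : Fact (Nat.Prime 3) := ⟨Nat.prime_three⟩
      have h4 : IsCyclic ψ.range := isCyclic_of_prime_card h1
      let _ := h4.commGroup
      intro x y
      exact mul_comm x y
  have hcommR : commutator R = ⊤ := by
    apply Subgroup.map_injective R.subtype_injective
    rw [Subgroup.map_subtype_commutator, hR, ← MonoidHom.range_eq_map, Subgroup.range_subtype]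
  have htriv : ∀ r : R, ψ r = 1 := by
    intro r
    have h1 : commutator R ≤ ψ.rangeRestrict.ker := by
      rw [_root_.commutator_def, commutator_le]
      intro x _ y _
      rw [MonoidHom.mem_ker, map_commutatorElement, commutatorElement_eq_one_iff_mul_comm]
      exact hcomm _ _
    have h3 : r ∈ ψ.rangeRestrict.ker := h1 (hcommR ▸ mem_top r)
    exact congrArg Subtype.val h3
  apply Cfsg.Agent.S0029.result R P hRP
  · obtain ⟨n, hn⟩ := IsPGroup.iff_card.mp (h2.to_subgroup (frattini P))
    rw [hn]
    apply Nat.Coprime.pow_right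
    rwa [Nat.coprime_two_right]
  · intro r hr k hk
    have h1 := htriv ⟨r, hr⟩
    have h3 := congrArg (fun f : Equiv.Perm (P ⧸ frattini P) => f ((⟨k, hk⟩ : P) : P ⧸ frattini P)) h1
    have h4 : ((φ ⟨r, hr⟩ ⟨k, hk⟩ : P) : P ⧸ frattini P) = ((⟨k, hk⟩ : P) : P ⧸ frattini P) := h3
    have h5 : (φ ⟨r, hr⟩ ⟨k, hk⟩) * (⟨k, hk⟩ : P)⁻¹ ∈ frattini P := by
      rw [← QuotientGroup.eq_one_iff, QuotientGroup.mk_mul, h4, ← QuotientGroup.mk_mul,
        mul_inv_cancel, QuotientGroup.mk_one]
    exact ⟨_, h5, rfl⟩

/-- A perfect group `R` acting coprimely on a solvable group `H` all of whose Sylow subgroups are cyclic or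
generalized quaternion centralizes `H`. -/
theorem le_centralizer_of_sylow {G : Type*} [Group G] [Finite G] {R H : Subgroup G}
    (hR : ⁅R, R⁆ = R) (hRH : R ≤ normalizer (H : Set G)) (hcop : (Nat.card R).Coprime (Nat.card H))
    (hsol : Group.IsSolvable H)
    (hsyl : ∀ p : ℕ, p.Prime → ∀ P : Subgroup H, IsPGroup p P → IsCyclic P ∨
      (p = 2 ∧ ∃ m : ℕ, m ≠ 0 ∧ Nonempty (P ≃* QuaternionGroup (2 ^ m)))) :
    R ≤ centralizer (H : Set G) := by
  classical
  have key : ∀ p : ℕ, p.Prime → ∃ Q : Subgroup G, Q ≤ H ∧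
      Nat.card Q = p ^ (Nat.card H).factorization p ∧ Q ≤ centralizer (R : Set G) := by
    intro p hp
    have : Fact p.Prime := ⟨hp⟩
    obtain ⟨P, hP⟩ := Cfsg.Agent.S0023.result R H hRH hcop (Or.inr hsol) p
    have hcard : Nat.card ((P : Subgroup H).map H.subtype) = p ^ (Nat.card H).factorization p := by
      rw [card_map_of_injective H.subtype_injective, Sylow.card_eq_multiplicity]
    refine ⟨(P : Subgroup H).map H.subtype, map_subtype_le _, hcard, ?_⟩
    let e : (P : Subgroup H) ≃* (P : Subgroup H).map H.subtype :=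
      (P : Subgroup H).equivMapOfInjective _ H.subtype_injective
    have h1 : R ≤ centralizer ((P : Subgroup H).map H.subtype : Set G) := by
      rcases hsyl p hp P P.2 with hc | ⟨rfl, m, hm, ⟨f⟩⟩
      · have hc' : IsCyclic ((P : Subgroup H).map H.subtype) :=
          isCyclic_of_surjective (f := e.toMonoidHom) e.surjective
        have h2 := Cfsg.Agent.H521.ZCoprime.commutator_le_centralizer hP hP
        rwa [hR] at h2
      · have hodd : Odd (Nat.card R) := by
          rw [← Nat.coprime_two_right]
          apply Nat.Coprime.coprime_dvd_right _ hcop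
          have h3 : 2 ∣ Nat.card (P : Subgroup H) := by
            rw [Nat.card_congr f.toEquiv, Nat.card_eq_fintype_card, QuaternionGroup.card]
            exact Dvd.dvd.mul_right (by norm_num) _
          exact h3.trans (card_subgroup_dvd_card _)
        exact le_centralizer_of_quaternion hR hodd hP (e.symm.trans f) (P.2.map _)
    rwa [le_centralizer_iff]
  rw [le_centralizer_iff]
  have h1 : Nat.card H ∣ Nat.card (H ⊓ centralizer (R : Set G) : Subgroup G) := by
    rw [Nat.dvd_iff_prime_pow_dvd_dvd]
    intro q k hq hqk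
    obtain ⟨Q, hQH, hQc, hQR⟩ := key q hq
    have h3 : q ^ k ∣ Nat.card Q := by
      rw [hQc]
      apply Nat.pow_dvd_pow
      exact (hq.pow_dvd_iff_le_factorization Nat.card_pos.ne').mp hqk
    exact h3.trans (card_dvd_of_le (le_inf hQH hQR))
  have h4 : H ⊓ centralizer (R : Set G) = H := by
    apply eq_of_le_of_card_ge inf_le_left
    exact Nat.le_of_dvd Nat.card_pos h1
  exact inf_eq_left.mp h4

end Cfsg.Agent.H521.PerfAct
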