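import Mathlib
import Cfsg.Prelude.Def_Solvable
import Cfsg.Prelude.Def_OddOrderLocal
import Cfsg.Agent.StrongEmb.TransferCompl
import Cfsg.Agent.SolvableStructure.CarterSystem
import Cfsg.Agent.H521.TIHall

/-!
# `π`-separable groups with a TI-subgroup which is a Hall subgroup of its normalizer
-/

set_option autoImplicit false

namespace Cfsg.Agent.H521.PiSepTI

open Subgroup

variable {G : Type*} [Group G] [Finite G]

omit [Finite G] in
theorem card_eq_relIndex_mul {N W : Subgroup G} (h : N ≤ W) :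
    Nat.card W = N.relIndex W * Nat.card N := by
  have := relIndex_mul_relIndex ⊥ N W bot_le h
  rw [relIndex_bot_left, relIndex_bot_left, mul_comm] at this
  exact this.symm

omit [Finite G] in
theorem card_sup_dvd (K N : Subgroup G) [N.Normal] :
    Nat.card (K ⊔ N : Subgroup G) ∣ Nat.card K * Nat.card N := by
  rw [card_eq_relIndex_mul (le_sup_right : N ≤ K ⊔ N), relIndex_sup_right]
  exact Nat.mul_dvd_mul_right (relIndex_dvd_card _ _) _

/-- The largest normal subgroup of order prime to `n`. -/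
theorem core_spec (n : ℕ) {O : Subgroup G}
    (hO : O = sSup {K : Subgroup G | K.Normal ∧ (Nat.card K).Coprime n}) :
    O.Normal ∧ (Nat.card O).Coprime n ∧ ∀ K : Subgroup G, K.Normal → (Nat.card K).Coprime n → K ≤ O := by
  obtain ⟨K₀, ⟨hK₀, hK₀c⟩, hmax⟩ :=
    (Set.toFinite {K : Subgroup G | K.Normal ∧ (Nat.card K).Coprime n}).exists_maximal
      ⟨⊥, inferInstance, by rw [card_bot]; exact Nat.coprime_one_left n⟩
  have hle : ∀ K : Subgroup G, K.Normal → (Nat.card K).Coprime n → K ≤ K₀ := by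
    intro K hK hKc
    have h1 : K ⊔ K₀ ∈ {K : Subgroup G | K.Normal ∧ (Nat.card K).Coprime n} :=
      ⟨inferInstance, Nat.Coprime.coprime_dvd_left (card_sup_dvd K K₀) (Nat.Coprime.mul_left hKc hK₀c)⟩
    exact le_sup_left.trans (hmax h1 le_sup_right)
  have h2 : O = K₀ := by
    rw [hO]
    apply le_antisymm
    · exact sSup_le fun K hK => hle K hK.1 hK.2
    · exact le_sSup ⟨hK₀, hK₀c⟩
  subst h2
  exact ⟨hK₀, hK₀c, hle⟩

/-- First part of the structure theorem. -/
theorem structureA {H : Subgroup G} (hTI : Cfsg.IsTISubset (H : Set G)) (hnn : ¬ H.Normal)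
    (hHall : (Nat.card H).Coprime (H.subgroupOf (Subgroup.normalizer (H : Set G))).index)
    (hsep : ∃ (n : ℕ) (M : Fin (n + 1) → Subgroup G), M 0 = ⊥ ∧ M (Fin.last n) = ⊤ ∧ Monotone M ∧
      (∀ i, (M i).Normal) ∧
      ∀ i : Fin n, (∀ q : ℕ, q.Prime → q ∣ (M i.castSucc).relIndex (M i.succ) → q ∣ Nat.card H) ∨
        ((M i.castSucc).relIndex (M i.succ)).Coprime (Nat.card H))
    {O : Subgroup G} (hO : O = sSup {K : Subgroup G | K.Normal ∧ (Nat.card K).Coprime (Nat.card H)}) :
    O ⊔ Subgroup.normalizer (H : Set G) = ⊤ ∧ (O ⊔ H).Normal := by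
  classical
  obtain ⟨hOn, hOc, hOmax⟩ := core_spec (Nat.card H) hO
  have hH := Cfsg.Agent.H521.TIHall.hall_of_ti hTI hHall
  have hHb : H ≠ ⊥ := by
    rintro rfl
    exact hnn inferInstance
  obtain ⟨n, M, hM0, hMl, hMm, hMn, hMq⟩ := hsep
  obtain ⟨i, hi1, hi2⟩ : ∃ i : Fin n, M i.castSucc ≤ O ∧ ¬ M i.succ ≤ O := by
    by_contra hno
    push Not at hno
    have hall : ∀ i : Fin (n + 1), M i ≤ O := by
      intro i
      induction i using Fin.induction with
      | zero => rw [hM0]; exact bot_le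
      | succ i ih => exact hno i ih
    have h1 := hall (Fin.last n)
    rw [hMl] at h1
    have h2 : Nat.card H ∣ Nat.card O := card_dvd_of_le (le_top.trans h1)
    have h3 : Nat.card H = 1 := Nat.Coprime.eq_one_of_dvd hOc.symm h2
    exact hHb (Subgroup.card_eq_one.mp h3)
  have hMin := hMn i.succ
  set W : Subgroup G := O ⊔ M i.succ with hW
  have hWn : W.Normal := inferInstance
  have hOW : O ≤ W := le_sup_left
  have hq1 : O.relIndex W ∣ (M i.castSucc).relIndex (M i.succ) := by
    rw [hW, relIndex_sup_left]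
    exact relIndex_dvd_of_le_left _ hi1
  have hWO : ¬ W ≤ O := fun h => hi2 (le_sup_right.trans h)
  have hqpi : ∀ q : ℕ, q.Prime → q ∣ O.relIndex W → q ∣ Nat.card H := by
    rcases hMq i with h | h
    · exact fun q hq hqd => h q hq (hqd.trans hq1)
    · exfalso
      apply hWO
      apply hOmax W hWn
      rw [card_eq_relIndex_mul hOW]
      exact Nat.Coprime.mul_left (Nat.Coprime.coprime_dvd_left hq1 h) hOc
  have hne1 : O.relIndex W ≠ 1 := fun h => hWO (relIndex_eq_one.mp h)
  obtain ⟨p, hp, hpd⟩ := Nat.exists_prime_and_dvd hne1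
  have : Fact p.Prime := ⟨hp⟩
  have hpH := hqpi p hp hpd
  have hpW : p ∣ Nat.card W := hpd.trans (relIndex_dvd_card _ _)
  -- Frattini
  obtain ⟨P⟩ : Nonempty (Sylow p W) := inferInstance
  set P' : Subgroup G := (P : Subgroup W).map W.subtype with hP'
  have hfrat : normalizer (P' : Set G) ⊔ W = ⊤ := Sylow.normalizer_sup_eq_top P
  have hP'p : IsPGroup p P' := P.2.map _
  obtain ⟨c, hc⟩ := Cfsg.Agent.StrongEmb.TransferCompl.pGroup_conj_of_hall hH hp hpH hP'p
  obtain ⟨z, hz, hz1⟩ : ∃ z : G, z ∈ P' ∧ z ≠ 1 := by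
    have h1 : P' ≠ ⊥ := by
      intro h
      have h2 : Nat.card P' = p ^ (Nat.card W).factorization p := by
        rw [hP', card_map_of_injective W.subtype_injective, Sylow.card_eq_multiplicity]
      rw [h, card_bot] at h2
      exact (hp.factorization_pos_of_dvd Nat.card_pos.ne' hpW).ne'
        (Nat.pow_right_injective hp.two_le (by simpa using h2.symm))
    obtain ⟨z, hz⟩ := ne_bot_iff_exists_ne_one.mp h1
    exact ⟨z, z.2, fun h => hz (Subtype.ext h)⟩
  have hNP : ∀ g ∈ normalizer (P' : Set G), c * g * c⁻¹ ∈ normalizer (H : Set G) := by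
    intro g hg
    by_contra hgn
    have h1 : g * z * g⁻¹ ∈ P' := (mem_normalizer_iff.mp hg z).mp hz
    have h2 : c * g * c⁻¹ * (c * z * c⁻¹) * (c * g * c⁻¹)⁻¹ = c * (g * z * g⁻¹) * c⁻¹ := by group
    have h3 := hTI _ hgn (c * z * c⁻¹) (hc z hz) (by rw [h2]; exact hc _ h1)
    apply hz1
    have h4 : z = c⁻¹ * (c * z * c⁻¹) * c := by group
    rw [h4, h3]; group
  have hNW : normalizer (H : Set G) ⊔ W = ⊤ := by
    rw [eq_top_iff]
    intro x _
    have h1 : c⁻¹ * x * c ∈ normalizer (P' : Set G) ⊔ W := by rw [hfrat]; exact mem_top _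
    rw [mem_sup_of_normal_right] at h1
    obtain ⟨g, hg, w, hw, hgw⟩ := h1
    have h2 : x = (c * g * c⁻¹) * (c * w * c⁻¹) := by
      have h3 : x = c * (c⁻¹ * x * c) * c⁻¹ := by group
      rw [h3, ← hgw]; group
    rw [h2]
    exact mul_mem (mem_sup_left (hNP g hg)) (mem_sup_right (hWn.conj_mem w hw c))
  -- `W ≤ O H`
  have hWle : W ≤ O ⊔ H := by
    have h1 : (O ⊔ (H ⊓ W)).relIndex W = 1 := by
      by_contra hne
      obtain ⟨q, hq, hqd⟩ := Nat.exists_prime_and_dvd hne
      have h2 : q ∣ O.relIndex W := hqd.trans (relIndex_dvd_of_le_left _ le_sup_left)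
      have h3 : q ∣ H.relIndex W := by
        rw [← inf_relIndex_right]
        exact hqd.trans (relIndex_dvd_of_le_left _ le_sup_right)
      have h4 : H.relIndex W ∣ H.index := by
        rw [← Cfsg.Agent.SolvableStructure.CarterSystem.relIndex_sup_of_normal]
        exact relIndex_dvd_index_of_le le_sup_left
      have h5 := Nat.dvd_gcd (hqpi q hq h2) (h3.trans h4)
      rw [Nat.coprime_iff_gcd_eq_one.mp hH] at h5
      exact hq.one_lt.ne' (Nat.dvd_one.mp h5)
    exact (relIndex_eq_one.mp h1).trans (sup_le_sup_left inf_le_left _)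
  have htop : O ⊔ normalizer (H : Set G) = ⊤ := by
    rw [eq_top_iff, ← hNW]
    apply sup_le le_sup_right
    exact hWle.trans (sup_le_sup_left le_normalizer _)
  refine ⟨htop, ?_⟩
  rw [← normalizer_eq_top_iff, eq_top_iff, ← htop]
  apply sup_le
  · exact le_sup_left.trans le_normalizer
  · intro g hg
    have h1 := mem_normalizer_iff_map_conj_eq.mp hg
    have h2 : g ∈ normalizer (O : Set G) := by
      rw [normalizer_eq_top_iff.mpr hOn]
      exact mem_top g
    have h3 := mem_normalizer_iff_map_conj_eq.mp h2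
    rw [mem_normalizer_iff_map_conj_eq]
    exact (Subgroup.map_sup O H _).trans (congrArg₂ (· ⊔ ·) h3 h1)

end Cfsg.Agent.H521.PiSepTI
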